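import Cfsg.Agent.Lib.AbelianSylow.Chars.Sec
import Cfsg.Agent.Lib.AbelianSylow.Local.SectionData
import Cfsg.Agent.Lib.AbelianSylow.Three.Fpf

/-!
# The interface of the character computation holds (owner: helper80)

* `Torus.fusion_tor` : an element mapping `t, i` into `E × A` is `w^j h` or `w^j s h`
* `Torus.cent_le_tor` : `C(x) = E × A` for `x ∈ A#` if `w` fixes no point of `A#`
* `exists_sec`       : `Chars.Sec` from `JTData`, `q ≥ 25` and the fixed-point-free action
* `exists_sec'`      : `Chars.Sec` from `JTData` and `q ≥ 25`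
-/

set_option autoImplicit false
set_option linter.unusedSectionVars false
set_option linter.style.haveILetI false

namespace Cfsg.Agent.AbelianSylow.Local

open Cfsg Subgroup AbelianTwoPSL Involution

universe u

variable {G : Type u} [Group G] [Finite G] {F : Type} [Field F] [Fintype F]
variable {t : G} {L : Subgroup G} {a : ℕ} {S : Sylow 2 G} {V : Subgroup G} {i s y w u : G}

theorem Torus.torH_eq (T : Torus F t L a S V i s y) : Chars.torH t i (oddTor y) = tor t y := by
  refine le_antisymm (sup_le T.four_le_tor T.oddTor_le_tor) fun z hz => ?_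
  obtain ⟨e, he, x, hx, rfl⟩ := T.tor_split hz
  exact mul_mem (le_sup_left (b := oddTor y) he) (le_sup_right (a := zpowers t ⊔ zpowers i) hx)

/-- The involutions of `E × A` are those of `E`. -/
theorem Torus.mem_four_of_invol (T : Torus F t L a S V i s y) {z : G} (hz : z ∈ tor t y) (h2 : z * z = 1) :
    z ∈ four t i := by
  obtain ⟨e, he, x, hx, rfl⟩ := T.tor_split hz
  have hc : Commute e x := T.tor_comm (T.four_le_tor he) (T.oddTor_le_tor hx)
  have hee : e * e = 1 := T.frame.sq_A (T.four_le_sylow he)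
  have hxx : x * x = 1 := by
    rw [hc.symm.mul_mul_mul_comm e x, hee, one_mul] at h2
    exact h2
  rwa [PSL2.eq_one_of_sq (T.odd_oddTor hx) hxx, mul_one]

/-- An element mapping `t` and `i` into `E × A`. -/
theorem Torus.fusion_tor (T : Torus F t L a S V i s y) (C : Cyc t i y w u) {g : G}
    (h1 : g * t * g⁻¹ ∈ tor t y) (h2 : g * i * g⁻¹ ∈ tor t y) :
    ∃ j < 3, ∃ h ∈ tor t y, g = w ^ j * h ∨ g = w ^ j * (s * h) := by
  have hsq : ∀ z : G, z * z = 1 → g * z * g⁻¹ * (g * z * g⁻¹) = 1 := fun z hz => by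
    rw [conj_mul, hz, mul_one, mul_inv_cancel]
  have ht' := T.mem_four_of_invol h1 (hsq t T.fac.tt)
  have hi' := T.mem_four_of_invol h2 (hsq i T.ii)
  have hwfour : ∀ e ∈ four t i, w * e * w⁻¹ ∈ four t i := by
    intro e he
    rcases T.four_cases he with rfl | rfl | rfl | rfl
    · simp
    · rw [C.wt]; exact T.i_mem_four
    · rw [C.wi]; exact mul_mem T.t_mem_four T.i_mem_four
    · rw [C.wti T]; exact T.t_mem_four
  -- undo the action on `t` by a power of `w`
  have hj : ∃ j < 3, w ^ (3 - j) * (g * t * g⁻¹) * (w ^ (3 - j))⁻¹ = t := by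
    rcases T.four_cases ht' with e | e | e | e
    · exact absurd (conj_eq_one_iff.1 e) T.t_ne_one
    · exact ⟨0, by norm_num, by rw [e, show (3 : ℕ) - 0 = 3 from rfl, C.w3]; group⟩
    · refine ⟨1, by norm_num, ?_⟩
      rw [e, show (3 : ℕ) - 1 = 2 from rfl, pow_two,
        show w * w * i * (w * w)⁻¹ = w * (w * i * w⁻¹) * w⁻¹ by group, C.wi, C.wti T]
    · exact ⟨2, by norm_num, by rw [e, show (3 : ℕ) - 2 = 1 from rfl, pow_one, C.wti T]⟩
  obtain ⟨j, hj3, hj⟩ := hj
  set n := w ^ (3 - j) * g with hn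
  have hnt : Commute n t := mul_inv_eq_iff_eq_mul.1 (by
    rw [hn, show w ^ (3 - j) * g * t * (w ^ (3 - j) * g)⁻¹ =
      w ^ (3 - j) * (g * t * g⁻¹) * (w ^ (3 - j))⁻¹ by group, hj])
  have hpow : ∀ (k : ℕ), ∀ e ∈ four t i, w ^ k * e * (w ^ k)⁻¹ ∈ four t i := by
    intro k
    induction k with
    | zero => intro e he; simpa using he
    | succ k ih =>
      intro e he
      rw [pow_succ', show w * w ^ k * e * (w * w ^ k)⁻¹ = w * (w ^ k * e * (w ^ k)⁻¹) * w⁻¹ by group]
      exact hwfour _ (ih e he)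
  have hni : n * i * n⁻¹ ∈ four t i := by
    rw [hn, show w ^ (3 - j) * g * i * (w ^ (3 - j) * g)⁻¹ =
      w ^ (3 - j) * (g * i * g⁻¹) * (w ^ (3 - j))⁻¹ by group]
    exact hpow _ _ hi'
  have hg : g = w ^ j * n := by
    rw [hn, ← mul_assoc, ← pow_add, show j + (3 - j) = 3 by omega, C.w3, one_mul]
  rcases T.cent_four hnt (T.fix_i hnt hni) with hm | hm
  · exact ⟨j, hj3, n, hm, Or.inl hg⟩
  · exact ⟨j, hj3, s * n, hm, Or.inr (by rw [← mul_assoc s s n, T.frame.sq_V T.sV, one_mul]; exact hg)⟩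

/-- `C(x) = E × A` for `x ∈ A#` if `w` fixes no point of `A#`. -/
theorem Torus.cent_le_tor (T : Torus F t L a S V i s y) (C : Cyc t i y w u)
    (hfpf : ∀ x ∈ oddTor y, Commute w x → x = 1) {x : G} (hx : x ∈ oddTor y) (hx1 : x ≠ 1) :
    centralizer ({x} : Set G) = tor t y := by
  classical
  refine T.cent_eq_tor hx ?_
  by_contra hne
  haveI : Fact (Nat.Prime 2) := ⟨Nat.prime_two⟩
  set X := centralizer ({x} : Set G)
  have H := T.kleinAb hx hx1
  obtain ⟨P, hP⟩ := H.sylow
  have hnc : ¬ normalizer ((P : Subgroup X) : Set X) ≤ centralizer ((P : Subgroup X) : Set X) := by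
    intro hle
    have hcomp := MonoidHom.ker_transferSylow_isComplement' P hle
    set W := (MonoidHom.transferSylow P hle).ker
    have hodd : Odd (Nat.card W) :=
      Nat.odd_iff.2 (Nat.two_dvd_ne_zero.1 (MonoidHom.not_dvd_card_ker_transferSylow P hle))
    have hWA : W ≤ (oddTor y).subgroupOf X :=
      (T.oddCore_cent hx hx1) ▸ Cores.le_pPrimeCore (MonoidHom.normal_ker _) (Nat.coprime_two_right.2 hodd)
    have hcard := hcomp.card_mul_card
    rw [hP, H.card_E] at hcard
    have h1 : Nat.card W ≤ a := by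
      refine (card_le_of_le hWA).trans (le_of_eq ?_)
      rw [Nat.card_congr (subgroupOfEquivOfLe ((T.oddTor_le_tor).trans (T.tor_le_cent hx))).toEquiv,
        T.card_oddTor]
    have h2 : 4 * a ≤ Nat.card X := T.card_tor ▸ card_le_of_le (T.tor_le_cent hx)
    change Nat.card W * 4 = Nat.card X at hcard
    exact hne (by omega)
  obtain ⟨n, hn, hnC⟩ := SetLike.not_le_iff_exists.1 hnc
  have hmem : ∀ e ∈ four t i, ∃ he : e ∈ X, (⟨e, he⟩ : X) ∈ (P : Subgroup X) := fun e he =>
    ⟨T.tor_le_cent hx (T.four_le_tor he), hP ▸ he⟩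
  have hconj : ∀ e ∈ four t i, (n : G) * e * (n : G)⁻¹ ∈ four t i := fun e he => by
    obtain ⟨he', heP⟩ := hmem e he
    have := (mem_normalizer_iff.1 hn _).1 heP
    rw [hP] at this
    exact this
  obtain ⟨j, hj, h, hh, hcases⟩ := T.fusion_tor C (T.four_le_tor (hconj t T.t_mem_four))
    (T.four_le_tor (hconj i T.i_mem_four))
  have hhx : h * x * h⁻¹ = x := by rw [(T.tor_comm hh (T.oddTor_le_tor hx)).eq, mul_inv_cancel_right]
  have hnx : (n : G) * x * (n : G)⁻¹ = x := mul_inv_eq_iff_eq_mul.2 (mem_centralizer_singleton_iff.1 n.2)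
  rcases Nat.eq_zero_or_pos j with rfl | hj0
  · rw [pow_zero, one_mul, one_mul] at hcases
    rcases hcases with e | e
    · refine hnC (mem_centralizer_iff.2 fun z hz => Subtype.ext ?_)
      rw [hP] at hz
      exact ((T.tor_comm (e ▸ hh) (T.four_le_tor hz)).symm).eq
    · rw [e, show s * h * x * (s * h)⁻¹ = s * (h * x * h⁻¹) * s⁻¹ by group, hhx, T.s_inv hx,
        inv_eq_iff_mul_eq_one] at hnx
      exact hx1 (PSL2.eq_one_of_sq (T.odd_oddTor hx) hnx)
  · -- `v = w ^ j` maps `x` to `x` or `x⁻¹`, so `v²` fixes `x`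
    set v := w ^ j with hv
    have hvx : v * x * v⁻¹ = x ∨ v * x * v⁻¹ = x⁻¹ := by
      rcases hcases with e | e
      · left
        rw [e, show v * h * x * (v * h)⁻¹ = v * (h * x * h⁻¹) * v⁻¹ by group, hhx] at hnx
        exact hnx
      · right
        rw [e, show v * (s * h) * x * (v * (s * h))⁻¹ = v * (s * (h * x * h⁻¹) * s⁻¹) * v⁻¹ by group,
          hhx, T.s_inv hx, show v * x⁻¹ * v⁻¹ = (v * x * v⁻¹)⁻¹ by group, inv_eq_iff_eq_inv] at hnx
        exact hnx
    have hv2 : Commute (v ^ 2) x := mul_inv_eq_iff_eq_mul.1 (by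
      rw [pow_two, show v * v * x * (v * v)⁻¹ = v * (v * x * v⁻¹) * v⁻¹ by group]
      rcases hvx with e | e
      · rw [e, e]
      · rw [e, show v * x⁻¹ * v⁻¹ = (v * x * v⁻¹)⁻¹ by group, e, inv_inv])
    have hw : w = (v ^ 2) ^ (3 - j) := by
      rw [hv, ← pow_mul, ← pow_mul]
      obtain rfl | rfl : j = 1 ∨ j = 2 := by omega
      · show w = w ^ 4
        rw [pow_succ, C.w3, one_mul]
      · show w = w ^ 4
        rw [pow_succ, C.w3, one_mul]
    exact hx1 (hfpf x hx (hw ▸ hv2.pow_left _))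

end Cfsg.Agent.AbelianSylow.Local

namespace Cfsg.Agent.AbelianSylow.Chars

open Cfsg Subgroup AbelianTwoPSL Involution Local

universe u

variable {G : Type u} [Group G] [Finite G] {F : Type} [Field F] [Fintype F]

/-- `Sec` from the Janko-Thompson situation and the fixed-point-free action. -/
theorem exists_sec {t : G} (hJ : JTData G t F) (h25 : 25 ≤ Fintype.card F)
    (hfpf : ∀ (L : Subgroup G) (a : ℕ) (S : Sylow 2 G) (V : Subgroup G) (i s y w u : G),
      Torus F t L a S V i s y → Cyc t i y w u → ∀ x ∈ oddTor y, Commute w x → x = 1) :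
    ∃ (i r w : G) (K U A T : Subgroup G) (a M : ℕ) (Q : ℤ),
      Sec t i r w K U A T (Fintype.card F) a M Q ∧
      (Fintype.card F % 8 = 3 → Q = Fintype.card F) ∧
      (Fintype.card F % 8 = 5 → Q = -(Fintype.card F : ℤ)) := by
  classical
  obtain ⟨L, hL⟩ := exists_lfac hJ
  obtain ⟨a, S, V, i, s, y, T⟩ := exists_torus hL
  obtain ⟨w, u, C⟩ := T.exists_cyc
  have hfix := hfpf L a S V i s y w u T C
  obtain ⟨b, -, hb⟩ := hL.coTorus_param
  obtain ⟨U, hUL, hUcard, hUcomm, hUcent, hUnorm, hUinv⟩ := hL.exists_U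
  obtain ⟨T₀, hTL, hTcard, hTcomm, hTcent, hTconj, hTinv⟩ := hL.exists_T (by omega) hb
  set q := Fintype.card F with hqdef
  set Q : ℤ := if q % 8 = 3 then (q : ℤ) else -(q : ℤ) with hQ
  have hQ3 : q % 8 = 3 → Q = q := fun e => by rw [hQ, if_pos e]
  have hQ5 : q % 8 = 5 → Q = -(q : ℤ) := fun e => by rw [hQ, if_neg (by omega)]
  have hm := hJ.mod8
  have hset : torH t i (oddTor y) = tor t y := T.torH_eq
  have hiL : i ∈ L := T.frame.memE₀ T.iV
  have hsL : s ∈ L := T.frame.memE₀ T.sV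
  -- `C_L(x)` for `x ∈ A#`
  have hLtor : ∀ k ∈ L, k ∈ tor t y → k ∈ oddTor y ∨ i * k ∈ oddTor y := by
    intro k hk hkt
    obtain ⟨e, he, z, hz, rfl⟩ := T.tor_split hkt
    have heL : e ∈ L := (mul_mem_cancel_right (T.oddTor_le hz)).1 hk
    rcases T.four_cases he with rfl | rfl | rfl | rfl
    · exact Or.inl (by rwa [one_mul])
    · exact absurd heL T.fac.ctx.htE
    · exact Or.inr (by rwa [← mul_assoc, T.ii, one_mul])
    · exact absurd ((mul_mem_cancel_right hiL).1 heL) T.fac.ctx.htE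
  have hAconj : ∀ x ∈ oddTor y, x ≠ 1 → ∀ k ∈ L, k * x * k⁻¹ ∈ oddTor y →
      k * x * k⁻¹ = x ∨ k * x * k⁻¹ = x⁻¹ := by
    intro x hx hx1 k hk hkx
    have hx' : k * x * k⁻¹ ≠ 1 := fun e => hx1 (conj_eq_one_iff.1 e)
    have hix : Commute (k * i * k⁻¹) (k * x * k⁻¹) :=
      (T.tor_comm (T.four_le_tor T.i_mem_four) (T.oddTor_le_tor hx)).map (MulAut.conj k).toMonoidHom
    have hkL : k * i * k⁻¹ ∈ L := mul_mem (mul_mem hk hiL) (inv_mem hk)
    have hi4 := T.mem_four_of_invol (T.cent_t hkx hx' hix (hL.ctx.comm _ hkL))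
      (by rw [conj_mul, T.ii, mul_one, mul_inv_cancel])
    have hki := T.fix_i (hL.ctx.comm k hk) hi4
    rcases T.cent k hk hki with hy | hy
    · left
      rw [(T.tor_comm (le_sup_right (a := zpowers t) hy) (T.oddTor_le_tor hx)).eq, mul_inv_cancel_right]
    · right
      have hy' : (s * k) * x * (s * k)⁻¹ = x := by
        rw [(T.tor_comm (le_sup_right (a := zpowers t) hy) (T.oddTor_le_tor hx)).eq, mul_inv_cancel_right]
      have e : k * x * k⁻¹ = s⁻¹ * ((s * k) * x * (s * k)⁻¹) * s := by group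
      have hs' : s⁻¹ = s := inv_eq_of_mul_eq_one_right (T.frame.sq_V T.sV)
      have hinv := T.s_inv hx
      rw [hs'] at hinv
      rw [e, hy', hs', hinv]
  have hinvol : 2 * (Nat.card {k : L // orderOf k = 2} : ℤ) = Q * (Q - 1) := by
    have h1 := hL.card_invol T.hq
    have h2 := hL.card_L
    have h1' : 4 * (a : ℤ) * (2 * (Nat.card {k : L // orderOf k = 2} : ℤ)) =
        (q : ℤ) * (((q : ℤ) + 1) * ((q : ℤ) - 1)) := by
      have : 4 * a * (2 * Nat.card {k : L // orderOf k = 2}) = q * ((q + 1) * (q - 1)) := by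
        rw [← h2, ← h1]; ring
      have h1q : 1 ≤ q := by omega
      generalize Nat.card {k : L // orderOf k = 2} = N at this ⊢
      zify [h1q] at this
      exact this
    have ha : (a : ℤ) ≠ 0 := by exact_mod_cast T.a_pos.ne'
    rcases T.hq with ⟨h8, e⟩ | ⟨h8, e⟩
    · rw [hQ3 h8]
      have e' : (q : ℤ) + 1 = 4 * a := by exact_mod_cast e
      rw [e'] at h1'
      exact mul_left_cancel₀ (mul_ne_zero four_ne_zero ha) (by linear_combination h1')
    · rw [hQ5 h8]
      have e' : (q : ℤ) = 4 * a + 1 := by exact_mod_cast e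
      refine mul_left_cancel₀ (mul_ne_zero four_ne_zero ha) (h1'.trans ?_)
      rw [e']
      ring
  refine ⟨i, s, w, L, U, oddTor y, T₀, a, b, Q, ?_, hQ3, hQ5⟩
  refine
    { simple := hJ.simple
      nonab := ?_
      sylow8 := fun P => (hJ.sylow P).2
      sylow_sq := fun P x hx => by rw [← pow_two]; exact (hJ.sylow P).1.2 x hx
      order_t := hJ.invol
      one_class := fun x hx => isConj_iff.2 (hL.conj_invol hx)
      comm_K := fun k hk => (hL.ctx.comm k hk).symm
      t_not_mem := hL.ctx.htE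
      cases := ?_
      prime_pow := ?_
      le := h25
      abs_Q := ?_
      mod8 := ?_
      four_a := ?_
      two_M := ?_
      card_K := ?_
      invol_K := hinvol
      U_le := hUL
      card_U := hUcard
      U_comm := hUcomm
      U_cent := hUcent
      U_norm := hUnorm
      U_inv := ?_
      T_le := hTL
      card_T := hTcard
      T_comm := hTcomm
      T_cent := hTcent
      T_conj := hTconj
      T_inv := hTinv
      A_le := T.oddTor_le
      card_A := T.card_oddTor
      A_comm := fun x hx z hz => (T.tor_comm (T.oddTor_le_tor hx) (T.oddTor_le_tor hz)).eq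
      A_cent := fun x hx hx1 k hk hkx => hLtor k hk (T.cent_t hx hx1 hkx (hL.ctx.comm k hk))
      A_conj := hAconj
      i_mem := hiL
      order_i := T.frame.orderOf_V T.iV T.i_ne
      comm_iA := fun x hx => T.tor_comm (T.four_le_tor T.i_mem_four) (T.oddTor_le_tor hx)
      r_mem := hsL
      r_sq := T.frame.sq_V T.sV
      r_i := T.commute_si
      r_not := hset.symm ▸ T.s_not_mem_tor
      r_inv := fun x hx => T.s_inv hx
      w_cube := C.w3
      w_t := C.wt
      w_i := C.wi
      w_A := fun x hx => (T.cycle_oddTor C.wt C.wi hx).1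
      fpf := hfix
      cent_A := ?_
      fusion := ?_ }
  · by_contra hcon
    push Not at hcon
    exact hJ.nonab ⟨⟨hcon⟩⟩
  · intro g hg
    rcases hL.ctx.split g hg with h | ⟨e, he, rfl⟩
    · exact Or.inl h
    · exact Or.inr (by rwa [← mul_assoc, hL.tt, one_mul])
  · rw [hqdef, ← Nat.card_eq_fintype_card]
    exact FiniteField.isPrimePow_card F |> fun h => by rwa [Nat.card_eq_fintype_card]
  · rcases hm with h | h
    · rw [hQ3 h, Int.natAbs_natCast]
    · rw [hQ5 h, Int.natAbs_neg, Int.natAbs_natCast]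
  · rcases hm with h | h
    · rw [hQ3 h]; omega
    · rw [hQ5 h]; omega
  · rcases T.hq with ⟨h, e⟩ | ⟨h, e⟩
    · rw [hQ3 h]; omega
    · rw [hQ5 h]; omega
  · rcases hb with ⟨h, e⟩ | ⟨h, e⟩
    · rw [hQ3 h]; omega
    · rw [hQ5 h]; omega
  · rw [hL.card_L, ← Nat.sq_sub_sq q 1, one_pow]
  · intro x hx hx1
    obtain ⟨h3, h5⟩ := hUinv x hx hx1
    rcases hm with h | h
    · rw [h3 h, hQ3 h]; simp
    · rw [h5 h, hQ5 h]; ring
  · intro x hx hx1 g hg
    rw [hset, ← T.cent_le_tor C hfix hx hx1]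
    exact mem_centralizer_singleton_iff.2 hg.eq
  · intro g h1 h2
    rw [hset] at h1 h2 ⊢
    exact T.fusion_tor C h1 h2

/-- `Sec` from the Janko-Thompson situation. -/
theorem exists_sec' {t : G} (hJ : JTData G t F) (h25 : 25 ≤ Fintype.card F) :
    ∃ (i r w : G) (K U A T : Subgroup G) (a M : ℕ) (Q : ℤ),
      Sec t i r w K U A T (Fintype.card F) a M Q ∧
      (Fintype.card F % 8 = 3 → Q = Fintype.card F) ∧
      (Fintype.card F % 8 = 5 → Q = -(Fintype.card F : ℤ)) :=
  exists_sec hJ h25 fun _ _ _ _ _ _ _ _ _ T C _ hx hwx => T.eq_one_of_commute C hx hwx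

end Cfsg.Agent.AbelianSylow.Chars
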