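import Cfsg.Agent.EqLemmas
import Mathlib

/-!
# The arithmetic of the character computation (owner: helper56; `PROOF.md`, section 5)

Degrees are signed (the sign of the coefficient), `Q ≡ 3 (mod 8)`, `h = (Q - 1) / 2`.

* `Cases.w_pair`    : two members of `W` with value `h` are equal: `u = u' = -m`, `D = 2 m`
* `Cases.w_zero`    : `W` has no member with value zero beside one with value `Q - 1`
* `Cases.two_order` : case (ii) gives `A = Q² - Q + 1`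
* `Cases.two_neg`   : case (ii) is impossible for `Q < 0`
* `Cases.one_false` : case (I) is impossible
* `Cases.three_eq`  : case (i) gives the equation `(E)`
* `Cases.three_false` : case (i) is impossible
-/

set_option autoImplicit false

namespace Cfsg.Agent.AbelianSylow.Chars.Cases

/-- `|C(t)|² / (s |G|)` with `|G| = q³ (Q + 1) D`. -/
def tau (Q D : ℤ) : ℚ := ((Q : ℚ) + 1) * ((Q : ℚ) - 1) ^ 2 / ((Q : ℚ) * D)

/-- Two members of `W` with value `h`. -/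
theorem w_pair {Q h u u' D : ℤ} (hh : 2 * h = Q - 1) (h0 : h ≠ 0) (hu : u ≠ 0) (hu' : u' ≠ 0) (hD : D ≠ 0)
    (hs : u + u' = -D)
    (hm : (h : ℚ) ^ 2 / u + (h : ℚ) ^ 2 / u' + ((Q : ℚ) - 1) ^ 2 / D = 0) : u' = u ∧ D = -2 * u := by
  have hh' : (Q : ℚ) - 1 = 2 * h := by exact_mod_cast hh.symm
  have hD' : (D : ℚ) = -((u : ℚ) + u') := by exact_mod_cast (show D = -(u + u') by omega)
  have hu0 : (u : ℚ) ≠ 0 := Int.cast_ne_zero.2 hu
  have hu0' : (u' : ℚ) ≠ 0 := Int.cast_ne_zero.2 hu'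
  have hD0 : (D : ℚ) ≠ 0 := Int.cast_ne_zero.2 hD
  rw [hh'] at hm
  field_simp at hm
  rw [hD'] at hm
  have h2 : (h : ℚ) ^ 2 * ((u : ℚ) - u') ^ 2 = 0 := by linear_combination -hm
  have h3 : (u : ℚ) - u' = 0 :=
    (pow_eq_zero_iff two_ne_zero).1 ((mul_eq_zero.1 h2).resolve_left (pow_ne_zero _ (Int.cast_ne_zero.2 h0)))
  have h4 : u = u' := by exact_mod_cast sub_eq_zero.1 h3
  exact ⟨h4.symm, by omega⟩

/-- A member of value zero beside one of value `Q - 1`. -/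
theorem w_zero {Q w₁ w₂ D : ℤ} (hQ : Q ≠ 1) (h₁ : w₁ ≠ 0) (h₂ : w₂ ≠ 0) (hD : D ≠ 0) (hs : w₁ + w₂ = -D)
    (hm : ((Q : ℚ) - 1) ^ 2 / w₁ + ((Q : ℚ) - 1) ^ 2 / D = 0) : False := by
  have h1 : (w₁ : ℚ) ≠ 0 := Int.cast_ne_zero.2 h₁
  have h2 : (D : ℚ) ≠ 0 := Int.cast_ne_zero.2 hD
  field_simp at hm
  have hQ' : ((Q : ℚ) - 1) ^ 2 ≠ 0 := pow_ne_zero _ (sub_ne_zero.2 (by exact_mod_cast hQ))
  have h3 : ((D + w₁ : ℤ) : ℚ) = 0 := by
    push_cast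
    exact (mul_eq_zero.1 (show ((Q : ℚ) - 1) ^ 2 * ((D : ℚ) + w₁) = 0 by linear_combination hm)).resolve_left hQ'
  have : D + w₁ = 0 := by exact_mod_cast h3
  omega

/-- Case (ii): `a` has value `1`, `b, c` value `Q`. -/
theorem two_order {Q a b c D : ℤ} (hQ : 2 ≤ |Q|) (ha : a ≠ 0) (hb : b ≠ 0) (hc : c ≠ 0) (hD : D ≠ 0)
    (hDab : D = a - b) (hdeg : 1 + a + b + c = 0)
    (hf : -1 / (a : ℚ) + (Q : ℚ) ^ 2 / b + ((Q : ℚ) - 1) ^ 2 / D = 0)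
    (h0 : 1 + 1 / (a : ℚ) + (Q : ℚ) ^ 2 / b + (Q : ℚ) ^ 2 / c = ((Q : ℚ) - 1) * tau Q D) :
    a = -(Q ^ 2 - Q + 1) ∧ b = Q * a ∧ c = Q ^ 3 ∧ D = (Q - 1) * (Q ^ 2 - Q + 1) := by
  have hQ0 : Q ≠ 0 := fun e => by rw [e, abs_zero] at hQ; omega
  have hQ1 : Q + 1 ≠ 0 := fun e => by rw [show Q = -1 by omega] at hQ; norm_num at hQ
  have ea : (a : ℚ) ≠ 0 := Int.cast_ne_zero.2 ha
  have eb : (b : ℚ) ≠ 0 := Int.cast_ne_zero.2 hb
  have ec : (c : ℚ) ≠ 0 := Int.cast_ne_zero.2 hc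
  have eD : (D : ℚ) ≠ 0 := Int.cast_ne_zero.2 hD
  have eQ : (Q : ℚ) ≠ 0 := Int.cast_ne_zero.2 hQ0
  have hD' : (D : ℚ) = a - b := by exact_mod_cast hDab
  field_simp at hf
  rw [hD'] at hf
  have h2 : ((b : ℚ) - Q * a) ^ 2 = 0 := by linear_combination hf
  have hbQ : b = Q * a := by
    have := sub_eq_zero.1 ((pow_eq_zero_iff two_ne_zero).1 h2)
    exact_mod_cast this
  have hcv : c = -1 - (Q + 1) * a := by rw [hbQ] at hdeg; linarith
  have hbr : (b : ℚ) = Q * a := by exact_mod_cast hbQ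
  have hcr : (c : ℚ) = -1 - a * (Q + 1) := by rw [mul_comm (a : ℚ)]; exact_mod_cast hcv
  have hDr : (D : ℚ) = a * (1 - Q) := by rw [hD', hbr]; ring
  have hQm : (1 : ℚ) - Q ≠ 0 := fun e => eD (by rw [hDr, e, mul_zero])
  rw [hcr] at ec
  rw [tau, hbr, hcr, hDr] at h0
  field_simp at h0
  have hprod : (1 - (Q : ℚ)) * ((Q : ℚ) + 1) * (((Q : ℚ) * a + 1) * ((a : ℚ) + (Q ^ 2 - Q + 1))) = 0 := by
    linear_combination -h0
  have h3 : (Q * a + 1) * (a + (Q ^ 2 - Q + 1)) = 0 := by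
    have := (mul_eq_zero.1 hprod).resolve_left (mul_ne_zero hQm (by exact_mod_cast hQ1))
    exact_mod_cast this
  have hQa : Q * a + 1 ≠ 0 := fun e => by
    rcases Int.eq_one_or_neg_one_of_mul_eq_neg_one (show Q * a = -1 by omega) with e' | e' <;>
      rw [e'] at hQ <;> norm_num at hQ
  have hA : a = -(Q ^ 2 - Q + 1) := by linarith [(mul_eq_zero.1 h3).resolve_left hQa]
  refine ⟨hA, hbQ, ?_, ?_⟩
  · rw [hcv, hA]; ring
  · rw [hDab, hbQ, hA]; ring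

/-- Case (ii) for `Q < 0`. -/
theorem two_neg {Q h a b c u v D : ℤ} (hh : 2 * h = Q - 1) (hQ : Q < -1) (ha : a ≠ 0) (hb : b ≠ 0) (hc : c ≠ 0)
    (hu : u ≠ 0) (hv : v ≠ 0) (hD : D ≠ 0) (hDab : D = a - b) (hdeg : 1 + a + b + c = 0)
    (hdeg' : b + c + u + v = 0)
    (hf : -1 / (a : ℚ) + (Q : ℚ) ^ 2 / b + ((Q : ℚ) - 1) ^ 2 / D = 0)
    (h0 : 1 + 1 / (a : ℚ) + (Q : ℚ) ^ 2 / b + (Q : ℚ) ^ 2 / c = ((Q : ℚ) - 1) * tau Q D)
    (h1 : (Q : ℚ) ^ 2 / b + (Q : ℚ) ^ 2 / c + (h : ℚ) ^ 2 / u + (h : ℚ) ^ 2 / v =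
      tau Q D * (3 * (Q : ℚ) - 1) / ((Q : ℚ) + 1)) : False := by
  obtain ⟨hA, hB, hC, hDv⟩ := two_order (by rw [abs_of_neg (by omega)]; omega) ha hb hc hD hDab hdeg hf h0
  set A : ℚ := (Q : ℚ) ^ 2 - Q + 1 with hAd
  have hQr : (Q : ℚ) < -1 := by exact_mod_cast hQ
  have hA0 : 0 < A := by rw [hAd]; nlinarith
  have eb : (b : ℚ) = -(Q * A) := by rw [hB, hA, hAd]; push_cast; ring
  have ec : (c : ℚ) = (Q : ℚ) ^ 3 := by rw [hC]; push_cast; ring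
  have eD : (D : ℚ) = ((Q : ℚ) - 1) * A := by rw [hDv, hAd]; push_cast; ring
  have eh : (h : ℚ) = ((Q : ℚ) - 1) / 2 := by
    have : 2 * (h : ℚ) = (Q : ℚ) - 1 := by exact_mod_cast hh
    linarith
  have es : (u : ℚ) + v = -(Q * ((Q : ℚ) - 1)) := by
    have : (b : ℚ) + c + u + v = 0 := by exact_mod_cast hdeg'
    rw [eb, ec, hAd] at this
    linarith [this, show (Q : ℚ) * ((Q : ℚ) ^ 2 - Q + 1) = (Q : ℚ) ^ 3 - Q * ((Q : ℚ) - 1) by ring]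
  have hQ0 : (Q : ℚ) ≠ 0 := by linarith
  have hQ1 : (Q : ℚ) + 1 ≠ 0 := by linarith
  have hQm : (Q : ℚ) - 1 ≠ 0 := by linarith
  have hu0 : (u : ℚ) ≠ 0 := Int.cast_ne_zero.2 hu
  have hv0 : (v : ℚ) ≠ 0 := Int.cast_ne_zero.2 hv
  rw [tau, eb, ec, eD, eh] at h1
  field_simp at h1
  have hsq : ((u : ℚ) - v) ^ 2 = ((Q : ℚ) - 1) ^ 2 * Q * ((Q : ℚ) + 1) ^ 2 / 3 := by
    have huv : 12 * ((u : ℚ) * v) = -(((Q : ℚ) - 1) ^ 2 * Q * A) := by
      have e : (Q : ℚ) * (Q - 1) * (12 * ((u : ℚ) * v) + ((Q : ℚ) - 1) ^ 2 * Q * A) = 0 := by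
        rw [hAd] at h1 ⊢
        have ev : (v : ℚ) = -(Q * ((Q : ℚ) - 1)) - u := by linarith
        rw [ev] at h1 ⊢
        linear_combination -h1
      have := (mul_eq_zero.1 e).resolve_left (mul_ne_zero hQ0 hQm)
      linarith
    have hv' : ((u : ℚ) - v) ^ 2 = ((u : ℚ) + v) ^ 2 - 4 * (u * v) := by ring
    rw [hv', es, hAd] at *
    linear_combination -huv / 3
  have hneg : ((Q : ℚ) - 1) ^ 2 * Q * ((Q : ℚ) + 1) ^ 2 / 3 < 0 := by
    have h1' : 0 < ((Q : ℚ) - 1) ^ 2 * ((Q : ℚ) + 1) ^ 2 := by positivity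
    nlinarith
  linarith [sq_nonneg ((u : ℚ) - v)]

/-- Case (I): `x = -X`, `y = z = (X - 1) / 2`, `v = m + (1 + X) / 2`, `D = 2 m`. -/
theorem one_false {Q h X y v m : ℤ} (hh : 2 * h = Q - 1) (hQ : 7 ≤ |Q|) (hy : 2 * y = X - 1)
    (hvm : 2 * v = 2 * m + 1 + X)
    (hm : (Q : ℚ) ^ 2 / ((-X : ℤ) : ℚ) + (((Q : ℚ) + 1) / 2) ^ 2 / y + ((Q : ℚ) - 1) ^ 2 / v +
      (h : ℚ) ^ 2 / ((-m : ℤ) : ℚ) = tau Q (2 * m) * (3 * (Q : ℚ) - 1) / ((Q : ℚ) + 1))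
    (hpos : 0 < Q → 3 ≤ X ∧ 0 < m) (hneg : Q < 0 → X ≤ -3 ∧ m < 0) : False := by
  have hQ0 : (Q : ℚ) ≠ 0 := by
    simp only [ne_eq, Int.cast_eq_zero]; rintro rfl; norm_num at hQ
  have hQ1 : (Q : ℚ) + 1 ≠ 0 := by
    intro e
    have : Q = -1 := by exact_mod_cast (eq_neg_of_add_eq_zero_left e)
    rw [this] at hQ; norm_num at hQ
  have ey : (y : ℚ) = ((X : ℚ) - 1) / 2 := by
    have : 2 * (y : ℚ) = (X : ℚ) - 1 := by exact_mod_cast hy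
    linarith
  have eh : (h : ℚ) = ((Q : ℚ) - 1) / 2 := by
    have : 2 * (h : ℚ) = (Q : ℚ) - 1 := by exact_mod_cast hh
    linarith
  set P : ℚ := (((Q : ℚ) - 1) / 2) ^ 2 with hP
  have hm0 : (m : ℚ) ≠ 0 := by
    simp only [ne_eq, Int.cast_eq_zero]
    rcases lt_or_ge 0 Q with h | h
    · have := (hpos h).2; omega
    · have := (hneg (lt_of_le_of_ne h (by simpa using hQ0))).2; omega
  have key : 2 * (Q : ℚ) ^ 2 / X - ((Q : ℚ) + 1) ^ 2 / ((X : ℚ) - 1) = 8 * (P / v) - (14 - 4 / (Q : ℚ)) * (P / m) := by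
    have e1 : tau Q (2 * m) * (3 * (Q : ℚ) - 1) / ((Q : ℚ) + 1) = (6 - 2 / (Q : ℚ)) * (P / m) := by
      rw [tau, hP]; push_cast; field_simp; ring
    rw [e1, ey, eh] at hm
    push_cast at hm
    have e2 : (((Q : ℚ) + 1) / 2) ^ 2 / (((X : ℚ) - 1) / 2) = ((Q : ℚ) + 1) ^ 2 / ((X : ℚ) - 1) / 2 := by
      field_simp
    have e3 : ((Q : ℚ) - 1) ^ 2 / v = 4 * (P / v) := by rw [hP]; ring
    rw [e2, e3, div_neg, div_neg, ← hP] at hm
    linear_combination -2 * hm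
  rcases lt_or_ge 0 Q with hQp | hQn
  · obtain ⟨hX, hm'⟩ := hpos hQp
    have q7 : (7 : ℚ) ≤ Q := by rw [abs_of_pos hQp] at hQ; exact_mod_cast hQ
    have x3 : (3 : ℚ) ≤ X := by exact_mod_cast hX
    have mp : (0 : ℚ) < m := by exact_mod_cast hm'
    have hv : (m : ℚ) ≤ v := by exact_mod_cast (show m ≤ v by omega)
    have l1 : 0 < 2 * (Q : ℚ) ^ 2 / X - ((Q : ℚ) + 1) ^ 2 / ((X : ℚ) - 1) := by
      rw [sub_pos, div_lt_div_iff₀ (by linarith) (by linarith)]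
      nlinarith [mul_le_mul_of_nonneg_right x3 (show 0 ≤ (Q : ℚ) ^ 2 - 2 * Q - 1 by nlinarith)]
    have hP0 : 0 < P := by rw [hP]; exact pow_pos (by linarith) 2
    have r1 : P / v ≤ P / m := div_le_div_of_nonneg_left hP0.le mp hv
    have r2 : 4 / (Q : ℚ) < 4 := by rw [div_lt_iff₀ (by linarith)]; linarith
    nlinarith [div_pos hP0 mp]
  · have hQlt : Q < 0 := lt_of_le_of_ne hQn (by simpa using hQ0)
    obtain ⟨hX, hm'⟩ := hneg hQlt
    have q7 : (Q : ℚ) ≤ -7 := by rw [abs_of_neg hQlt] at hQ; exact_mod_cast (show Q ≤ -7 by omega)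
    have x3 : (X : ℚ) ≤ -3 := by exact_mod_cast hX
    have mp : (m : ℚ) < 0 := by exact_mod_cast hm'
    have hv : (v : ℚ) ≤ m := by exact_mod_cast (show v ≤ m by omega)
    have l1 : 2 * (Q : ℚ) ^ 2 / X - ((Q : ℚ) + 1) ^ 2 / ((X : ℚ) - 1) < 0 := by
      rw [sub_neg, ← neg_div_neg_eq (2 * (Q : ℚ) ^ 2), ← neg_div_neg_eq (((Q : ℚ) + 1) ^ 2), neg_div, neg_div,
        neg_lt_neg_iff, div_lt_div_iff₀ (by linarith) (by linarith)]
      nlinarith [mul_nonneg (show 0 ≤ -(X : ℚ) by linarith) (show 0 ≤ (Q : ℚ) ^ 2 - 2 * Q - 1 by nlinarith)]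
    have hP0 : 0 < P := by rw [hP]; exact pow_two_pos_of_ne_zero (by linarith)
    have r1 : P / m ≤ P / v := by
      rw [← neg_div_neg_eq P m, ← neg_div_neg_eq P v, neg_div, neg_div, neg_le_neg_iff]
      exact div_le_div_of_nonneg_left hP0.le (by linarith) (by linarith)
    have r2 : 0 < -(4 / (Q : ℚ)) := by rw [← neg_div, div_pos_iff]; exact Or.inr ⟨by norm_num, by linarith⟩
    nlinarith [div_neg_of_pos_of_neg hP0 mp]

/-- Case (i): `a = -A`, `u = -m`, the members of value `Q` cancel between the two moments. -/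
theorem three_eq {Q h A v m μ : ℤ} {S : ℚ} (hh : 2 * h = Q - 1) (h0' : h ≠ 0) (hQ0 : Q ≠ 0) (hQ1 : Q + 1 ≠ 0)
    (hA : A ≠ 0) (hv : v ≠ 0) (hm : m = h * μ) (hμ : μ ≠ 0)
    (h0 : 1 + 1 / ((-A : ℤ) : ℚ) + S = ((Q : ℚ) - 1) * tau Q (2 * m))
    (h1 : S + (h : ℚ) ^ 2 / v + (h : ℚ) ^ 2 / ((-m : ℤ) : ℚ) =
      tau Q (2 * m) * (3 * (Q : ℚ) - 1) / ((Q : ℚ) + 1)) :
    (A - 1) * μ * v = A * h * ((2 * Q - 7) * v + m) := by
  have eh : (Q : ℚ) = 2 * h + 1 := by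
    have : 2 * (h : ℚ) = (Q : ℚ) - 1 := by exact_mod_cast hh
    linarith
  have e0 : (h : ℚ) ≠ 0 := Int.cast_ne_zero.2 h0'
  have eQ : (Q : ℚ) ≠ 0 := Int.cast_ne_zero.2 hQ0
  have eQ1 : (Q : ℚ) + 1 ≠ 0 := by exact_mod_cast hQ1
  have eA : (A : ℚ) ≠ 0 := Int.cast_ne_zero.2 hA
  have ev : (v : ℚ) ≠ 0 := Int.cast_ne_zero.2 hv
  have eμ : (μ : ℚ) ≠ 0 := Int.cast_ne_zero.2 hμ
  have hd : 1 - 1 / (A : ℚ) - (h : ℚ) ^ 2 / v + (h : ℚ) ^ 2 / ((h : ℚ) * μ) =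
      2 * (h : ℚ) ^ 2 * ((Q : ℚ) - 3) / ((h : ℚ) * μ) := by
    have et : ((Q : ℚ) - 1) * tau Q (2 * m) - tau Q (2 * m) * (3 * (Q : ℚ) - 1) / ((Q : ℚ) + 1) =
        2 * (h : ℚ) ^ 2 * ((Q : ℚ) - 3) / ((h : ℚ) * μ) := by
      rw [tau, hm]; push_cast; field_simp; rw [eh]; ring
    rw [hm] at h0 h1 et
    push_cast at h0 h1 et
    rw [div_neg] at h0 h1
    linear_combination h0 - h1 + et
  field_simp at hd
  have : ((A : ℚ) - 1) * μ * v = A * h * ((2 * Q - 7) * v + m) := by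
    rw [hm]; push_cast
    linear_combination hd
  exact_mod_cast this

/-- The equation has no solution: modulo `a²` the two sides differ by `32 a`, `a = (Q + 1) / 4`. -/
theorem three_false {Q h a A v m μ : ℤ} (hh : 2 * h = Q - 1) (ha : Q + 1 = 4 * a) (hodd : Q % 8 = 3)
    (hbig : 7 ≤ |Q|) (hm : m = h * μ) (hv : v = m + 1 - A) (hA : a ∣ A + 1) (hvh : a ∣ v - h)
    (E : (A - 1) * μ * v = A * h * ((2 * Q - 7) * v + m)) : False := by
  obtain rfl : h = 2 * a - 1 := by omega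
  obtain rfl : Q = 4 * a - 1 := by omega
  obtain ⟨α, hα⟩ := hA
  obtain rfl : A = -1 + a * α := by linarith
  obtain ⟨β, rfl⟩ : ∃ β, μ = 3 + a * β := by
    obtain ⟨k, hk⟩ := hvh
    rw [hv, hm] at hk
    exact ⟨2 * (μ / 1) - k - α - 2, by rw [Int.ediv_one]; linear_combination -hk⟩
  subst hm hv
  obtain ⟨k, hk⟩ : a ∣ 32 := by
    rcases eq_or_ne a 0 with rfl | ha0
    · omega
    refine (mul_dvd_mul_iff_left ha0).1 ?_
    exact ⟨-((-160) +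
        16 * β +
        2 * β * β +
        (-24) * α +
        6 * α * β +
        6 * α * α +
        96 * a +
        (-64) * a * β +
        (-4) * a * β * β +
        144 * a * α +
        (-28) * a * α * β +
        (-1) * a * α * β * β +
        (-26) * a * α * α +
        (-1) * a * α * α * β +
        32 * a * a * β +
        (-96) * a * a * α +
        64 * a * a * α * β +
        2 * a * a * α * β * β +
        16 * a * a * α * α +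
        (-32) * a * a * a * α * β), by linear_combination E⟩
  have hao : a % 2 = 1 := by omega
  have h7 : a ≤ -1 ∨ 2 ≤ a := by
    rcases abs_cases (4 * a - 1) with ⟨e, -⟩ | ⟨e, -⟩ <;> rw [e] at hbig <;> omega
  have hb : a.natAbs ∣ 32 := by
    have := Int.natAbs_dvd_natAbs.2 (Dvd.intro k hk.symm)
    simpa using this
  have hn : a.natAbs % 2 = 1 := by omega
  have h32 : a.natAbs ≤ 32 := Nat.le_of_dvd (by norm_num) hb
  have h1 : a.natAbs = 1 := by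
    interval_cases a.natAbs <;> omega
  rcases abs_cases (4 * a - 1) with ⟨e, -⟩ | ⟨e, -⟩ <;> rw [e] at hbig <;> omega

end Cfsg.Agent.AbelianSylow.Chars.Cases
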