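import Cfsg.Agent.EqLemmas
import Cfsg.Agent.Lib.ReeCover.Coherent
import Mathlib.Data.Matrix.Mul

/-!
# Integer vectors of small norm (owner: helper84)

Signed irreducible characters are vectors of norm one.

* `Vec.unit_eq`, `Vec.dot_unit`, `Vec.split_two`, `Vec.dot_pair`
* `Vec.exists_orbit` : the four functions of one orbit
* `Vec.orbit_next`   : a second orbit with the same `W`
* `Vec.orbit_disjoint` : a function with equal products vanishes on the orbit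
-/

set_option autoImplicit false
set_option linter.unusedSectionVars false

namespace Cfsg.Agent.AbelianSylow.Chars.Vec

open Matrix

variable {X : Type*} [Fintype X] [DecidableEq X]

theorem sq_le (v : X → ℤ) (x : X) : v x ^ 2 ≤ v ⬝ᵥ v := by
  rw [pow_two]
  exact Finset.single_le_sum (f := fun y => v y * v y) (fun y _ => mul_self_nonneg (v y)) (Finset.mem_univ x)

theorem eq_zero {v : X → ℤ} (h : v ⬝ᵥ v = 0) : v = 0 := funext fun x =>
  sq_eq_zero_iff.1 (le_antisymm (h ▸ sq_le v x) (sq_nonneg _))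

theorem dot_self_nonneg (v : X → ℤ) : 0 ≤ v ⬝ᵥ v := Finset.sum_nonneg fun x _ => mul_self_nonneg (v x)

theorem single_dot_single (x y : X) :
    (Pi.single x (1 : ℤ)) ⬝ᵥ Pi.single y 1 = if x = y then 1 else 0 := by
  rw [single_dotProduct, one_mul, Pi.single_apply]

/-- A vector of norm one. -/
theorem unit_eq {e : X → ℤ} (h : e ⬝ᵥ e = 1) :
    ∃ x σ, (σ = 1 ∨ σ = -1) ∧ e = Pi.single x σ := by
  obtain ⟨x, hx⟩ : ∃ x, e x ≠ 0 := by
    by_contra hno
    push Not at hno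
    rw [show e = 0 from funext hno, zero_dotProduct] at h
    exact zero_ne_one h
  have hσ : e x = 1 ∨ e x = -1 := by
    have h1 := sq_le e x
    rw [h] at h1
    have : e x ≤ 1 ∧ -1 ≤ e x := by constructor <;> nlinarith
    omega
  refine ⟨x, e x, hσ, ?_⟩
  have : (e - Pi.single x (e x)) ⬝ᵥ (e - Pi.single x (e x)) = 0 := by
    rw [sub_dotProduct, dotProduct_sub, dotProduct_sub, h, single_dotProduct, single_dotProduct,
      dotProduct_single, Pi.single_eq_same]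
    rcases hσ with s | s <;> rw [s] <;> ring
  exact sub_eq_zero.1 (eq_zero this)

/-- The product of two vectors of norm one. -/
theorem dot_unit {e e' : X → ℤ} (h : e ⬝ᵥ e = 1) (h' : e' ⬝ᵥ e' = 1) :
    e ⬝ᵥ e' = 0 ∨ (e ⬝ᵥ e' = 1 ∧ e' = e) ∨ (e ⬝ᵥ e' = -1 ∧ e' = -e) := by
  obtain ⟨x, σ, hσ, rfl⟩ := unit_eq h
  obtain ⟨y, τ, hτ, rfl⟩ := unit_eq h'
  by_cases hxy : x = y
  · subst hxy
    rw [single_dotProduct, Pi.single_eq_same, ← Pi.single_neg]
    rcases hσ with rfl | rfl <;> rcases hτ with rfl | rfl <;> simp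
  · left
    rw [single_dotProduct, Pi.single_eq_of_ne hxy, mul_zero]

/-- If a vector of norm one meets the sum of two orthogonal ones trivially, it meets each trivially. -/
theorem dot_pair {u v e : X → ℤ} (hu : u ⬝ᵥ u = 1) (hv : v ⬝ᵥ v = 1) (huv : u ⬝ᵥ v = 0) (he : e ⬝ᵥ e = 1)
    (h : (u + v) ⬝ᵥ e = 0) : u ⬝ᵥ e = 0 ∧ v ⬝ᵥ e = 0 := by
  rw [add_dotProduct] at h
  rcases dot_unit hu he with h1 | ⟨h1, rfl⟩ | ⟨h1, rfl⟩
  · exact ⟨h1, by omega⟩
  · rw [dotProduct_comm v, huv] at h; omega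
  · rw [dotProduct_neg, dotProduct_neg, dotProduct_comm v, huv] at h; omega

/-- A vector of norm two. -/
theorem split_two {w : X → ℤ} (h : w ⬝ᵥ w = 2) :
    ∃ u v, w = u + v ∧ u ⬝ᵥ u = 1 ∧ v ⬝ᵥ v = 1 ∧ u ⬝ᵥ v = 0 := by
  obtain ⟨x, hx⟩ : ∃ x, w x ≠ 0 := by
    by_contra hno
    push Not at hno
    rw [show w = 0 from funext hno, zero_dotProduct] at h
    omega
  have hσ : w x = 1 ∨ w x = -1 := by
    have h1 := sq_le w x
    rw [h] at h1
    have : w x ≤ 1 ∧ -1 ≤ w x := by constructor <;> nlinarith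
    omega
  have h2 : w x * w x = 1 := by rcases hσ with s | s <;> rw [s] <;> norm_num
  refine ⟨Pi.single x (w x), w - Pi.single x (w x), by abel, ?_, ?_, ?_⟩ <;>
    simp only [sub_dotProduct, dotProduct_sub, single_dotProduct, dotProduct_single, Pi.sub_apply, Pi.single_eq_same, h, h2] <;>
    ring

variable {deg : X → ℤ}

/-- The functions of one orbit: `f j = W + Y j`, `δ = Y 0 - Y 1 - Y 2 + P`. -/
structure Orbit (deg : X → ℤ) (f : Fin 3 → X → ℤ) (δ W : X → ℤ) (Y : Fin 3 → X → ℤ) (P : X → ℤ) (D : ℤ) :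
    Prop where
  f_eq : ∀ j, f j = W + Y j
  δ_eq : δ = Y 0 - Y 1 - Y 2 + P
  norm_W : W ⬝ᵥ W = 2
  norm_Y : ∀ j, Y j ⬝ᵥ Y j = 1
  norm_P : P ⬝ᵥ P = 1
  orth_Y : ∀ j k, j ≠ k → Y j ⬝ᵥ Y k = 0
  orth_P : ∀ j, Y j ⬝ᵥ P = 0
  W_Y : ∀ j, W ⬝ᵥ Y j = 0
  W_P : W ⬝ᵥ P = 0
  deg_Y : ∀ j, deg ⬝ᵥ Y j = D
  deg_P : deg ⬝ᵥ P = D
  deg_W : deg ⬝ᵥ W = -D

theorem deg_ne (hdeg : ∀ x, 0 < deg x) {e : X → ℤ} (h : e ⬝ᵥ e = 1) : deg ⬝ᵥ e ≠ 0 := by
  obtain ⟨x, σ, hσ, rfl⟩ := unit_eq h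
  rw [dotProduct_single]
  have := hdeg x
  rcases hσ with rfl | rfl <;> omega

/-- Differences of norm two with product one. -/
theorem exists_three (hdeg : ∀ x, 0 < deg x) {v v' : X → ℤ} (hv : v ⬝ᵥ v = 2) (hv' : v' ⬝ᵥ v' = 2)
    (h1 : v ⬝ᵥ v' = 1) (hd : deg ⬝ᵥ v = 0) (hd' : deg ⬝ᵥ v' = 0) :
    ∃ y0 y1 y2 : X → ℤ, v = y1 - y0 ∧ v' = y2 - y0 ∧ y0 ⬝ᵥ y0 = 1 ∧ y1 ⬝ᵥ y1 = 1 ∧ y2 ⬝ᵥ y2 = 1 ∧
      y0 ⬝ᵥ y1 = 0 ∧ y0 ⬝ᵥ y2 = 0 ∧ y1 ⬝ᵥ y2 = 0 := by
  have get : ∀ u : X → ℤ, u ⬝ᵥ u = 2 → deg ⬝ᵥ u = 0 →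
      ∃ p n : X, p ≠ n ∧ u = Pi.single p 1 - Pi.single n 1 := by
    intro u hu hdu
    obtain ⟨p, n, hpn, e⟩ := ReeCover.exists_pos_neg (deg := deg) (v := u) hdeg
      (by simpa [dotProduct, pow_two] using hu) (by simpa [dotProduct, mul_comm] using hdu)
    exact ⟨p, n, hpn, funext fun x => by rw [e x]; simp [Pi.single_apply, eq_comm]⟩
  obtain ⟨p, n, hpn, rfl⟩ := get v hv hd
  obtain ⟨p', n', hpn', rfl⟩ := get v' hv' hd'
  simp only [sub_dotProduct, dotProduct_sub, single_dot_single] at h1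
  by_cases hp : p = p'
  · subst hp
    have hn : n ≠ n' := fun e => by subst e; simp [hpn, Ne.symm hpn] at h1
    refine ⟨-Pi.single p 1, -Pi.single n 1, -Pi.single n' 1, by abel, by abel, ?_⟩
    simp [single_dot_single, hpn, hpn', hn]
  · by_cases hn : n = n'
    · subst hn
      refine ⟨Pi.single n 1, Pi.single p 1, Pi.single p' 1, rfl, rfl, ?_⟩
      simp [single_dot_single, Ne.symm hpn, Ne.symm hpn', hp]
    · exfalso
      simp only [if_neg hp, if_neg hn] at h1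
      split_ifs at h1 <;> omega

theorem exists_orbit (hdeg : ∀ x, 0 < deg x) {f : Fin 3 → X → ℤ} {δ : X → ℤ}
    (hff : ∀ j k, f j ⬝ᵥ f k = if j = k then 3 else 2) (hfd : ∀ j, deg ⬝ᵥ f j = 0)
    (hδ : δ ⬝ᵥ δ = 4) (hδd : deg ⬝ᵥ δ = 0)
    (h0 : f 0 ⬝ᵥ δ = 1) (h1 : f 1 ⬝ᵥ δ = -1) (h2 : f 2 ⬝ᵥ δ = -1) :
    ∃ W Y P D, Orbit deg f δ W Y P D := by
  have s : ∀ j k, (f j - f 0) ⬝ᵥ (f k - f 0) =
      (if j = k then 3 else 2) - (if j = 0 then 3 else 2) - (if (0 : Fin 3) = k then 3 else 2) + 3 := fun j k => by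
    rw [sub_dotProduct, dotProduct_sub, dotProduct_sub, hff, hff, hff, hff, if_pos rfl]; ring
  obtain ⟨y0, y1, y2, e1, e2, n0, n1, n2, o1, o2, o12⟩ := exists_three hdeg (v := f 1 - f 0) (v' := f 2 - f 0)
    (by rw [s]; decide) (by rw [s]; decide) (by rw [s]; decide)
    (by rw [dotProduct_sub, hfd, hfd, sub_zero]) (by rw [dotProduct_sub, hfd, hfd, sub_zero])
  obtain ⟨R, hR⟩ : ∃ R, R = f 0 - y0 := ⟨_, rfl⟩
  have ef0 : f 0 = R + y0 := by rw [hR]; abel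
  have ef1 : f 1 = R + y1 := by
    calc f 1 = f 0 + (f 1 - f 0) := by abel
      _ = _ := by rw [e1, ef0]; abel
  have ef2 : f 2 = R + y2 := by
    calc f 2 = f 0 + (f 2 - f 0) := by abel
      _ = _ := by rw [e2, ef0]; abel
  have g00 := hff 0 0
  have g11 := hff 1 1
  have g22 := hff 2 2
  simp only [↓reduceIte] at g00 g11 g22
  simp only [ef0, ef1, ef2, add_dotProduct, dotProduct_add, dotProduct_comm y0 R, dotProduct_comm y1 R,
    dotProduct_comm y2 R, n0, n1, n2] at g00 g11 g22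
  set x := R ⬝ᵥ y0 with hx
  have x1 : R ⬝ᵥ y1 = x := by omega
  have x2 : R ⬝ᵥ y2 = x := by omega
  have nR : R ⬝ᵥ R = 2 - 2 * x := by omega
  -- `u = R - x (y0 + y1 + y2)`
  set u := R - x • (y0 + y1 + y2) with hu
  have nu : u ⬝ᵥ u = 2 - 2 * x - 3 * x ^ 2 := by
    simp only [hu, sub_dotProduct, dotProduct_sub, smul_dotProduct, dotProduct_smul, smul_eq_mul,
      add_dotProduct, dotProduct_add, dotProduct_comm y0 R, dotProduct_comm y1 R, dotProduct_comm y2 R,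
      dotProduct_comm y1 y0, dotProduct_comm y2 y0, dotProduct_comm y2 y1, n0, n1, n2, o1, o2, o12, x1, x2,
      nR, ← hx]
    ring
  have hxr : x = 0 ∨ x = -1 := by
    have := dot_self_nonneg u
    rw [nu] at this
    have : x < 1 ∧ -2 < x := by constructor <;> nlinarith
    omega
  simp only [ef0, ef1, ef2, add_dotProduct] at h0 h1 h2
  set c := y0 ⬝ᵥ δ with hc
  have c1 : y1 ⬝ᵥ δ = c - 2 := by omega
  have c2 : y2 ⬝ᵥ δ = c - 2 := by omega
  -- `z = δ - c y0 - (c - 2) (y1 + y2)`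
  set z := δ - c • y0 - (c - 2) • (y1 + y2) with hz
  have nz : z ⬝ᵥ z = 4 - c ^ 2 - 2 * (c - 2) ^ 2 := by
    simp only [hz, sub_dotProduct, dotProduct_sub, smul_dotProduct, dotProduct_smul, smul_eq_mul,
      add_dotProduct, dotProduct_add, dotProduct_comm δ y0, dotProduct_comm δ y1, dotProduct_comm δ y2,
      dotProduct_comm y1 y0, dotProduct_comm y2 y0, dotProduct_comm y2 y1, n0, n1, n2, o1, o2, o12, c1, c2,
      hδ, ← hc]
    ring
  have hy0z : y0 ⬝ᵥ z = 0 := by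
    simp only [hz, dotProduct_sub, dotProduct_smul, smul_eq_mul, dotProduct_add, n0, o1, o2, ← hc]; ring
  have hy1z : y1 ⬝ᵥ z = 0 := by
    simp only [hz, dotProduct_sub, dotProduct_smul, smul_eq_mul, dotProduct_add, dotProduct_comm y1 y0, n1,
      o1, o12, c1]; ring
  have hy2z : y2 ⬝ᵥ z = 0 := by
    simp only [hz, dotProduct_sub, dotProduct_smul, smul_eq_mul, dotProduct_add, dotProduct_comm y2 y0,
      dotProduct_comm y2 y1, n2, o2, o12, c2]; ring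
  have hcr : c = 1 ∨ c = 2 := by
    have := dot_self_nonneg z
    rw [nz] at this
    have : 0 < c ∧ c < 3 := by constructor <;> nlinarith
    omega
  have hy0u : R ⬝ᵥ z = 1 - c - c * x - 2 * (c - 2) * x := by
    simp only [hz, dotProduct_sub, dotProduct_smul, smul_eq_mul, dotProduct_add, x1, x2, ← hx]
    linear_combination h0
  rcases hcr with hc' | hc'
  case inr =>
    exfalso
    rw [hc'] at nz hy0u
    have := eq_zero (show z ⬝ᵥ z = 0 by rw [nz]; norm_num)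
    rw [this, dotProduct_zero] at hy0u
    omega
  rw [hc'] at nz hy0u
  have nz1 : z ⬝ᵥ z = 1 := by rw [nz]; norm_num
  have eδ : δ = y0 - y1 - y2 + z := by
    rw [hz, hc']; simp only [one_smul, show (1 : ℤ) - 2 = -1 by norm_num, neg_smul]; abel
  rw [eδ] at hδd
  simp only [dotProduct_add, dotProduct_sub] at hδd
  have d01 : deg ⬝ᵥ y1 = deg ⬝ᵥ y0 ∧ deg ⬝ᵥ y2 = deg ⬝ᵥ y0 := by
    have a := hfd 0; have b := hfd 1; have b' := hfd 2
    rw [ef0, dotProduct_add] at a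
    rw [ef1, dotProduct_add] at b
    rw [ef2, dotProduct_add] at b'
    omega
  rcases hxr with hx0 | hx0
  case inr =>
    exfalso
    rw [hx0] at nu hy0u
    have nu1 : u ⬝ᵥ u = 1 := by rw [nu]; norm_num
    have huz : u ⬝ᵥ z = -1 := by
      simp only [hu, hx0, sub_dotProduct, smul_dotProduct, add_dotProduct, smul_eq_mul, hy0z, hy1z, hy2z,
        hy0u]
      norm_num
    rcases dot_unit nu1 nz1 with h | ⟨h, -⟩ | ⟨-, hzu⟩
    · omega
    · omega
    have hdu : deg ⬝ᵥ u = 2 * (deg ⬝ᵥ y0) := by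
      have a := hfd 0
      rw [ef0, dotProduct_add] at a
      simp only [hu, hx0, dotProduct_sub, dotProduct_smul, dotProduct_add, smul_eq_mul]
      omega
    rw [hzu, dotProduct_neg] at hδd
    have := deg_ne hdeg n0
    omega
  rw [hx0] at hy0u nR x1 x2
  refine ⟨R, ![y0, y1, y2], z, deg ⬝ᵥ y0, ?_⟩
  refine ⟨fun j => ?_, eδ, by omega, fun j => ?_, nz1, fun j k hjk => ?_, fun j => ?_, fun j => ?_,
    by omega, fun j => ?_, by omega, ?_⟩
  · fin_cases j <;> assumption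
  · fin_cases j <;> assumption
  · fin_cases j <;> fin_cases k <;> first | exact absurd rfl hjk | assumption | (rw [dotProduct_comm]; assumption)
  · fin_cases j <;> assumption
  · fin_cases j
    · exact hx0
    · exact x1
    · exact x2
  · fin_cases j
    · rfl
    · exact d01.1
    · exact d01.2
  · have a := hfd 0
    rw [ef0, dotProduct_add] at a
    omega

/-- A second orbit has the same `W`. -/
theorem orbit_next {f : Fin 3 → X → ℤ} {δ W : X → ℤ} {Y : Fin 3 → X → ℤ} {P : X → ℤ} {D : ℤ}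
    (O : Orbit deg f δ W Y P D) {f' : X → ℤ} (h3 : f' ⬝ᵥ f' = 3) (h2 : ∀ j, f' ⬝ᵥ f j = 2)
    (hd : deg ⬝ᵥ f' = 0) : f' ⬝ᵥ W = 2 ∧ (f' - W) ⬝ᵥ (f' - W) = 1 ∧ W ⬝ᵥ (f' - W) = 0 ∧
      deg ⬝ᵥ (f' - W) = D := by
  set z := f' ⬝ᵥ W with hz
  have hy : ∀ j, f' ⬝ᵥ Y j = 2 - z := fun j => by
    have := h2 j
    rw [O.f_eq j, dotProduct_add] at this
    omega
  set g := f' - (2 - z) • (Y 0 + Y 1 + Y 2) with hg
  have o01 := O.orth_Y 0 1 (by decide)
  have o02 := O.orth_Y 0 2 (by decide)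
  have o12 := O.orth_Y 1 2 (by decide)
  have ng : g ⬝ᵥ g = 3 - 3 * (2 - z) ^ 2 := by
    simp only [hg, sub_dotProduct, dotProduct_sub, smul_dotProduct, dotProduct_smul, smul_eq_mul,
      add_dotProduct, dotProduct_add, dotProduct_comm (Y 0) f', dotProduct_comm (Y 1) f', dotProduct_comm (Y 2) f',
      dotProduct_comm (Y 1) (Y 0), dotProduct_comm (Y 2) (Y 0), dotProduct_comm (Y 2) (Y 1), O.norm_Y, o01,
      o02, o12, hy, h3]
    ring
  have hgW : g ⬝ᵥ W = z := by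
    simp only [hg, sub_dotProduct, smul_dotProduct, add_dotProduct, smul_eq_mul, dotProduct_comm (Y _) W,
      O.W_Y, ← hz]
    ring
  have hzr : z = 2 := by
    have h0 := dot_self_nonneg g
    rw [ng] at h0
    have h1 : 1 ≤ z ∧ z ≤ 3 := by constructor <;> nlinarith
    rcases (show z = 1 ∨ z = 2 ∨ z = 3 by omega) with e | e | e
    · have := eq_zero (show g ⬝ᵥ g = 0 by rw [ng, e]; norm_num)
      rw [this, zero_dotProduct] at hgW
      omega
    · exact e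
    · have := eq_zero (show g ⬝ᵥ g = 0 by rw [ng, e]; norm_num)
      rw [this, zero_dotProduct] at hgW
      omega
  have hW := O.norm_W
  refine ⟨hzr, ?_, ?_, by rw [dotProduct_sub, hd, O.deg_W]; ring⟩
  · rw [sub_dotProduct, dotProduct_sub, dotProduct_sub, dotProduct_comm W f', h3, ← hz, hzr, hW]; norm_num
  · rw [dotProduct_sub, dotProduct_comm W f', ← hz, hzr, hW]; norm_num

/-- A function with equal products with the orbit vanishes on it. -/
theorem orbit_disjoint (hdeg : ∀ x, 0 < deg x) {f : Fin 3 → X → ℤ} {δ W : X → ℤ} {Y : Fin 3 → X → ℤ}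
    {P : X → ℤ} {D : ℤ} (O : Orbit deg f δ W Y P D) {g : X → ℤ} {c : ℤ} (hgn : g ⬝ᵥ g ≤ 4)
    (hgd : g ⬝ᵥ g < 4 ∨ deg ⬝ᵥ g = 0) (hgf : ∀ j, g ⬝ᵥ f j = c) (hgδ : g ⬝ᵥ δ = 0) :
    (∀ j, g ⬝ᵥ Y j = 0) ∧ g ⬝ᵥ P = 0 ∧ g ⬝ᵥ W = c := by
  set y := c - g ⬝ᵥ W with hy
  have gy : ∀ j, g ⬝ᵥ Y j = y := fun j => by
    have := hgf j
    rw [O.f_eq j, dotProduct_add] at this
    omega
  have gp : g ⬝ᵥ P = y := by
    rw [O.δ_eq, dotProduct_add, dotProduct_sub, dotProduct_sub, gy, gy, gy] at hgδ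
    omega
  suffices y = 0 from ⟨fun j => (gy j).trans this, gp.trans this, by omega⟩
  by_contra hne
  set v := g - y • (Y 0 + Y 1 + Y 2 + P) with hv
  have o01 := O.orth_Y 0 1 (by decide)
  have o02 := O.orth_Y 0 2 (by decide)
  have o12 := O.orth_Y 1 2 (by decide)
  have nv : v ⬝ᵥ v = g ⬝ᵥ g - 4 * y ^ 2 := by
    simp only [hv, sub_dotProduct, dotProduct_sub, smul_dotProduct, dotProduct_smul, smul_eq_mul,
      add_dotProduct, dotProduct_add, dotProduct_comm (Y _) g, dotProduct_comm P g, dotProduct_comm P (Y _),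
      dotProduct_comm (Y 1) (Y 0), dotProduct_comm (Y 2) (Y 0), dotProduct_comm (Y 2) (Y 1), O.norm_Y, O.norm_P,
      O.orth_P, o01, o02, o12, gy, gp]
    ring
  have h0 := dot_self_nonneg v
  have hy2 : 1 ≤ y ^ 2 := by
    rcases lt_or_gt_of_ne hne with h | h <;> nlinarith
  rcases hgd with hgd | hgd
  · omega
  have := eq_zero (show v ⬝ᵥ v = 0 by omega)
  rw [hv, sub_eq_zero] at this
  rw [this, dotProduct_smul, dotProduct_add, dotProduct_add, dotProduct_add, O.deg_Y, O.deg_Y, O.deg_Y,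
    O.deg_P, smul_eq_mul] at hgd
  have hD : D ≠ 0 := O.deg_P ▸ deg_ne hdeg O.norm_P
  rcases mul_eq_zero.1 hgd with h | h <;> omega

end Cfsg.Agent.AbelianSylow.Chars.Vec
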