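import Cfsg.Agent.EqLemmas
import Cfsg.Agent.Lib.AbelianSylow.Chars.Vec
import Mathlib.Data.Rat.BigOperators

/-!
# The character computation as a system of vectors (owner: helper84; sections 2-4 of `PROOF.md`)

`Sys` collects what the functions of sections 1-3 give about the vectors of their coefficients.

* `Sys.Core` : the common part `W` and the degree `D`; `Sys.exists_core`
* `Core.free`, `Core.value` : units with a non-zero row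
* `Core.card_eq`, `Core.dvd_D` : `|G| = q³ (Q + 1) D`, `Q - 1 ∣ D`
-/

set_option autoImplicit false
set_option linter.unusedSectionVars false

namespace Cfsg.Agent.AbelianSylow.Chars

open Matrix

universe u v

variable {X : Type u} [Fintype X] [DecidableEq X] {TD AD : Type v} [Fintype TD] [Fintype AD]

/-- The data. -/
structure Sys (X : Type u) [Fintype X] [DecidableEq X] (TD AD : Type v) [Fintype TD] [Fintype AD]
    (Q : ℤ) (q a g : ℕ) where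
  deg : X → ℤ
  val : X → ℤ
  nu : X → ℤ
  st : (X → ℤ) → (X → ℤ)
  one : X → ℤ
  c0 : X → ℤ
  c : Fin 2 → X → ℤ
  cT : TD → X → ℤ
  cA : AD → X → ℤ
  F : AD → X → ℤ
  rot : Fin 3 → AD → AD
  q_le : 25 ≤ q
  abs_Q : Q.natAbs = q
  mod8 : Q % 8 = 3
  four_a : 4 * a = (Q + 1).natAbs
  g_pos : 0 < g
  cent_dvd : q * (q ^ 2 - 1) ∣ g
  nonempty : Nonempty AD
  deg_pos : ∀ x, 0 < deg x
  rot_zero : ∀ l, rot 0 l = l
  one_one : one ⬝ᵥ one = 1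
  deg_one : deg ⬝ᵥ one = 1
  val_one : val ⬝ᵥ one = 1
  nu_one : nu ⬝ᵥ one = 1
  one_c0 : c0 ⬝ᵥ one = 1
  one_c : ∀ j, c j ⬝ᵥ one = 0
  one_T : ∀ l, cT l ⬝ᵥ one = 0
  one_A : ∀ l, cA l ⬝ᵥ one = 0
  one_F : ∀ l, F l ⬝ᵥ one = 0
  deg_c0 : deg ⬝ᵥ c0 = 0
  deg_c : ∀ j, deg ⬝ᵥ c j = 0
  deg_T : ∀ l, deg ⬝ᵥ cT l = 0
  deg_A : ∀ l, deg ⬝ᵥ cA l = 0
  deg_F : ∀ l, deg ⬝ᵥ F l = 0
  c0_c0 : c0 ⬝ᵥ c0 = 4
  c0_c : ∀ j, c0 ⬝ᵥ c j = 2
  c_c : ∀ j k, c j ⬝ᵥ c k = if j = k then 4 else 2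
  c0_T : ∀ l, c0 ⬝ᵥ cT l = 0
  c0_A : ∀ l, c0 ⬝ᵥ cA l = 0
  c_T : ∀ j l, c j ⬝ᵥ cT l = 0
  c_A : ∀ j l, c j ⬝ᵥ cA l = 0
  T_A : ∀ l m, cT l ⬝ᵥ cA m = 0
  T_T : ∀ l, cT l ⬝ᵥ cT l = 2
  T_T' : ∀ l m, cT l ⬝ᵥ cT m = 0 ∨ cT l ⬝ᵥ cT m = 2
  T_sum : ∀ l, ∑ m, cT l ⬝ᵥ cT m = 4
  A_A : ∀ l, cA l ⬝ᵥ cA l = 4
  A_sum : ∀ l, ∑ m, cA l ⬝ᵥ cA m = 8
  F_F : ∀ l m, F l ⬝ᵥ F m = 2 ∨ F l ⬝ᵥ F m = 3
  F_rot : ∀ l j k, F (rot j l) ⬝ᵥ F (rot k l) = if j = k then 3 else 2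
  F_c0 : ∀ l, c0 ⬝ᵥ F l = 0
  F_c : ∀ l j, c j ⬝ᵥ F l = 1
  F_T : ∀ l m, cT m ⬝ᵥ F l = 0
  F_A : ∀ l j, F (rot j l) ⬝ᵥ cA l = if j = 0 then 1 else -1
  F_A_sum : ∀ l, ∑ m, F l ⬝ᵥ cA m = -2
  value : ∀ x, 2 * val x = 2 * c0 x + (Q - 1) * (c 0 x + c 1 x) + (Q + 1) * ∑ m, cT m x +
    (Q - 1) * ∑ m, cA m x
  eight : ∀ e : X → ℤ, e ⬝ᵥ e = 1 → (8 : ℤ) ∣ deg ⬝ᵥ e - val ⬝ᵥ e
  torus : ∀ e : X → ℤ, e ⬝ᵥ e = 1 → (∀ l, e ⬝ᵥ F l = 0) → (4 * a : ℤ) ∣ deg ⬝ᵥ e - val ⬝ᵥ e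
  mom_T : ∀ l, (∑ x, (cT l x : ℚ) * ((val x : ℚ) ^ 2 / (deg x : ℚ))) = 0
  mom_F : ∀ l, (∑ x, (F l x : ℚ) * ((val x : ℚ) ^ 2 / (deg x : ℚ))) = 0
  mom_A : ∀ l, (∑ x, (cA l x : ℚ) * ((val x : ℚ) ^ 2 / (deg x : ℚ))) =
    ((q : ℚ) * ((q : ℚ) ^ 2 - 1)) ^ 2 / g * (8 * q / (Q + 1))
  mom_c0 : (∑ x, (c0 x : ℚ) * ((val x : ℚ) ^ 2 / (deg x : ℚ))) =
    ((q : ℚ) * ((q : ℚ) ^ 2 - 1)) ^ 2 / g * ((q : ℚ) * ((Q : ℚ) - 1) / Q)
  mom_c : ∀ j, (∑ x, (c j x : ℚ) * ((val x : ℚ) ^ 2 / (deg x : ℚ))) =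
    ((q : ℚ) * ((q : ℚ) ^ 2 - 1)) ^ 2 / g * ((Q : ℚ) * (3 * Q - 1) / (q * (Q + 1)))
  nu_c0 : nu ⬝ᵥ c0 = 0
  nu_c : ∀ j, nu ⬝ᵥ c j = 0
  st_dot : ∀ v v', st v ⬝ᵥ st v' = v ⬝ᵥ v'
  st_st : ∀ v, st (st v) = v
  st_c0 : st c0 = c0
  st_swap : Q = (q : ℤ) → ∀ j, st (c j) = c (1 - j)
  st_fix : Q = -(q : ℤ) → ∀ j, st (c j) = c j
  st_one : st one = one
  nu_real : ∀ e : X → ℤ, e ⬝ᵥ e = 1 → st e = e → (nu ⬝ᵥ e = 1 ∨ nu ⬝ᵥ e = -1) ∧
    (Odd (deg ⬝ᵥ e) → (0 < deg ⬝ᵥ e → nu ⬝ᵥ e = 1) ∧ (deg ⬝ᵥ e < 0 → nu ⬝ᵥ e = -1))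
  nu_not_real : ∀ e : X → ℤ, e ⬝ᵥ e = 1 → st e ≠ e → nu ⬝ᵥ e = 0

namespace Sys

variable {Q : ℤ} {q a g : ℕ} (s : Sys X TD AD Q q a g)

/-- The sum `∑ v val² / deg`. -/
def mom (v : X → ℤ) : ℚ := ∑ x, (v x : ℚ) * ((s.val x : ℚ) ^ 2 / (s.deg x : ℚ))

theorem mom_add (v v' : X → ℤ) : s.mom (v + v') = s.mom v + s.mom v' := by
  simp [mom, add_mul, Finset.sum_add_distrib]

theorem mom_sub (v v' : X → ℤ) : s.mom (v - v') = s.mom v - s.mom v' := by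
  simp [mom, sub_mul, Finset.sum_sub_distrib]

theorem mom_smul (k : ℤ) (v : X → ℤ) : s.mom (k • v) = k * s.mom v := by
  simp only [mom, Pi.smul_apply, smul_eq_mul, Int.cast_mul, Finset.mul_sum, mul_assoc]

theorem mom_unit {e : X → ℤ} (h : e ⬝ᵥ e = 1) :
    s.mom e = ((s.val ⬝ᵥ e : ℤ) : ℚ) ^ 2 / ((s.deg ⬝ᵥ e : ℤ) : ℚ) := by
  obtain ⟨x, σ, hσ, rfl⟩ := Vec.unit_eq h
  rw [dotProduct_single, dotProduct_single, mom, Finset.sum_eq_single x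
    (fun y _ hy => by simp [Pi.single_eq_of_ne hy]) (fun h => absurd (Finset.mem_univ _) h),
    Pi.single_eq_same]
  rcases hσ with rfl | rfl
  · simp
  · simp [div_neg]

theorem deg_unit {e : X → ℤ} (h : e ⬝ᵥ e = 1) : s.deg ⬝ᵥ e ≠ 0 := Vec.deg_ne s.deg_pos h

theorem value_dot (v : X → ℤ) : 2 * (s.val ⬝ᵥ v) = 2 * (s.c0 ⬝ᵥ v) +
    (Q - 1) * (s.c 0 ⬝ᵥ v + s.c 1 ⬝ᵥ v) + (Q + 1) * ∑ m, s.cT m ⬝ᵥ v + (Q - 1) * ∑ m, s.cA m ⬝ᵥ v := by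
  simp only [dotProduct]
  rw [Finset.sum_comm (s := (Finset.univ : Finset TD)), Finset.sum_comm (s := (Finset.univ : Finset AD)),
    ← Finset.sum_add_distrib]
  simp only [Finset.mul_sum]
  simp only [← Finset.sum_add_distrib]
  refine Finset.sum_congr rfl fun x _ => ?_
  rw [← mul_assoc, s.value x, ← Finset.mul_sum, ← Finset.mul_sum, ← Finset.sum_mul, ← Finset.sum_mul]
  ring

include s in
theorem odd_a : Odd a := Nat.odd_iff.2 (by have := s.four_a; have := s.mod8; omega)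

include s in
theorem six_le_a : 6 ≤ a := by have := s.four_a; have := s.abs_Q; have := s.q_le; omega

include s in
theorem Q_cases : Q = (q : ℤ) ∨ Q = -(q : ℤ) := by have := s.abs_Q; omega

theorem eq_of_norm {v v' : X → ℤ} {n : ℤ} (h : v ⬝ᵥ v = n) (h' : v' ⬝ᵥ v' = n) (h'' : v ⬝ᵥ v' = n) : v = v' :=
  sub_eq_zero.1 (Vec.eq_zero (by
    rw [sub_dotProduct, dotProduct_sub, dotProduct_sub, dotProduct_comm v' v, h, h', h'']; ring))

/-- The common part `W` and the degree `D`. -/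
structure Core (W : X → ℤ) (D : ℤ) : Prop where
  orbit : ∀ l, ∃ Y P, Vec.Orbit s.deg (fun j => s.F (s.rot j l)) (s.cA l) W Y P D

theorem exists_core : ∃ W D, s.Core W D := by
  have orb : ∀ l, ∃ W Y P D, Vec.Orbit s.deg (fun j => s.F (s.rot j l)) (s.cA l) W Y P D := fun l =>
    Vec.exists_orbit s.deg_pos (fun j k => s.F_rot l j k) (fun j => s.deg_F _) (s.A_A l) (s.deg_A l)
      (by rw [s.F_A, if_pos rfl]) (by rw [s.F_A, if_neg (by decide)]) (by rw [s.F_A, if_neg (by decide)])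
  obtain ⟨l0⟩ := s.nonempty
  obtain ⟨W, Y, P, D, O⟩ := orb l0
  have hWf : ∀ j, W ⬝ᵥ s.F (s.rot j l0) = 2 := fun j => by
    have e := O.f_eq j
    rw [e, dotProduct_add, O.norm_W, O.W_Y, add_zero]
  have hFW : ∀ m, W ⬝ᵥ s.F m = 2 := fun m => by
    by_cases h : ∃ j, s.F m ⬝ᵥ s.F (s.rot j l0) = 3
    · obtain ⟨j, hj⟩ := h
      have h3 : ∀ k, s.F k ⬝ᵥ s.F k = 3 := fun k => by
        have := s.F_rot k 0 0
        rwa [s.rot_zero, if_pos rfl] at this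
      rw [eq_of_norm (h3 m) (h3 _) hj]
      exact hWf j
    · push Not at h
      rw [dotProduct_comm]
      exact (Vec.orbit_next O (by have := s.F_rot m 0 0; rwa [s.rot_zero, if_pos rfl] at this)
        (fun j => (s.F_F m _).resolve_right (h j)) (s.deg_F m)).1
  refine ⟨W, D, ⟨fun l => ?_⟩⟩
  obtain ⟨W', Y', P', D', O'⟩ := orb l
  have hc : ∀ k, W ⬝ᵥ Y' k = 2 - W ⬝ᵥ W' := fun k => by
    have := hFW (s.rot k l)
    rw [show s.F (s.rot k l) = W' + Y' k from O'.f_eq k, dotProduct_add] at this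
    omega
  set c := 2 - W ⬝ᵥ W' with hc'
  set v := W - c • (Y' 0 + Y' 1 + Y' 2) with hv
  have o01 := O'.orth_Y 0 1 (by decide)
  have o02 := O'.orth_Y 0 2 (by decide)
  have o12 := O'.orth_Y 1 2 (by decide)
  have nv : v ⬝ᵥ v = 2 - 3 * c ^ 2 := by
    simp only [hv, sub_dotProduct, dotProduct_sub, smul_dotProduct, dotProduct_smul, smul_eq_mul,
      add_dotProduct, dotProduct_add, dotProduct_comm (Y' _) W, dotProduct_comm (Y' 1) (Y' 0),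
      dotProduct_comm (Y' 2) (Y' 0), dotProduct_comm (Y' 2) (Y' 1), O'.norm_Y, o01, o02, o12, hc, O.norm_W]
    ring
  have hc0 : c = 0 := by
    have h0 := Vec.dot_self_nonneg v
    rw [nv] at h0
    have : -1 < c ∧ c < 1 := by constructor <;> nlinarith
    omega
  have hWW : W = W' := eq_of_norm O.norm_W O'.norm_W (by omega)
  subst hWW
  have hD : D' = D := by have := O'.deg_W; have := O.deg_W; omega
  subst hD
  exact ⟨Y', P', O'⟩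

namespace Core

variable {s} {W : X → ℤ} {D : ℤ} (C : s.Core W D)
include C

theorem exists_one : ∃ l : AD, ∃ Y P, Vec.Orbit s.deg (fun j => s.F (s.rot j l)) (s.cA l) W Y P D :=
  s.nonempty.elim fun l => ⟨l, C.orbit l⟩

theorem norm_W : W ⬝ᵥ W = 2 := let ⟨_, _, _, O⟩ := C.exists_one; O.norm_W

theorem deg_W : s.deg ⬝ᵥ W = -D := let ⟨_, _, _, O⟩ := C.exists_one; O.deg_W

theorem D_ne : D ≠ 0 := let ⟨_, _, _, O⟩ := C.exists_one; O.deg_P ▸ s.deg_unit O.norm_P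

/-- `Z l = F l - W` is a unit. -/
theorem Z_unit (l : AD) : (s.F l - W) ⬝ᵥ (s.F l - W) = 1 ∧ W ⬝ᵥ (s.F l - W) = 0 ∧
    s.deg ⬝ᵥ (s.F l - W) = D := by
  obtain ⟨Y, P, O⟩ := C.orbit l
  have e : s.F l - W = Y 0 := by
    have e0 : s.F (s.rot 0 l) = W + Y 0 := O.f_eq 0
    rw [s.rot_zero] at e0
    rw [e0]; abel
  rw [e]
  exact ⟨O.norm_Y 0, O.W_Y 0, O.deg_Y 0⟩

theorem F_W (l : AD) : s.F l ⬝ᵥ W = 2 := by
  have h := (C.Z_unit l).2.1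
  rw [dotProduct_sub, C.norm_W, dotProduct_comm] at h
  omega

theorem A_W (l : AD) : s.cA l ⬝ᵥ W = 0 := by
  obtain ⟨Y, P, O⟩ := C.orbit l
  rw [O.δ_eq, add_dotProduct, sub_dotProduct, sub_dotProduct, dotProduct_comm (Y 0), dotProduct_comm (Y 1),
    dotProduct_comm (Y 2), dotProduct_comm P, O.W_Y, O.W_Y, O.W_Y, O.W_P]
  rfl

/-- The functions `one`, `c0`, `c j`, `cT l` vanish on the orbits. -/
theorem vanish (l : AD) {Y : Fin 3 → X → ℤ} {P : X → ℤ}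
    (O : Vec.Orbit s.deg (fun j => s.F (s.rot j l)) (s.cA l) W Y P D) :
    ((∀ j, s.one ⬝ᵥ Y j = 0) ∧ s.one ⬝ᵥ P = 0 ∧ s.one ⬝ᵥ W = 0) ∧
    ((∀ j, s.c0 ⬝ᵥ Y j = 0) ∧ s.c0 ⬝ᵥ P = 0 ∧ s.c0 ⬝ᵥ W = 0) ∧
    (∀ k, (∀ j, s.c k ⬝ᵥ Y j = 0) ∧ s.c k ⬝ᵥ P = 0 ∧ s.c k ⬝ᵥ W = 1) ∧
    ∀ m, (∀ j, s.cT m ⬝ᵥ Y j = 0) ∧ s.cT m ⬝ᵥ P = 0 ∧ s.cT m ⬝ᵥ W = 0 := by
  refine ⟨Vec.orbit_disjoint s.deg_pos O (by rw [s.one_one]; norm_num) (Or.inl (by rw [s.one_one]; norm_num))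
      (fun j => by rw [dotProduct_comm]; exact s.one_F _) (by rw [dotProduct_comm]; exact s.one_A l), ?_,
    fun k => ?_, fun m => ?_⟩
  · exact Vec.orbit_disjoint s.deg_pos O s.c0_c0.le (Or.inr s.deg_c0) (fun j => s.F_c0 _) (s.c0_A l)
  · exact Vec.orbit_disjoint s.deg_pos O (by rw [s.c_c, if_pos rfl]) (Or.inr (s.deg_c k))
      (fun j => s.F_c _ k) (s.c_A k l)
  · exact Vec.orbit_disjoint s.deg_pos O (by rw [s.T_T]; norm_num) (Or.inr (s.deg_T m))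
      (fun j => s.F_T _ m) (s.T_A m l)

theorem one_W : s.one ⬝ᵥ W = 0 :=
  let ⟨l, _, _, O⟩ := C.exists_one; (C.vanish l O).1.2.2

theorem c0_W : s.c0 ⬝ᵥ W = 0 :=
  let ⟨l, _, _, O⟩ := C.exists_one; (C.vanish l O).2.1.2.2

theorem c_W (k : Fin 2) : s.c k ⬝ᵥ W = 1 :=
  let ⟨l, _, _, O⟩ := C.exists_one; ((C.vanish l O).2.2.1 k).2.2

theorem T_W (m : TD) : s.cT m ⬝ᵥ W = 0 :=
  let ⟨l, _, _, O⟩ := C.exists_one; ((C.vanish l O).2.2.2 m).2.2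

/-- A unit with a non-zero row lies outside the orbits. -/
theorem free {e : X → ℤ} (he : e ⬝ᵥ e = 1)
    (hr : s.c0 ⬝ᵥ e ≠ 0 ∨ s.c 0 ⬝ᵥ e ≠ 0 ∨ s.c 1 ⬝ᵥ e ≠ 0) (l : AD) :
    s.cA l ⬝ᵥ e = 0 ∧ (s.F l - W) ⬝ᵥ e = 0 := by
  obtain ⟨Y, P, O⟩ := C.orbit l
  obtain ⟨-, ⟨h0, h0', -⟩, hc, -⟩ := C.vanish l O
  have key : ∀ u : X → ℤ, u ⬝ᵥ u = 1 → s.c0 ⬝ᵥ u = 0 → (∀ k, s.c k ⬝ᵥ u = 0) → u ⬝ᵥ e = 0 := by
    intro u hu hu0 huc
    rcases Vec.dot_unit hu he with h | ⟨-, rfl⟩ | ⟨-, rfl⟩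
    · exact h
    · rcases hr with h | h | h <;> exact absurd (by simp [hu0, huc]) h
    · rcases hr with h | h | h <;> exact absurd (by simp [hu0, huc]) h
  have hY : ∀ j, Y j ⬝ᵥ e = 0 := fun j => key _ (O.norm_Y j) (h0 j) (fun k => (hc k).1 j)
  have hP : P ⬝ᵥ e = 0 := key _ O.norm_P h0' (fun k => (hc k).2.1)
  refine ⟨?_, ?_⟩
  · rw [O.δ_eq, add_dotProduct, sub_dotProduct, sub_dotProduct, hY, hY, hY, hP]; rfl
  · have e0 : s.F (s.rot 0 l) = W + Y 0 := O.f_eq 0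
    rw [s.rot_zero] at e0
    rw [e0, add_sub_cancel_left, hY]

/-- The value at `t` of a unit with a non-zero row. -/
theorem value {e : X → ℤ} (he : e ⬝ᵥ e = 1) (hr : s.c0 ⬝ᵥ e ≠ 0 ∨ s.c 0 ⬝ᵥ e + s.c 1 ⬝ᵥ e ≠ 0) :
    2 * (s.val ⬝ᵥ e) = 2 * (s.c0 ⬝ᵥ e) + (Q - 1) * (s.c 0 ⬝ᵥ e + s.c 1 ⬝ᵥ e) ∧
      ∀ m, s.cT m ⬝ᵥ e = 0 := by
  have hr' : s.c0 ⬝ᵥ e ≠ 0 ∨ s.c 0 ⬝ᵥ e ≠ 0 ∨ s.c 1 ⬝ᵥ e ≠ 0 := by omega
  have hA : ∀ l, s.cA l ⬝ᵥ e = 0 := fun l => (C.free he hr' l).1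
  have hT : ∀ m, s.cT m ⬝ᵥ e = 0 := by
    intro l
    by_contra hz
    set z := s.cT l ⬝ᵥ e with hz'
    set e' := e - z • s.cT l with he'
    have ne' : e' ⬝ᵥ e' = 1 := by
      simp only [he', sub_dotProduct, dotProduct_sub, smul_dotProduct, dotProduct_smul, smul_eq_mul,
        dotProduct_comm e (s.cT l), ← hz', s.T_T, he]
      ring
    have hz1 : z = 1 ∨ z = -1 := by
      have h : (s.cT l - z • e) ⬝ᵥ (s.cT l - z • e) = 2 - z ^ 2 := by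
        simp only [sub_dotProduct, dotProduct_sub, smul_dotProduct, dotProduct_smul, smul_eq_mul,
          dotProduct_comm e (s.cT l), ← hz', s.T_T, he]
        ring
      have h0 := Vec.dot_self_nonneg (s.cT l - z • e)
      rw [h] at h0
      have : -2 < z ∧ z < 2 := by constructor <;> nlinarith
      omega
    have hsum : ∑ m, s.cT m ⬝ᵥ e = 2 * z := by
      have h2 : ∀ m, 2 * (s.cT m ⬝ᵥ e) = z * (s.cT l ⬝ᵥ s.cT m) := by
        intro m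
        rcases s.T_T' l m with h | h
        · rw [h, mul_zero]
          set y := s.cT m ⬝ᵥ e with hy
          by_contra hne
          have hy1 : y ≠ 0 := fun e0 => hne (by rw [e0, mul_zero])
          have hye' : s.cT m ⬝ᵥ e' = y := by
            simp only [he', dotProduct_sub, dotProduct_smul, smul_eq_mul, dotProduct_comm (s.cT m) (s.cT l), h,
              ← hy]
            ring
          have hee' : e ⬝ᵥ e' = 1 - z ^ 2 := by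
            simp only [he', dotProduct_sub, dotProduct_smul, smul_eq_mul, dotProduct_comm e (s.cT l), ← hz', he]
            ring
          have hz2 : z ^ 2 = 1 := by rcases hz1 with e0 | e0 <;> rw [e0] <;> norm_num
          set v := s.cT m - y • (e + e') with hv
          have nv : v ⬝ᵥ v = 2 - 2 * y ^ 2 := by
            simp only [hv, sub_dotProduct, dotProduct_sub, smul_dotProduct, dotProduct_smul, smul_eq_mul,
              add_dotProduct, dotProduct_add, dotProduct_comm e (s.cT m), dotProduct_comm e' (s.cT m),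
              dotProduct_comm e' e, ← hy, hye', s.T_T, he, ne', hee', hz2]
            ring
          have h0 := Vec.dot_self_nonneg v
          rw [nv] at h0
          have hyr : y = 1 ∨ y = -1 := by
            have : -2 < y ∧ y < 2 := by constructor <;> nlinarith
            omega
          have := Vec.eq_zero (show v ⬝ᵥ v = 0 by rcases hyr with e0 | e0 <;> rw [nv, e0] <;> norm_num)
          rw [hv, sub_eq_zero] at this
          have hd := s.deg_T m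
          rw [this, he', dotProduct_smul, dotProduct_add, dotProduct_sub, dotProduct_smul, s.deg_T l,
            smul_eq_mul, smul_eq_mul] at hd
          have := s.deg_unit he
          rcases hyr with e0 | e0 <;> rw [e0] at hd <;> omega
        · have : s.cT l = s.cT m := eq_of_norm (s.T_T l) (s.T_T m) h
          rw [h, ← this, ← hz']; ring
      have h3 : 2 * ∑ m, s.cT m ⬝ᵥ e = z * 4 := by
        rw [Finset.mul_sum, Finset.sum_congr rfl fun m _ => h2 m, ← Finset.mul_sum, s.T_sum]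
      omega
    have v1 := s.value_dot e
    have v2 := s.value_dot e'
    rw [hsum, Finset.sum_eq_zero fun m _ => hA m] at v1
    have hA' : ∀ m, s.cA m ⬝ᵥ e' = 0 := fun m => by
      rw [he', dotProduct_sub, dotProduct_smul, hA, dotProduct_comm (s.cA m), s.T_A, smul_zero, sub_zero]
    have hT' : ∑ m, s.cT m ⬝ᵥ e' = 2 * z - z * 4 := by
      simp only [he', dotProduct_sub, dotProduct_smul, smul_eq_mul, Finset.sum_sub_distrib, ← Finset.mul_sum,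
        hsum]
      rw [Finset.sum_congr rfl fun m _ => dotProduct_comm (s.cT m) (s.cT l), s.T_sum]
    have hc' : s.c0 ⬝ᵥ e' = s.c0 ⬝ᵥ e ∧ ∀ k, s.c k ⬝ᵥ e' = s.c k ⬝ᵥ e := by
      refine ⟨?_, fun k => ?_⟩ <;>
        rw [he', dotProduct_sub, dotProduct_smul, smul_eq_mul] <;> simp [s.c0_T, s.c_T]
    rw [hT', Finset.sum_eq_zero fun m _ => hA' m, hc'.1, hc'.2, hc'.2] at v2
    have hmom : s.mom e' = s.mom e := by
      rw [he', s.mom_sub, s.mom_smul, show s.mom (s.cT l) = 0 from s.mom_T l, mul_zero, sub_zero]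
    have hd : s.deg ⬝ᵥ e' = s.deg ⬝ᵥ e := by
      rw [he', dotProduct_sub, dotProduct_smul, s.deg_T, smul_zero, sub_zero]
    rw [s.mom_unit ne', s.mom_unit he, hd, div_left_inj' (Int.cast_ne_zero.2 (s.deg_unit he))] at hmom
    have hsq : (s.val ⬝ᵥ e') ^ 2 = (s.val ⬝ᵥ e) ^ 2 := by exact_mod_cast hmom
    set B := 2 * (s.c0 ⬝ᵥ e) + (Q - 1) * (s.c 0 ⬝ᵥ e + s.c 1 ⬝ᵥ e) with hB
    have hB0 : B * (z * (Q + 1)) = 0 := by
      have e1 : 2 * (s.val ⬝ᵥ e) = B + 2 * z * (Q + 1) := by rw [hB]; linarith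
      have e2 : 2 * (s.val ⬝ᵥ e') = B - 2 * z * (Q + 1) := by rw [hB]; linarith
      have : (2 * (s.val ⬝ᵥ e')) ^ 2 = (2 * (s.val ⬝ᵥ e)) ^ 2 := by rw [mul_pow, hsq, ← mul_pow]
      rw [e1, e2] at this
      linarith
    have hQ : 24 ≤ (Q - 1).natAbs := by have := s.abs_Q; have := s.q_le; omega
    have hB1 : B = 0 := by
      rcases mul_eq_zero.1 hB0 with h | h
      · exact h
      · rcases mul_eq_zero.1 h with h | h
        · exact absurd h hz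
        · omega
    have hb : (s.c0 ⬝ᵥ e).natAbs ≤ 2 := by
      have h : (s.c0 - (s.c0 ⬝ᵥ e) • e) ⬝ᵥ (s.c0 - (s.c0 ⬝ᵥ e) • e) = 4 - (s.c0 ⬝ᵥ e) ^ 2 := by
        simp only [sub_dotProduct, dotProduct_sub, smul_dotProduct, dotProduct_smul, smul_eq_mul,
          dotProduct_comm e s.c0, s.c0_c0, he]
        ring
      have h0 := Vec.dot_self_nonneg (s.c0 - (s.c0 ⬝ᵥ e) • e)
      rw [h] at h0
      have : -3 < s.c0 ⬝ᵥ e ∧ s.c0 ⬝ᵥ e < 3 := by constructor <;> nlinarith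
      omega
    set k := s.c 0 ⬝ᵥ e + s.c 1 ⬝ᵥ e with hk
    have hk0 : k = 0 := by
      by_contra hk0
      have : (Q - 1).natAbs * k.natAbs ≤ 4 := by
        rw [← Int.natAbs_mul, show (Q - 1) * k = -(2 * (s.c0 ⬝ᵥ e)) by rw [hB] at hB1; linarith,
          Int.natAbs_neg, Int.natAbs_mul]
        norm_num
        omega
      have : (Q - 1).natAbs ≤ (Q - 1).natAbs * k.natAbs := Nat.le_mul_of_pos_right _ (by omega)
      omega
    rw [hB, hk0, mul_zero, add_zero] at hB1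
    rcases hr with h | h <;> omega
  refine ⟨?_, hT⟩
  rw [s.value_dot, Finset.sum_eq_zero fun m _ => hT m, Finset.sum_eq_zero fun m _ => hA m]
  ring

/-- The value at `t` on the orbits. -/
theorem value_Z (l : AD) : s.val ⬝ᵥ (s.F l - W) = -(Q - 1) := by
  have h := s.value_dot (s.F l - W)
  simp only [dotProduct_sub, s.F_c0, C.c0_W, s.F_c, C.c_W, s.F_T, C.T_W, C.A_W, Finset.sum_sub_distrib,
    Finset.sum_const_zero, sub_self, sub_zero, mul_zero, add_zero] at h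
  rw [Finset.sum_congr rfl fun m _ => dotProduct_comm (s.cA m) (s.F l), s.F_A_sum] at h
  rw [dotProduct_sub]
  linarith

theorem mom_W : s.mom W = -(((Q : ℚ) - 1) ^ 2 / D) := by
  obtain ⟨l⟩ := s.nonempty
  obtain ⟨h1, -, h3⟩ := C.Z_unit l
  have h := s.mom_unit h1
  rw [s.mom_sub, show s.mom (s.F l) = 0 from s.mom_F l, C.value_Z, h3] at h
  push_cast at h
  linear_combination (-1 : ℚ) * h

/-- `|G| = q³ (Q + 1) D`. -/
theorem card_eq : (g : ℤ) = (q : ℤ) ^ 3 * (Q + 1) * D := by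
  obtain ⟨l, Y, P, O⟩ := C.exists_one
  have hY : ∀ j, s.val ⬝ᵥ Y j = -(Q - 1) := fun j => by
    have := C.value_Z (s.rot j l)
    rwa [show s.F (s.rot j l) = W + Y j from O.f_eq j, add_sub_cancel_left] at this
  have hP : s.val ⬝ᵥ P = 3 * (Q - 1) := by
    obtain ⟨-, ⟨h0, h0', -⟩, hc, hT⟩ := C.vanish l O
    have h := s.value_dot P
    rw [h0', (hc 0).2.1, (hc 1).2.1, Finset.sum_eq_zero fun m _ => (hT m).2.1] at h
    have hA : ∑ m, s.cA m ⬝ᵥ P = 6 := by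
      have e : P = s.cA l - Y 0 + Y 1 + Y 2 := by rw [O.δ_eq]; abel
      have hYm : ∀ j, ∑ m, s.cA m ⬝ᵥ Y j = -2 := fun j => by
        rw [← s.F_A_sum (s.rot j l)]
        refine Finset.sum_congr rfl fun m _ => ?_
        rw [show s.F (s.rot j l) = W + Y j from O.f_eq j, add_dotProduct, dotProduct_comm W, C.A_W, zero_add,
          dotProduct_comm]
      simp only [e, dotProduct_add, dotProduct_sub, Finset.sum_add_distrib, Finset.sum_sub_distrib, hYm]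
      rw [Finset.sum_congr rfl fun m _ => dotProduct_comm (s.cA m) (s.cA l), s.A_sum]
      norm_num
    rw [hA] at h
    linarith
  have hmY : ∀ j, s.mom (Y j) = ((Q : ℚ) - 1) ^ 2 / D := fun j => by
    rw [s.mom_unit (O.norm_Y j), hY, O.deg_Y]; push_cast; ring
  have hmP : s.mom P = 9 * ((Q : ℚ) - 1) ^ 2 / D := by
    rw [s.mom_unit O.norm_P, hP, O.deg_P]; push_cast; ring
  have hm : s.mom (s.cA l) = ((q : ℚ) * ((q : ℚ) ^ 2 - 1)) ^ 2 / g * (8 * q / (Q + 1)) := s.mom_A l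
  rw [O.δ_eq, s.mom_add, s.mom_sub, s.mom_sub, hmY, hmY, hmY, hmP] at hm
  have hD : (D : ℚ) ≠ 0 := Int.cast_ne_zero.2 C.D_ne
  have hQq : (Q : ℚ) ^ 2 = (q : ℚ) ^ 2 := by
    rcases s.Q_cases with e | e <;> subst e <;> push_cast <;> ring
  have hq1 := s.abs_Q
  have hq2 := s.q_le
  have hQ1 : (Q : ℚ) + 1 ≠ 0 := by exact_mod_cast (show Q + 1 ≠ 0 by omega)
  have hQ2 : (Q : ℚ) - 1 ≠ 0 := by exact_mod_cast (show Q - 1 ≠ 0 by omega)
  have hg : (g : ℚ) ≠ 0 := Nat.cast_ne_zero.2 s.g_pos.ne'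
  field_simp at hm
  have key : (g : ℚ) * (((Q : ℚ) - 1) ^ 2 * ((Q : ℚ) + 1)) =
      (q : ℚ) ^ 3 * ((Q : ℚ) + 1) * D * (((Q : ℚ) - 1) ^ 2 * ((Q : ℚ) + 1)) := by
    linear_combination hm / 8 - (q : ℚ) ^ 3 * D * ((q : ℚ) ^ 2 + (Q : ℚ) ^ 2 - 2) * hQq
  have := mul_right_cancel₀ (mul_ne_zero (pow_ne_zero 2 hQ2) hQ1) key
  exact_mod_cast this

theorem dvd_D : Q - 1 ∣ D := by
  obtain ⟨k, hk⟩ := s.cent_dvd
  have hq := s.q_le
  have hk' : (g : ℤ) = (q : ℤ) * ((q : ℤ) ^ 2 - 1) * k := by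
    have : 1 ≤ q ^ 2 := Nat.one_le_pow _ _ (by omega)
    have h := congrArg (fun n : ℕ => (n : ℤ)) hk
    simp only [Nat.cast_mul, Nat.cast_sub this, Nat.cast_pow, Nat.cast_one] at h
    linarith
  rw [C.card_eq] at hk'
  have h2 : Q ^ 2 = (q : ℤ) ^ 2 := by rcases s.Q_cases with e | e <;> subst e <;> ring
  have hQ1 : Q + 1 ≠ 0 := by have := s.abs_Q; omega
  have key : Q ^ 2 * D = (Q - 1) * k := by
    refine mul_left_cancel₀ (mul_ne_zero (show (q : ℤ) ≠ 0 by omega) hQ1) ?_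
    linear_combination hk' + ((q : ℤ) * (Q + 1) * D - (q : ℤ) * k) * h2
  have hcop : IsCoprime (Q - 1) (Q ^ 2) :=
    (show IsCoprime (Q - 1) Q from ⟨-1, 1, by ring⟩).pow_right
  exact hcop.dvd_of_dvd_mul_left ⟨k, key⟩

end Core

end Sys

end Cfsg.Agent.AbelianSylow.Chars
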