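import Cfsg.Agent.EqLemmas
import Cfsg.Agent.Lib.AbelianSylow.Chars.Sys

/-!
# The rows (owner: helper84; section 4 of `PROOF.md`)

* `Sys.CaseA` : `W = b - a` with `a (1,0,0)`, `b (1,1,1)`
* `Sys.CaseB` : `W = u + u'`, `c j` share two constituents with `c0`
* `Sys.CaseC` : `W = u + u'`, `c j` share one constituent with `c0`
* `Sys.exists_rows` : one of the three holds
-/

set_option autoImplicit false
set_option linter.unusedSectionVars false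

namespace Cfsg.Agent.AbelianSylow.Chars.Sys

open Matrix

universe u v

variable {X : Type u} [Fintype X] [DecidableEq X] {TD AD : Type v} [Fintype TD] [Fintype AD]
variable {Q : ℤ} {q a g : ℕ} (s : Sys X TD AD Q q a g)

/-- `W = b - a`. -/
structure CaseA (W : X → ℤ) (D : ℤ) (ea eb ec : X → ℤ) : Prop where
  na : ea ⬝ᵥ ea = 1
  nb : eb ⬝ᵥ eb = 1
  nc : ec ⬝ᵥ ec = 1
  oab : ea ⬝ᵥ eb = 0
  oac : ea ⬝ᵥ ec = 0
  obc : eb ⬝ᵥ ec = 0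
  W_eq : W = eb - ea
  c0_eq : s.c0 = s.one + ea + eb + ec
  row_a : ∀ j, s.c j ⬝ᵥ ea = 0
  row_b : ∀ j, s.c j ⬝ᵥ eb = 1
  row_c : ∀ j, s.c j ⬝ᵥ ec = 1
  val_a : s.val ⬝ᵥ ea = 1
  val_b : s.val ⬝ᵥ eb = Q
  val_c : s.val ⬝ᵥ ec = Q
  deg_D : s.deg ⬝ᵥ ea - s.deg ⬝ᵥ eb = D

/-- `W = u + u'` with rows `(0,1,0)`, `(0,0,1)`, and three constituents of `c0`. -/
structure CaseU (W : X → ℤ) (D : ℤ) (e : Fin 3 → X → ℤ) (u u' : X → ℤ) : Prop where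
  ne : ∀ n, e n ⬝ᵥ e n = 1
  oe : ∀ n n', n ≠ n' → e n ⬝ᵥ e n' = 0
  nu : u ⬝ᵥ u = 1
  nu' : u' ⬝ᵥ u' = 1
  ouu : u ⬝ᵥ u' = 0
  oeu : ∀ n, e n ⬝ᵥ u = 0
  oeu' : ∀ n, e n ⬝ᵥ u' = 0
  e_F : ∀ n l, e n ⬝ᵥ s.F l = 0
  W_eq : W = u + u'
  c0_eq : s.c0 = s.one + e 0 + e 1 + e 2
  c0_e : ∀ n, s.c0 ⬝ᵥ e n = 1
  u_row : s.c0 ⬝ᵥ u = 0 ∧ s.c 0 ⬝ᵥ u = 1 ∧ s.c 1 ⬝ᵥ u = 0
  u'_row : s.c0 ⬝ᵥ u' = 0 ∧ s.c 0 ⬝ᵥ u' = 0 ∧ s.c 1 ⬝ᵥ u' = 1
  val_u : 2 * (s.val ⬝ᵥ u) = Q - 1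
  val_u' : 2 * (s.val ⬝ᵥ u') = Q - 1
  deg_u : D = -2 * (s.deg ⬝ᵥ u)
  deg_u' : D = -2 * (s.deg ⬝ᵥ u')

/-- Both `c j` contain `e 1` and `e 2`. -/
structure CaseB (W : X → ℤ) (D : ℤ) (e : Fin 3 → X → ℤ) (u u' v v' : X → ℤ) : Prop extends
    CaseU s W D e u u' where
  c0'_eq : s.c 0 = e 1 + e 2 + u + v
  c1'_eq : s.c 1 = e 1 + e 2 + u' + v'
  val_0 : s.val ⬝ᵥ e 0 = 1
  val_1 : s.val ⬝ᵥ e 1 = Q
  val_2 : s.val ⬝ᵥ e 2 = Q
  nv : v ⬝ᵥ v = 1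
  nv' : v' ⬝ᵥ v' = 1
  v_F : ∀ l, v ⬝ᵥ s.F l = 0
  v_row : s.c0 ⬝ᵥ v = 0 ∧ s.c 0 ⬝ᵥ v = 1 ∧ s.c 1 ⬝ᵥ v = 0
  val_v : 2 * (s.val ⬝ᵥ v) = Q - 1

/-- `c 0` contains `e 0`, `e 1` and `c 1` contains `e 0`, `e 2`. -/
structure CaseC (W : X → ℤ) (D : ℤ) (e : Fin 3 → X → ℤ) (u u' v : X → ℤ) : Prop extends
    CaseU s W D e u u' where
  c0'_eq : s.c 0 = e 0 + e 1 + u + v
  c1'_eq : s.c 1 = e 0 + e 2 + u' + v
  val_0 : s.val ⬝ᵥ e 0 = Q
  val_1 : 2 * (s.val ⬝ᵥ e 1) = Q + 1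
  val_2 : 2 * (s.val ⬝ᵥ e 2) = Q + 1
  row_0 : ∀ j, s.c j ⬝ᵥ e 0 = 1
  row_1 : s.c 0 ⬝ᵥ e 1 = 1 ∧ s.c 1 ⬝ᵥ e 1 = 0
  row_2 : s.c 0 ⬝ᵥ e 2 = 0 ∧ s.c 1 ⬝ᵥ e 2 = 1
  nv : v ⬝ᵥ v = 1
  v_row : s.c0 ⬝ᵥ v = 0 ∧ s.c 0 ⬝ᵥ v = 1 ∧ s.c 1 ⬝ᵥ v = 1
  val_v : s.val ⬝ᵥ v = Q - 1

/-- Units inside `c0`. -/
theorem mem_c0 {e0 e1 e2 e : X → ℤ} (hc : s.c0 = s.one + e0 + e1 + e2) (h0 : e0 ⬝ᵥ e0 = 1)
    (h1 : e1 ⬝ᵥ e1 = 1) (h2 : e2 ⬝ᵥ e2 = 1) (he : e ⬝ᵥ e = 1) (h : s.c0 ⬝ᵥ e ≠ 0) :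
    (e = s.one ∨ e = -s.one) ∨ (e = e0 ∨ e = -e0) ∨ (e = e1 ∨ e = -e1) ∨ (e = e2 ∨ e = -e2) := by
  have key : ∀ {u : X → ℤ}, u ⬝ᵥ u = 1 → u ⬝ᵥ e = 0 ∨ (e = u ∨ e = -u) := fun {u} hu =>
    (Vec.dot_unit hu he).imp id (fun h => h.imp And.right And.right)
  rcases key s.one_one with a | a
  · rcases key h0 with b | b
    · rcases key h1 with c | c
      · rcases key h2 with d | d
        · exact absurd (by rw [hc, add_dotProduct, add_dotProduct, add_dotProduct, a, b, c, d]; rfl) h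
        · exact Or.inr (Or.inr (Or.inr d))
      · exact Or.inr (Or.inr (Or.inl c))
    · exact Or.inr (Or.inl b)
  · exact Or.inl a

theorem exists_split_c0 : ∃ e : Fin 3 → X → ℤ, (∀ n, e n ⬝ᵥ e n = 1) ∧ (∀ n n', n ≠ n' → e n ⬝ᵥ e n' = 0) ∧
    (∀ n, s.one ⬝ᵥ e n = 0) ∧ s.c0 = s.one + e 0 + e 1 + e 2 := by
  set w := s.c0 - s.one with hw
  have nw : w ⬝ᵥ w = 3 := by
    rw [hw, sub_dotProduct, dotProduct_sub, dotProduct_sub, dotProduct_comm s.one s.c0, s.c0_c0, s.one_c0,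
      s.one_one]; norm_num
  clear_value w
  obtain ⟨x, hx⟩ : ∃ x, w x ≠ 0 := by
    by_contra hno
    push Not at hno
    rw [show w = 0 from funext hno, zero_dotProduct] at nw
    omega
  have h2 : w x * w x = 1 := by
    have h1 := Vec.sq_le w x
    rw [nw] at h1
    have : w x ≤ 1 ∧ -1 ≤ w x := by constructor <;> nlinarith
    rcases (show w x = 1 ∨ w x = -1 by omega) with e | e <;> rw [e] <;> norm_num
  set u : X → ℤ := Pi.single x (w x) with hu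
  have nu : u ⬝ᵥ u = 1 := by rw [hu, single_dotProduct, Pi.single_eq_same, h2]
  have uw : u ⬝ᵥ w = 1 := by rw [hu, single_dotProduct, h2]
  obtain ⟨p, r, hpr, np, nr, opr⟩ := Vec.split_two (w := w - u) (by
    rw [sub_dotProduct, dotProduct_sub, dotProduct_sub, dotProduct_comm w u, nw, nu, uw]; norm_num)
  obtain ⟨hpu, hru⟩ := Vec.dot_pair np nr opr nu (by
    rw [← hpr, sub_dotProduct, dotProduct_comm w u, uw, nu]; norm_num)
  have hone : ∀ z : X → ℤ, z ⬝ᵥ z = 1 → z ⬝ᵥ w = 1 → s.one ⬝ᵥ z = 0 := fun z hz hzw => by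
    rcases Vec.dot_unit s.one_one hz with h | ⟨-, rfl⟩ | ⟨-, rfl⟩
    · exact h
    all_goals
      simp [hw, dotProduct_comm s.one s.c0, s.one_c0, s.one_one] at hzw
  have ew : w = u + p + r := by rw [add_assoc, ← hpr]; abel
  refine ⟨![u, p, r], fun n => ?_, fun n n' hn => ?_, fun n => ?_, ?_⟩
  · fin_cases n <;> assumption
  · fin_cases n <;> fin_cases n' <;>
      first | exact absurd rfl hn | assumption | (rw [dotProduct_comm]; assumption)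
  · fin_cases n
    · exact hone u nu uw
    · exact hone p np (by rw [ew, dotProduct_add, dotProduct_add, np, hpu, opr]; rfl)
    · exact hone r nr (by rw [ew, dotProduct_add, dotProduct_add, nr, hru, dotProduct_comm r p, opr]; rfl)
  · show s.c0 = s.one + u + p + r
    rw [add_assoc s.one u p, add_assoc s.one, ← ew, hw]
    abel

variable {s} {W : X → ℤ} {D : ℤ} (C : s.Core W D)
include C

theorem Core.sep {e u : X → ℤ} (he : e ⬝ᵥ e = 1) (hu : u ⬝ᵥ u = 1) (h1 : s.c0 ⬝ᵥ e ≠ 0)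
    (h2 : s.c0 ⬝ᵥ u = 0) : e ⬝ᵥ u = 0 := by
  rcases Vec.dot_unit he hu with h | ⟨-, rfl⟩ | ⟨-, rfl⟩
  · exact h
  · exact absurd h2 h1
  · rw [dotProduct_neg, neg_eq_zero] at h2; exact absurd h2 h1

theorem Core.dot_F {e : X → ℤ} (he : e ⬝ᵥ e = 1)
    (hr : s.c0 ⬝ᵥ e ≠ 0 ∨ s.c 0 ⬝ᵥ e ≠ 0 ∨ s.c 1 ⬝ᵥ e ≠ 0) (hW : e ⬝ᵥ W = 0) (l : AD) :
    e ⬝ᵥ s.F l = 0 := by
  have := (C.free he hr l).2
  rw [sub_dotProduct, dotProduct_comm W, hW, sub_zero, dotProduct_comm] at this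
  exact this

theorem caseA_of {w1 w2 : X → ℤ} (n1 : w1 ⬝ᵥ w1 = 1) (n2 : w2 ⬝ᵥ w2 = 1) (o : w1 ⬝ᵥ w2 = 0)
    (hW : W = w1 + w2) (h1 : s.c0 ⬝ᵥ w1 = 1) :
    ∃ ea eb ec, CaseA s W D ea eb ec := by
  have h2 : s.c0 ⬝ᵥ w2 = -1 := by
    have := C.c0_W; rw [hW, dotProduct_add, h1] at this; omega
  obtain ⟨o1, o2⟩ := Vec.dot_pair n1 n2 o s.one_one (by rw [← hW, dotProduct_comm]; exact C.one_W)
  set ea := -w2 with hea
  set ec := s.c0 - s.one - ea - w1 with hec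
  have na : ea ⬝ᵥ ea = 1 := by simp [hea, n2]
  have ca : s.c0 ⬝ᵥ ea = 1 := by simp [hea, h2]
  have oab : ea ⬝ᵥ w1 = 0 := by rw [hea, neg_dotProduct, dotProduct_comm, o, neg_zero]
  have o2' : s.one ⬝ᵥ ea = 0 := by rw [hea, dotProduct_neg, dotProduct_comm, o2, neg_zero]
  have o1' : s.one ⬝ᵥ w1 = 0 := by rw [dotProduct_comm]; exact o1
  have c1 : s.one ⬝ᵥ s.c0 = 1 := by rw [dotProduct_comm]; exact s.one_c0
  have nc : ec ⬝ᵥ ec = 1 := by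
    simp only [hec, sub_dotProduct, dotProduct_sub, dotProduct_comm ea s.c0, dotProduct_comm w1 s.c0,
      dotProduct_comm ea s.one, dotProduct_comm w1 s.one, dotProduct_comm w1 ea, s.c0_c0, s.one_c0,
      s.one_one, c1, ca, h1, o1', o2', oab, na, n1]
    norm_num
  have oac : ea ⬝ᵥ ec = 0 := by
    simp only [hec, dotProduct_sub, dotProduct_comm ea s.c0, dotProduct_comm ea s.one, ca, o2', na, oab]
    norm_num
  have obc : w1 ⬝ᵥ ec = 0 := by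
    simp only [hec, dotProduct_sub, dotProduct_comm w1 s.c0, dotProduct_comm w1 s.one, h1, o1', n1,
      dotProduct_comm w1 ea, oab]
    norm_num
  have ecc : s.c0 ⬝ᵥ ec = 1 := by
    simp only [hec, dotProduct_sub, s.c0_c0, s.one_c0, ca, h1]; norm_num
  have rows : ∀ j, s.c j ⬝ᵥ ea = 0 ∧ s.c j ⬝ᵥ w1 = 1 ∧ s.c j ⬝ᵥ ec = 1 := by
    intro j
    set α := s.c j ⬝ᵥ ea with hα
    have hb : s.c j ⬝ᵥ w1 = α + 1 := by
      have h := C.c_W j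
      rw [hW, dotProduct_add] at h
      have : s.c j ⬝ᵥ w2 = -α := by rw [hα, hea, dotProduct_neg, neg_neg]
      omega
    have hcc : s.c j ⬝ᵥ ec = 1 - 2 * α := by
      simp only [hec, dotProduct_sub, dotProduct_comm (s.c j) s.c0, s.c0_c, s.one_c, hb, ← hα]
      omega
    set v := s.c j - α • ea - (α + 1) • w1 - (1 - 2 * α) • ec with hv
    have nv : v ⬝ᵥ v = 4 - α ^ 2 - (α + 1) ^ 2 - (1 - 2 * α) ^ 2 := by
      simp only [hv, sub_dotProduct, dotProduct_sub, smul_dotProduct, dotProduct_smul, smul_eq_mul,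
        dotProduct_comm ea (s.c j), dotProduct_comm w1 (s.c j), dotProduct_comm ec (s.c j),
        dotProduct_comm w1 ea, dotProduct_comm ec ea, dotProduct_comm ec w1, s.c_c, if_true, hb, hcc, ← hα,
        na, n1, nc, oab, oac, obc]
      ring
    have h0 := Vec.dot_self_nonneg v
    rw [nv] at h0
    have : -1 < α ∧ α < 1 := by constructor <;> nlinarith
    omega
  have va := (C.value na (Or.inl (by omega))).1
  have vb := (C.value n1 (Or.inl (by omega))).1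
  have vc := (C.value nc (Or.inl (by omega))).1
  simp only [ca, h1, ecc, (rows _).1, (rows _).2.1, (rows _).2.2] at va vb vc
  refine ⟨ea, w1, ec, ⟨na, n1, nc, oab, oac, obc, by rw [hW, hea]; abel, by rw [hec]; abel,
    fun j => (rows j).1, fun j => (rows j).2.1, fun j => (rows j).2.2, by linarith, by linarith, by linarith,
    ?_⟩⟩
  have h := C.deg_W
  rw [hW, dotProduct_add] at h
  rw [hea, dotProduct_neg]
  omega

theorem exists_rows : (∃ ea eb ec, CaseA s W D ea eb ec) ∨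
    (∃ e u u' v v', CaseB s W D e u u' v v') ∨ ∃ e u u' v, CaseC s W D e u u' v := by
  obtain ⟨w1, w2, hW, n1, n2, o⟩ := Vec.split_two C.norm_W
  obtain ⟨e, ne, oe, oone, hc0⟩ := s.exists_split_c0
  have he0 : ∀ n, s.c0 ⬝ᵥ e n = 1 := fun n => by
    rw [hc0]
    fin_cases n <;> simp [add_dotProduct, oone, ne, oe 0 1 (by decide), oe 1 0 (by decide), oe 0 2 (by decide),
      oe 2 0 (by decide), oe 1 2 (by decide), oe 2 1 (by decide)]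
  have hc0W : s.c0 ⬝ᵥ w1 + s.c0 ⬝ᵥ w2 = 0 := by
    have := C.c0_W; rwa [hW, dotProduct_add] at this
  by_cases hz : s.c0 ⬝ᵥ w1 = 0
  swap
  · left
    have hone : s.c0 ⬝ᵥ s.one = 1 := s.one_c0
    rcases mem_c0 s hc0 (ne 0) (ne 1) (ne 2) n1 hz with h | h | h | h <;> rcases h with h | h
    all_goals first
      | exact caseA_of C n1 n2 o hW (by rw [h]; first | exact hone | exact he0 _)
      | refine caseA_of C n2 n1 ((dotProduct_comm _ _).trans o) (hW.trans (add_comm _ _)) ?_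
    all_goals
      have e1 : s.c0 ⬝ᵥ w1 = -1 := by rw [h, dotProduct_neg]; first | rw [hone] | rw [he0]
      omega
  right
  have hz2 : s.c0 ⬝ᵥ w2 = 0 := by omega
  have ew : ∀ n, e n ⬝ᵥ w1 = 0 ∧ e n ⬝ᵥ w2 = 0 := fun n =>
    ⟨C.sep (ne n) n1 (by rw [he0]; norm_num) hz, C.sep (ne n) n2 (by rw [he0]; norm_num) hz2⟩
  -- the coefficients of `c j`
  have coef : ∀ j, (∀ n, s.c j ⬝ᵥ e n = 0 ∨ s.c j ⬝ᵥ e n = 1) ∧
      s.c j ⬝ᵥ e 0 + s.c j ⬝ᵥ e 1 + s.c j ⬝ᵥ e 2 = 2 ∧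
      ((s.c j ⬝ᵥ w1 = 1 ∧ s.c j ⬝ᵥ w2 = 0) ∨ (s.c j ⬝ᵥ w1 = 0 ∧ s.c j ⬝ᵥ w2 = 1)) := by
    intro j
    have hsum : s.c j ⬝ᵥ e 0 + s.c j ⬝ᵥ e 1 + s.c j ⬝ᵥ e 2 = 2 := by
      have := s.c0_c j
      rw [dotProduct_comm, hc0, dotProduct_add, dotProduct_add, dotProduct_add, s.one_c] at this
      omega
    have hx : s.c j ⬝ᵥ w1 + s.c j ⬝ᵥ w2 = 1 := by
      have := C.c_W j; rwa [hW, dotProduct_add] at this
    set α := s.c j ⬝ᵥ e 0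
    set β := s.c j ⬝ᵥ e 1
    set γ := s.c j ⬝ᵥ e 2
    set x1 := s.c j ⬝ᵥ w1
    set x2 := s.c j ⬝ᵥ w2
    set v := s.c j - α • e 0 - β • e 1 - γ • e 2 - x1 • w1 - x2 • w2 with hv
    have nv : v ⬝ᵥ v = 4 - (α ^ 2 + β ^ 2 + γ ^ 2 + x1 ^ 2 + x2 ^ 2) := by
      simp only [hv, sub_dotProduct, dotProduct_sub, smul_dotProduct, dotProduct_smul, smul_eq_mul,
        dotProduct_comm (e _) (s.c j), dotProduct_comm w1 (s.c j), dotProduct_comm w2 (s.c j),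
        dotProduct_comm w1 (e _), dotProduct_comm w2 (e _), dotProduct_comm w2 w1, s.c_c, if_true, ne,
        oe 0 1 (by decide), oe 1 0 (by decide), oe 0 2 (by decide), oe 2 0 (by decide), oe 1 2 (by decide),
        oe 2 1 (by decide), n1, n2, o, (ew _).1, (ew _).2]
      ring
    have h0 := Vec.dot_self_nonneg v
    rw [nv] at h0
    have hp : ∀ z : ℤ, z ≤ z ^ 2 ∧ (z = 0 ∨ z = 1 ∨ z + 2 ≤ z ^ 2) := fun z => by
      refine ⟨by nlinarith [sq_nonneg (2 * z - 1)], ?_⟩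
      by_cases h : z = 0 ∨ z = 1
      · tauto
      · push Not at h
        right; right
        rcases (show z ≤ -1 ∨ 2 ≤ z by omega) with h' | h' <;> nlinarith
    obtain ⟨a1, a2⟩ := hp α
    obtain ⟨b1, b2⟩ := hp β
    obtain ⟨c1, c2⟩ := hp γ
    obtain ⟨d1, d2⟩ := hp x1
    obtain ⟨e1, e2⟩ := hp x2
    refine ⟨fun n => ?_, hsum, by omega⟩
    fin_cases n
    · show α = 0 ∨ α = 1; omega
    · show β = 0 ∨ β = 1; omega
    · show γ = 0 ∨ γ = 1; omega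
  -- order `w1`, `w2`
  obtain ⟨u, u', nu, nu', ouu, hWu, hu0, hu0', hr, oeu, oeu'⟩ : ∃ u u' : X → ℤ, u ⬝ᵥ u = 1 ∧ u' ⬝ᵥ u' = 1 ∧
      u ⬝ᵥ u' = 0 ∧ W = u + u' ∧ s.c0 ⬝ᵥ u = 0 ∧ s.c0 ⬝ᵥ u' = 0 ∧ (s.c 0 ⬝ᵥ u = 1 ∧ s.c 0 ⬝ᵥ u' = 0) ∧
        (∀ n, e n ⬝ᵥ u = 0) ∧ ∀ n, e n ⬝ᵥ u' = 0 := by
    rcases (coef 0).2.2 with h | h
    · exact ⟨w1, w2, n1, n2, o, hW, hz, hz2, h, fun n => (ew n).1, fun n => (ew n).2⟩
    · exact ⟨w2, w1, n2, n1, (dotProduct_comm _ _).trans o, hW.trans (add_comm _ _), hz2, hz, ⟨h.2, h.1⟩,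
        fun n => (ew n).2, fun n => (ew n).1⟩
  have hr1 : s.c 1 ⬝ᵥ u + s.c 1 ⬝ᵥ u' = 1 := by
    have := C.c_W 1; rwa [hWu, dotProduct_add] at this
  have hr1' : (s.c 1 ⬝ᵥ u = 1 ∧ s.c 1 ⬝ᵥ u' = 0) ∨ (s.c 1 ⬝ᵥ u = 0 ∧ s.c 1 ⬝ᵥ u' = 1) := by
    set v := s.c 1 - (s.c 1 ⬝ᵥ u) • u - (s.c 1 ⬝ᵥ u') • u' - (s.c 1 ⬝ᵥ e 0) • e 0 - (s.c 1 ⬝ᵥ e 1) • e 1 -
      (s.c 1 ⬝ᵥ e 2) • e 2 with hv
    have nv : v ⬝ᵥ v = 4 - ((s.c 1 ⬝ᵥ u) ^ 2 + (s.c 1 ⬝ᵥ u') ^ 2 + (s.c 1 ⬝ᵥ e 0) ^ 2 + (s.c 1 ⬝ᵥ e 1) ^ 2 +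
        (s.c 1 ⬝ᵥ e 2) ^ 2) := by
      simp only [hv, sub_dotProduct, dotProduct_sub, smul_dotProduct, dotProduct_smul, smul_eq_mul,
        dotProduct_comm (e _) (s.c 1), dotProduct_comm u (s.c 1), dotProduct_comm u' (s.c 1),
        dotProduct_comm u (e _), dotProduct_comm u' (e _), dotProduct_comm u' u, s.c_c, if_true, ne,
        oe 0 1 (by decide), oe 1 0 (by decide), oe 0 2 (by decide), oe 2 0 (by decide), oe 1 2 (by decide),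
        oe 2 1 (by decide), nu, nu', ouu, oeu, oeu']
      ring
    have h0 := Vec.dot_self_nonneg v
    rw [nv] at h0
    have hs := (coef 1).2.1
    have : s.c 1 ⬝ᵥ e 0 ≤ (s.c 1 ⬝ᵥ e 0) ^ 2 ∧ s.c 1 ⬝ᵥ e 1 ≤ (s.c 1 ⬝ᵥ e 1) ^ 2 ∧
        s.c 1 ⬝ᵥ e 2 ≤ (s.c 1 ⬝ᵥ e 2) ^ 2 := by
      refine ⟨?_, ?_, ?_⟩ <;> rcases (coef 1).1 _ with h | h <;> rw [h] <;> norm_num
    have : -1 < s.c 1 ⬝ᵥ u ∧ s.c 1 ⬝ᵥ u < 2 := by constructor <;> nlinarith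
    omega
  have vu := (C.value nu (Or.inr (by omega))).1
  rw [hu0, hr.1] at vu
  have hval : s.val ⬝ᵥ u + s.val ⬝ᵥ u' = s.val ⬝ᵥ W := by rw [hWu, dotProduct_add]
  have hDu : s.deg ⬝ᵥ u + s.deg ⬝ᵥ u' = -D := by
    rw [← dotProduct_add, ← hWu]; exact C.deg_W
  have hmW : ((s.val ⬝ᵥ u : ℤ) : ℚ) ^ 2 / ((s.deg ⬝ᵥ u : ℤ) : ℚ) +
      ((s.val ⬝ᵥ u' : ℤ) : ℚ) ^ 2 / ((s.deg ⬝ᵥ u' : ℤ) : ℚ) = -(((Q : ℚ) - 1) ^ 2 / D) := by
    rw [← C.mom_W, hWu, s.mom_add, s.mom_unit nu, s.mom_unit nu']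
  have hQ1 : (Q : ℚ) - 1 ≠ 0 := by
    have := s.abs_Q; have := s.q_le
    exact_mod_cast (show Q - 1 ≠ 0 by omega)
  have hdu := s.deg_unit nu
  have hdu' := s.deg_unit nu'
  have hD := C.D_ne
  have hdu2 : (((s.deg ⬝ᵥ u : ℤ) : ℚ)) ≠ 0 := Int.cast_ne_zero.2 hdu
  have hdu3 : (((s.deg ⬝ᵥ u' : ℤ) : ℚ)) ≠ 0 := Int.cast_ne_zero.2 hdu'
  have hD2 : (D : ℚ) ≠ 0 := Int.cast_ne_zero.2 hD
  rcases hr1' with h11 | h11
  · -- the rows (0,1,1), (0,0,0)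
    exfalso
    rw [h11.1] at vu
    have hu'T : ∀ m, s.cT m ⬝ᵥ u' = 0 := fun m => by
      have h := C.T_W m
      rwa [hWu, dotProduct_add, (C.value nu (Or.inr (by omega))).2 m, zero_add] at h
    have hu'A : ∀ m, s.cA m ⬝ᵥ u' = 0 := fun m => by
      have h := C.A_W m
      rwa [hWu, dotProduct_add, (C.free nu (Or.inr (Or.inl (by omega))) m).1, zero_add] at h
    have vu' := s.value_dot u'
    rw [hu0', hr.2, h11.2, Finset.sum_eq_zero fun m _ => hu'T m, Finset.sum_eq_zero fun m _ => hu'A m] at vu'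
    rw [show s.val ⬝ᵥ u = Q - 1 by linarith, show s.val ⬝ᵥ u' = 0 by linarith] at hmW
    push_cast at hmW
    field_simp at hmW
    have h2 : ((D + s.deg ⬝ᵥ u : ℤ) : ℚ) * (((Q : ℚ) - 1) ^ 2 * ((s.deg ⬝ᵥ u' : ℤ) : ℚ)) = 0 := by
      push_cast
      linear_combination hmW
    have h3 : D + s.deg ⬝ᵥ u = 0 := by
      exact_mod_cast (mul_eq_zero.1 h2).resolve_right (mul_ne_zero (pow_ne_zero 2 hQ1) hdu3)
    omega
  rw [h11.1] at vu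
  have vu' := (C.value nu' (Or.inr (by omega))).1
  rw [hu0', hr.2, h11.2] at vu'
  have hdeg : D = -2 * (s.deg ⬝ᵥ u) ∧ D = -2 * (s.deg ⬝ᵥ u') := by
    have e1 : ((s.val ⬝ᵥ u : ℤ) : ℚ) = ((Q : ℚ) - 1) / 2 := by
      rw [eq_div_iff (by norm_num)]
      exact_mod_cast (show s.val ⬝ᵥ u * 2 = Q - 1 by linarith)
    have e2 : ((s.val ⬝ᵥ u' : ℤ) : ℚ) = ((Q : ℚ) - 1) / 2 := by
      rw [eq_div_iff (by norm_num)]
      exact_mod_cast (show s.val ⬝ᵥ u' * 2 = Q - 1 by linarith)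
    rw [e1, e2] at hmW
    field_simp at hmW
    have hD' : (D : ℚ) = -(((s.deg ⬝ᵥ u : ℤ) : ℚ) + ((s.deg ⬝ᵥ u' : ℤ) : ℚ)) := by
      exact_mod_cast (show D = -(s.deg ⬝ᵥ u + s.deg ⬝ᵥ u') by omega)
    rw [hD'] at hmW
    have h2 : (((s.deg ⬝ᵥ u - s.deg ⬝ᵥ u' : ℤ) : ℚ) ^ 2) = 0 := by
      push_cast
      linear_combination -hmW
    have h3 : s.deg ⬝ᵥ u - s.deg ⬝ᵥ u' = 0 := by exact_mod_cast pow_eq_zero_iff (two_ne_zero) |>.1 h2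
    omega
  have eF : ∀ n l, e n ⬝ᵥ s.F l = 0 := fun n => C.dot_F (ne n) (Or.inl (by rw [he0]; norm_num))
    (by rw [hWu, dotProduct_add, oeu, oeu', add_zero])
  -- the permutation
  obtain ⟨p, hp⟩ : ∃ p : Equiv.Perm (Fin 3),
      (s.c 0 ⬝ᵥ e (p 0) = 0 ∧ s.c 1 ⬝ᵥ e (p 0) = 0) ∨ (s.c 0 ⬝ᵥ e (p 2) = 0 ∧ s.c 1 ⬝ᵥ e (p 1) = 0) := by
    obtain ⟨n0, hn0⟩ : ∃ n, s.c 0 ⬝ᵥ e n = 0 := by
      by_contra h; push Not at h
      have := (coef 0).2.1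
      have := ((coef 0).1 0).resolve_left (h 0)
      have := ((coef 0).1 1).resolve_left (h 1)
      have := ((coef 0).1 2).resolve_left (h 2)
      omega
    obtain ⟨n1', hn1⟩ : ∃ n, s.c 1 ⬝ᵥ e n = 0 := by
      by_contra h; push Not at h
      have := (coef 1).2.1
      have := ((coef 1).1 0).resolve_left (h 0)
      have := ((coef 1).1 1).resolve_left (h 1)
      have := ((coef 1).1 2).resolve_left (h 2)
      omega
    by_cases h : n0 = n1'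
    · subst h
      exact ⟨Equiv.swap 0 n0, Or.inl (by rw [Equiv.swap_apply_left]; exact ⟨hn0, hn1⟩)⟩
    · obtain ⟨p, hp2, hp1⟩ :=
        (by decide : ∀ n m : Fin 3, n ≠ m → ∃ p : Equiv.Perm (Fin 3), p 2 = n ∧ p 1 = m) n0 n1' h
      exact ⟨p, Or.inr (by rw [hp2, hp1]; exact ⟨hn0, hn1⟩)⟩
  set f := fun n => e (p n) with hf
  have nf : ∀ n, f n ⬝ᵥ f n = 1 := fun n => ne _
  have of' : ∀ n n', n ≠ n' → f n ⬝ᵥ f n' = 0 := fun n n' h => oe _ _ fun e' => h (p.injective e')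
  have sum3 : ∀ φ : Fin 3 → ℤ, φ (p 0) + φ (p 1) + φ (p 2) = φ 0 + φ 1 + φ 2 := fun φ => by
    have h := Equiv.sum_comp p φ
    simp only [Fin.sum_univ_three] at h
    exact h
  have hc0f : s.c0 = s.one + f 0 + f 1 + f 2 := by
    have h := Equiv.sum_comp p e
    simp only [Fin.sum_univ_three] at h
    rw [hc0, add_assoc, add_assoc, ← add_assoc (e 0), ← h]
    simp only [hf]; abel
  have U : CaseU s W D f u u' := ⟨nf, of', nu, nu', ouu, fun n => oeu _, fun n => oeu' _, fun n => eF _, hWu,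
    hc0f, fun n => he0 _, ⟨hu0, hr.1, h11.1⟩, ⟨hu0', hr.2, h11.2⟩, by linarith, by linarith,
    hdeg.1, hdeg.2⟩
  have hs : ∀ j, s.c j ⬝ᵥ f 0 + s.c j ⬝ᵥ f 1 + s.c j ⬝ᵥ f 2 = 2 := fun j =>
    (sum3 fun n => s.c j ⬝ᵥ e n).trans (coef j).2.1
  have h01 : ∀ j n, s.c j ⬝ᵥ f n = 0 ∨ s.c j ⬝ᵥ f n = 1 := fun j n => (coef j).1 _
  have vf := fun n => (C.value (nf n) (Or.inl (by rw [show s.c0 ⬝ᵥ f n = 1 from he0 _]; norm_num))).1
  simp only [show ∀ n, s.c0 ⬝ᵥ f n = 1 from fun n => he0 _] at vf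
  rcases hp with ⟨h0, h1⟩ | ⟨h0, h1⟩
  · -- two common constituents
    left
    have r : ∀ j, s.c j ⬝ᵥ f 0 = 0 ∧ s.c j ⬝ᵥ f 1 = 1 ∧ s.c j ⬝ᵥ f 2 = 1 := fun j => by
      have := hs j; have := h01 j 1; have := h01 j 2
      have h00 : s.c j ⬝ᵥ f 0 = 0 := by fin_cases j <;> assumption
      omega
    set v := s.c 0 - f 1 - f 2 - u with hv
    set v' := s.c 1 - f 1 - f 2 - u' with hv'
    have nv : v ⬝ᵥ v = 1 := by
      simp only [hv, sub_dotProduct, dotProduct_sub, dotProduct_comm (f _) (s.c 0), dotProduct_comm u (s.c 0),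
        dotProduct_comm u (f _), s.c_c, if_true, nf, of' 1 2 (by decide), of' 2 1 (by decide), nu,
        U.oeu, (r 0).2.1, (r 0).2.2, hr.1]
      norm_num
    have nv' : v' ⬝ᵥ v' = 1 := by
      simp only [hv', sub_dotProduct, dotProduct_sub, dotProduct_comm (f _) (s.c 1), dotProduct_comm u' (s.c 1),
        dotProduct_comm u' (f _), s.c_c, if_true, nf, of' 1 2 (by decide), of' 2 1 (by decide), nu',
        U.oeu', (r 1).2.1, (r 1).2.2, h11.2]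
      norm_num
    have v0 : s.c0 ⬝ᵥ v = 0 := by
      simp only [hv, dotProduct_sub, s.c0_c, U.c0_e, hu0]; norm_num
    have vc0 : s.c 0 ⬝ᵥ v = 1 := by
      simp only [hv, dotProduct_sub, s.c_c, if_true, (r 0).2.1, (r 0).2.2, hr.1]; norm_num
    have vc1 : s.c 1 ⬝ᵥ v = 0 := by
      simp only [hv, dotProduct_sub, s.c_c, show ¬ (1 : Fin 2) = 0 by decide, if_false, (r 1).2.1, (r 1).2.2,
        h11.1]
      norm_num
    have vW : v ⬝ᵥ W = 0 := by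
      simp only [hv, hWu, sub_dotProduct, dotProduct_add, U.oeu, U.oeu', hr.1, hr.2, nu, ouu]
      norm_num
    have vv := (C.value nv (Or.inr (by omega))).1
    rw [v0, vc0, vc1] at vv
    have a0 := vf 0; have a1 := vf 1; have a2 := vf 2
    simp only [(r _).1, (r _).2.1, (r _).2.2] at a0 a1 a2
    exact ⟨f, u, u', v, v', { U with
      c0'_eq := by rw [hv]; abel
      c1'_eq := by rw [hv']; abel
      val_0 := by linarith
      val_1 := by linarith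
      val_2 := by linarith
      nv := nv
      nv' := nv'
      v_F := fun l => C.dot_F nv (Or.inr (Or.inl (by omega))) vW l
      v_row := ⟨v0, vc0, vc1⟩
      val_v := by linarith }⟩
  · -- one common constituent
    right
    have r0 : s.c 0 ⬝ᵥ f 0 = 1 ∧ s.c 0 ⬝ᵥ f 1 = 1 ∧ s.c 0 ⬝ᵥ f 2 = 0 := by
      have := hs 0; have := h01 0 0; have := h01 0 1
      refine ⟨?_, ?_, h0⟩ <;> simp only [hf] at * <;> omega
    have r1 : s.c 1 ⬝ᵥ f 0 = 1 ∧ s.c 1 ⬝ᵥ f 1 = 0 ∧ s.c 1 ⬝ᵥ f 2 = 1 := by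
      have := hs 1; have := h01 1 0; have := h01 1 2
      refine ⟨?_, h1, ?_⟩ <;> simp only [hf] at * <;> omega
    set v := s.c 0 - f 0 - f 1 - u with hv
    have nv : v ⬝ᵥ v = 1 := by
      simp only [hv, sub_dotProduct, dotProduct_sub, dotProduct_comm (f _) (s.c 0), dotProduct_comm u (s.c 0),
        dotProduct_comm u (f _), s.c_c, if_true, nf, of' 0 1 (by decide), of' 1 0 (by decide), nu,
        U.oeu, r0.1, r0.2.1, hr.1]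
      norm_num
    have v0 : s.c0 ⬝ᵥ v = 0 := by
      simp only [hv, dotProduct_sub, s.c0_c, U.c0_e, hu0]; norm_num
    have vc0 : s.c 0 ⬝ᵥ v = 1 := by
      simp only [hv, dotProduct_sub, s.c_c, if_true, r0.1, r0.2.1, hr.1]; norm_num
    have vc1 : s.c 1 ⬝ᵥ v = 1 := by
      simp only [hv, dotProduct_sub, s.c_c, show ¬ (1 : Fin 2) = 0 by decide, if_false, r1.1, r1.2.1, h11.1]
      norm_num
    have vf0 : v ⬝ᵥ f 0 = 0 := by
      simp only [hv, sub_dotProduct, nf, of' 1 0 (by decide), dotProduct_comm u (f _), U.oeu, r0.1]; norm_num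
    have vf2 : v ⬝ᵥ f 2 = 0 := by
      simp only [hv, sub_dotProduct, of' 0 2 (by decide), of' 1 2 (by decide), dotProduct_comm u (f _), U.oeu,
        r0.2.2]; norm_num
    have vu' : v ⬝ᵥ u' = 0 := by
      simp only [hv, sub_dotProduct, U.oeu', ouu, hr.2]; norm_num
    set v2 := s.c 1 - f 0 - f 2 - u' with hv2
    have nv2 : v2 ⬝ᵥ v2 = 1 := by
      simp only [hv2, sub_dotProduct, dotProduct_sub, dotProduct_comm (f _) (s.c 1), dotProduct_comm u' (s.c 1),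
        dotProduct_comm u' (f _), s.c_c, if_true, nf, of' 0 2 (by decide), of' 2 0 (by decide), nu',
        U.oeu', r1.1, r1.2.2, h11.2]
      norm_num
    have hvv : v2 = v := eq_of_norm nv2 nv (by
      rw [hv2, sub_dotProduct, sub_dotProduct, sub_dotProduct, dotProduct_comm (f 0) v, dotProduct_comm (f 2) v,
        dotProduct_comm u' v, vc1, vf0, vf2, vu']
      norm_num)
    have vv := (C.value nv (Or.inr (by omega))).1
    rw [v0, vc0, vc1] at vv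
    have a0 := vf 0; have a1 := vf 1; have a2 := vf 2
    simp only [r0.1, r1.1, r0.2.1, r1.2.1, r0.2.2, r1.2.2] at a0 a1 a2
    exact ⟨f, u, u', v, { U with
      c0'_eq := by rw [hv]; abel
      c1'_eq := by rw [← hvv, hv2]; abel
      val_0 := by linarith
      val_1 := by linarith
      val_2 := by linarith
      row_0 := fun j => by fin_cases j <;> [exact r0.1; exact r1.1]
      row_1 := ⟨r0.2.1, r1.2.1⟩
      row_2 := ⟨r0.2.2, r1.2.2⟩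
      nv := nv
      v_row := ⟨v0, vc0, vc1⟩
      val_v := by linarith }⟩

end Cfsg.Agent.AbelianSylow.Chars.Sys
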