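import Cfsg.Agent.EqLemmas
import Cfsg.Agent.Lib.AbelianSylow.Chars.SysRows
import Cfsg.Agent.Lib.AbelianSylow.Chars.Cases

/-!
# The case `W = b - a` (owner: helper84; section 5 of `PROOF.md`, case (ii))

* `Core.mom_c0_eq`, `Core.mom_c_eq` : the moments with `|G| = q³ (Q + 1) D` inserted
* `Sys.caseA_order` : `|G| = q³ (Q³ + 1) (Q - 1)` and the degrees
* `Sys.caseA_split`, `Sys.caseA_square` : `c j = b + c + u + v` and the degrees of `u`, `v`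
* `Sys.caseA_neg` : the case does not occur for `Q = -q`
-/

set_option autoImplicit false
set_option linter.unusedSectionVars false

namespace Cfsg.Agent.AbelianSylow.Chars.Sys

open Matrix

universe u v

variable {X : Type u} [Fintype X] [DecidableEq X] {TD AD : Type v} [Fintype TD] [Fintype AD]
variable {Q : ℤ} {q a g : ℕ} {s : Sys X TD AD Q q a g} {W : X → ℤ} {D : ℤ} (C : s.Core W D)
include C

theorem Core.mom_c0_eq : s.mom s.c0 = ((Q : ℚ) - 1) * Cases.tau Q D := by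
  have h : s.mom s.c0 = ((q : ℚ) * ((q : ℚ) ^ 2 - 1)) ^ 2 / g * ((q : ℚ) * ((Q : ℚ) - 1) / Q) := s.mom_c0
  rw [h, show (g : ℚ) = (q : ℚ) ^ 3 * ((Q : ℚ) + 1) * D by exact_mod_cast C.card_eq, Cases.tau]
  have := s.abs_Q; have := s.q_le
  have hq : (q : ℚ) ≠ 0 := Nat.cast_ne_zero.2 (by omega)
  have hQ : (Q : ℚ) ≠ 0 := Int.cast_ne_zero.2 (by omega)
  have hQ1 : (Q : ℚ) + 1 ≠ 0 := by exact_mod_cast (show Q + 1 ≠ 0 by omega)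
  have hD : (D : ℚ) ≠ 0 := Int.cast_ne_zero.2 C.D_ne
  have hQ2 : (Q : ℚ) ^ 2 = (q : ℚ) ^ 2 := by
    rcases s.Q_cases with e | e <;> subst e <;> push_cast <;> ring
  field_simp
  rw [← hQ2]
  ring

theorem Core.mom_c_eq (j : Fin 2) : s.mom (s.c j) = Cases.tau Q D * (3 * (Q : ℚ) - 1) / ((Q : ℚ) + 1) := by
  have h : s.mom (s.c j) = ((q : ℚ) * ((q : ℚ) ^ 2 - 1)) ^ 2 / g *
      ((Q : ℚ) * (3 * Q - 1) / (q * (Q + 1))) := s.mom_c j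
  rw [h, show (g : ℚ) = (q : ℚ) ^ 3 * ((Q : ℚ) + 1) * D by exact_mod_cast C.card_eq, Cases.tau]
  have := s.abs_Q; have := s.q_le
  have hq : (q : ℚ) ≠ 0 := Nat.cast_ne_zero.2 (by omega)
  have hQ : (Q : ℚ) ≠ 0 := Int.cast_ne_zero.2 (by omega)
  have hQ1 : (Q : ℚ) + 1 ≠ 0 := by exact_mod_cast (show Q + 1 ≠ 0 by omega)
  have hD : (D : ℚ) ≠ 0 := Int.cast_ne_zero.2 C.D_ne
  have hQ2 : (Q : ℚ) ^ 2 = (q : ℚ) ^ 2 := by
    rcases s.Q_cases with e | e <;> subst e <;> push_cast <;> ring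
  field_simp
  rw [← hQ2]
  ring

variable {ea eb ec : X → ℤ} (H : CaseA s W D ea eb ec)
include H

/-- The equations of case (ii). -/
theorem caseA_eqs : s.deg ⬝ᵥ ea ≠ 0 ∧ s.deg ⬝ᵥ eb ≠ 0 ∧ s.deg ⬝ᵥ ec ≠ 0 ∧
    1 + s.deg ⬝ᵥ ea + s.deg ⬝ᵥ eb + s.deg ⬝ᵥ ec = 0 ∧
    -1 / ((s.deg ⬝ᵥ ea : ℤ) : ℚ) + (Q : ℚ) ^ 2 / ((s.deg ⬝ᵥ eb : ℤ) : ℚ) + ((Q : ℚ) - 1) ^ 2 / D = 0 ∧
    1 + 1 / ((s.deg ⬝ᵥ ea : ℤ) : ℚ) + (Q : ℚ) ^ 2 / ((s.deg ⬝ᵥ eb : ℤ) : ℚ) +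
      (Q : ℚ) ^ 2 / ((s.deg ⬝ᵥ ec : ℤ) : ℚ) = ((Q : ℚ) - 1) * Cases.tau Q D := by
  refine ⟨s.deg_unit H.na, s.deg_unit H.nb, s.deg_unit H.nc, ?_, ?_, ?_⟩
  · have h := s.deg_c0
    rwa [H.c0_eq, dotProduct_add, dotProduct_add, dotProduct_add, s.deg_one] at h
  · have h := C.mom_W
    rw [H.W_eq, s.mom_sub, s.mom_unit H.nb, s.mom_unit H.na, H.val_a, H.val_b] at h
    push_cast at h
    linear_combination h
  · have h := C.mom_c0_eq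
    rw [H.c0_eq, s.mom_add, s.mom_add, s.mom_add, s.mom_unit H.na, s.mom_unit H.nb, s.mom_unit H.nc,
      s.mom_unit s.one_one, H.val_a, H.val_b, H.val_c, s.val_one, s.deg_one] at h
    push_cast at h
    linear_combination h

/-- The order and the degrees. -/
theorem caseA_order : (g : ℤ) = (q : ℤ) ^ 3 * (Q ^ 3 + 1) * (Q - 1) ∧
    s.deg ⬝ᵥ ea = -(Q ^ 2 - Q + 1) ∧ s.deg ⬝ᵥ eb = -(Q * (Q ^ 2 - Q + 1)) ∧ s.deg ⬝ᵥ ec = Q ^ 3 := by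
  obtain ⟨h1, h2, h3, hdeg, hf, h0⟩ := caseA_eqs C H
  have hQ : 2 ≤ |Q| := by
    have := s.abs_Q; have := s.q_le
    rw [Int.abs_eq_natAbs]; omega
  obtain ⟨ha, hb, hc, hD⟩ := Cases.two_order hQ h1 h2 h3 C.D_ne H.deg_D.symm hdeg hf h0
  refine ⟨?_, ha, ?_, hc⟩
  · rw [C.card_eq, hD]; ring
  · rw [hb, ha]; ring

/-- The other constituents of `c j`: `c j = b + c + u + v`. -/
theorem caseA_split (j : Fin 2) : ∃ u v : X → ℤ, u ⬝ᵥ u = 1 ∧ v ⬝ᵥ v = 1 ∧ u ⬝ᵥ v = 0 ∧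
    s.c j = eb + ec + u + v ∧ (s.c0 ⬝ᵥ u = 0 ∧ s.c0 ⬝ᵥ v = 0) ∧ (s.c j ⬝ᵥ u = 1 ∧ s.c j ⬝ᵥ v = 1) ∧
    (s.c (1 - j) ⬝ᵥ u = 0 ∧ s.c (1 - j) ⬝ᵥ v = 0) ∧
    (2 * (s.val ⬝ᵥ u) = Q - 1 ∧ 2 * (s.val ⬝ᵥ v) = Q - 1) ∧
    s.deg ⬝ᵥ eb + s.deg ⬝ᵥ ec + s.deg ⬝ᵥ u + s.deg ⬝ᵥ v = 0 ∧
    (Q : ℚ) ^ 2 / ((s.deg ⬝ᵥ eb : ℤ) : ℚ) + (Q : ℚ) ^ 2 / ((s.deg ⬝ᵥ ec : ℤ) : ℚ) +
      (((Q - 1) / 2 : ℤ) : ℚ) ^ 2 / ((s.deg ⬝ᵥ u : ℤ) : ℚ) +
      (((Q - 1) / 2 : ℤ) : ℚ) ^ 2 / ((s.deg ⬝ᵥ v : ℤ) : ℚ) =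
      Cases.tau Q D * (3 * (Q : ℚ) - 1) / ((Q : ℚ) + 1) := by
  set w := s.c j - eb - ec with hw
  have nw : w ⬝ᵥ w = 2 := by
    simp only [hw, sub_dotProduct, dotProduct_sub, dotProduct_comm eb (s.c j), dotProduct_comm ec (s.c j),
      dotProduct_comm ec eb, s.c_c, if_true, H.row_b, H.row_c, H.obc, H.nb, H.nc]
    norm_num
  have z0 : s.one ⬝ᵥ w = 0 ∧ ea ⬝ᵥ w = 0 ∧ eb ⬝ᵥ w = 0 ∧ ec ⬝ᵥ w = 0 := by
    have e1 : s.one ⬝ᵥ s.c j = 0 := by rw [dotProduct_comm]; exact s.one_c j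
    have this : ∀ z : X → ℤ, z ⬝ᵥ z = 1 → s.c j ⬝ᵥ z ≠ 0 → s.one ⬝ᵥ z = 0 := fun z hz hr => by
      rcases Vec.dot_unit s.one_one hz with h' | ⟨-, rfl⟩ | ⟨-, rfl⟩
      · exact h'
      all_goals simp [s.one_c] at hr
    have ob := this eb H.nb (by rw [H.row_b]; norm_num)
    have oc := this ec H.nc (by rw [H.row_c]; norm_num)
    refine ⟨?_, ?_, ?_, ?_⟩ <;>
      simp only [hw, dotProduct_sub, dotProduct_comm ea (s.c j), dotProduct_comm eb (s.c j),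
        dotProduct_comm ec (s.c j), dotProduct_comm ec eb, H.row_a, H.row_b, H.row_c, H.oab, H.oac, H.obc,
        H.nb, H.nc, e1] <;>
      omega
  obtain ⟨u, v, huv, nu, nv, ouv⟩ := Vec.split_two nw
  have perp : ∀ z : X → ℤ, z ⬝ᵥ z = 1 → z ⬝ᵥ w = 0 → z ⬝ᵥ u = 0 ∧ z ⬝ᵥ v = 0 := fun z hz h => by
    have h' := Vec.dot_pair nu nv ouv hz (by rw [← huv, dotProduct_comm, h])
    exact ⟨by rw [dotProduct_comm]; exact h'.1, by rw [dotProduct_comm]; exact h'.2⟩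
  obtain ⟨o1, o1'⟩ := perp _ s.one_one z0.1
  obtain ⟨oa, oa'⟩ := perp _ H.na z0.2.1
  obtain ⟨ob, ob'⟩ := perp _ H.nb z0.2.2.1
  obtain ⟨oc, oc'⟩ := perp _ H.nc z0.2.2.2
  have r0 : s.c0 ⬝ᵥ u = 0 ∧ s.c0 ⬝ᵥ v = 0 := by
    simp [H.c0_eq, add_dotProduct, o1, o1', oa, oa', ob, ob', oc, oc']
  have hc0 : s.c j = eb + ec + u + v := by rw [add_assoc _ u v, ← huv, hw]; abel
  have r00 : s.c j ⬝ᵥ u = 1 ∧ s.c j ⬝ᵥ v = 1 := by
    simp [hc0, add_dotProduct, ob, ob', oc, oc', nu, nv, ouv, dotProduct_comm v u]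
  have r1 : s.c (1 - j) ⬝ᵥ u + s.c (1 - j) ⬝ᵥ v = 0 := by
    have h := s.c_c (1 - j) j
    conv_lhs at h => arg 2; rw [hc0]
    rw [dotProduct_add, dotProduct_add, dotProduct_add, H.row_b, H.row_c, if_neg (show (1 - j : Fin 2) ≠ j by omega)] at h
    omega
  set k := s.c (1 - j) ⬝ᵥ u with hk
  have hk0 : k = 0 := by
    set z := s.c (1 - j) - eb - ec - k • u + k • v with hz
    have nz : z ⬝ᵥ z = 2 - 2 * k ^ 2 := by
      simp only [hz, sub_dotProduct, dotProduct_sub, add_dotProduct, dotProduct_add, smul_dotProduct,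
        dotProduct_smul, smul_eq_mul, dotProduct_comm eb (s.c (1 - j)), dotProduct_comm ec (s.c (1 - j)),
        dotProduct_comm u (s.c (1 - j)), dotProduct_comm v (s.c (1 - j)), dotProduct_comm ec eb, dotProduct_comm u eb,
        dotProduct_comm v eb, dotProduct_comm u ec, dotProduct_comm v ec, dotProduct_comm v u,
        s.c_c, if_true, H.row_b, H.row_c, H.obc, H.nb, H.nc, ob, ob', oc, oc', nu, nv, ouv, ← hk,
        show s.c (1 - j) ⬝ᵥ v = -k by omega]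
      ring
    have h0' := Vec.dot_self_nonneg z
    rw [nz] at h0'
    by_contra hne
    have hk2 : k ^ 2 = 1 := by
      have : -2 < k ∧ k < 2 := by constructor <;> nlinarith
      rcases (show k = 1 ∨ k = -1 by omega) with e | e <;> rw [e] <;> norm_num
    have hz0 := Vec.eq_zero (show z ⬝ᵥ z = 0 by rw [nz, hk2]; norm_num)
    have hc1 : s.c (1 - j) = eb + ec + k • u - k • v := by
      have e : s.c (1 - j) = z + (eb + ec + k • u - k • v) := by rw [hz]; abel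
      rwa [hz0, zero_add] at e
    have d0 := s.deg_c j
    have d1 := s.deg_c (1 - j)
    rw [hc0, dotProduct_add, dotProduct_add, dotProduct_add] at d0
    rw [hc1, dotProduct_sub, dotProduct_add, dotProduct_add, dotProduct_smul, dotProduct_smul,
      smul_eq_mul, smul_eq_mul] at d1
    have := s.deg_unit nu
    have := s.deg_unit nv
    rcases (show k = 1 ∨ k = -1 by
      have : -2 < k ∧ k < 2 := by constructor <;> nlinarith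
      omega) with e | e <;> rw [e] at d1 <;> omega
  have hsum : ∀ e, s.c 0 ⬝ᵥ e + s.c 1 ⬝ᵥ e = s.c j ⬝ᵥ e + s.c (1 - j) ⬝ᵥ e := fun e => by
    obtain rfl | rfl : j = 0 ∨ j = 1 := by omega
    · rfl
    · exact add_comm _ _
  have r1' : s.c (1 - j) ⬝ᵥ v = 0 := by omega
  have vu := (C.value nu (Or.inr (by rw [hsum]; omega))).1
  have vv := (C.value nv (Or.inr (by rw [hsum]; omega))).1
  rw [hsum, r0.1, r00.1, ← hk, hk0] at vu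
  rw [hsum, r0.2, r00.2, r1'] at vv
  have := s.abs_Q; have := s.q_le; have := s.mod8
  have h := C.mom_c_eq j
  rw [hc0, s.mom_add, s.mom_add, s.mom_add, s.mom_unit H.nb, s.mom_unit H.nc, s.mom_unit nu, s.mom_unit nv,
    H.val_b, H.val_c, show s.val ⬝ᵥ u = (Q - 1) / 2 by omega, show s.val ⬝ᵥ v = (Q - 1) / 2 by omega] at h
  have hd := s.deg_c j
  rw [hc0, dotProduct_add, dotProduct_add, dotProduct_add] at hd
  exact ⟨u, v, nu, nv, ouv, hc0, r0, r00, ⟨hk0, r1'⟩, ⟨by omega, by omega⟩, hd, h⟩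

/-- The degrees of the other constituents. -/
theorem caseA_square (j : Fin 2) : ∃ u v : X → ℤ, u ⬝ᵥ u = 1 ∧ v ⬝ᵥ v = 1 ∧ u ⬝ᵥ v = 0 ∧
    s.c j = eb + ec + u + v ∧ (2 * (s.val ⬝ᵥ u) = Q - 1 ∧ 2 * (s.val ⬝ᵥ v) = Q - 1) ∧
    s.deg ⬝ᵥ u + s.deg ⬝ᵥ v = -(Q * (Q - 1)) ∧
    3 * (s.deg ⬝ᵥ u - s.deg ⬝ᵥ v) ^ 2 = Q * (Q - 1) ^ 2 * (Q + 1) ^ 2 := by
  obtain ⟨u, v, nu, nv, ouv, hc, -, -, -, hval, hd, h⟩ := caseA_split C H j
  obtain ⟨-, -, hb, hc3⟩ := caseA_order C H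
  have hDA : D = (Q - 1) * (Q ^ 2 - Q + 1) := by
    have := H.deg_D
    rw [(caseA_order C H).2.1, hb] at this
    linarith [this]
  have hs : s.deg ⬝ᵥ u + s.deg ⬝ᵥ v = -(Q * (Q - 1)) := by
    rw [hb, hc3] at hd; linarith [hd]
  refine ⟨u, v, nu, nv, ouv, hc, hval, hs, ?_⟩
  have := s.abs_Q; have := s.q_le; have := s.mod8
  have hQ : (Q : ℚ) ≠ 0 := Int.cast_ne_zero.2 (by omega)
  have hQ1 : (Q : ℚ) + 1 ≠ 0 := by exact_mod_cast (show Q + 1 ≠ 0 by omega)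
  have hQm : (Q : ℚ) - 1 ≠ 0 := by exact_mod_cast (show Q - 1 ≠ 0 by omega)
  have hA : (Q : ℚ) * (Q - 1) + 1 ≠ 0 := by nlinarith [sq_nonneg (2 * (Q : ℚ) - 1)]
  have hu : ((s.deg ⬝ᵥ u : ℤ) : ℚ) ≠ 0 := Int.cast_ne_zero.2 (s.deg_unit nu)
  have hv : ((s.deg ⬝ᵥ v : ℤ) : ℚ) ≠ 0 := Int.cast_ne_zero.2 (s.deg_unit nv)
  have eh : (((Q - 1) / 2 : ℤ) : ℚ) = ((Q : ℚ) - 1) / 2 := by
    rw [eq_div_iff (by norm_num)]
    exact_mod_cast (show (Q - 1) / 2 * 2 = Q - 1 by omega)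
  rw [hb, hc3, hDA, eh, Cases.tau] at h
  set du := s.deg ⬝ᵥ u with hdu
  have ev : s.deg ⬝ᵥ v = -(Q * (Q - 1)) - du := by linarith
  rw [ev] at h hv ⊢
  push_cast at h hv
  field_simp at h
  have key : ((Q : ℚ) - 1) * (Q : ℚ) * (3 * ((du : ℚ) - (-((Q : ℚ) * (Q - 1)) - du)) ^ 2 -
      (Q : ℚ) * (Q - 1) ^ 2 * (Q + 1) ^ 2) = 0 := by
    linear_combination h
  have key' := (mul_eq_zero.1 key).resolve_left (mul_ne_zero hQm hQ)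
  exact_mod_cast sub_eq_zero.1 key'

/-- For `Q = -q` the case does not occur. -/
theorem caseA_neg (hQ : Q = -(q : ℤ)) : False := by
  obtain ⟨h1, h2, h3, hdeg, hf, h0⟩ := caseA_eqs C H
  obtain ⟨u, v, nu, nv, -, -, -, -, -, -, hd, h⟩ := caseA_split C H 0
  have := s.abs_Q; have := s.q_le; have := s.mod8
  exact Cases.two_neg (h := (Q - 1) / 2) (by omega) (by omega) h1 h2 h3 (s.deg_unit nu) (s.deg_unit nv)
    C.D_ne H.deg_D.symm hdeg hd hf h0 h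

end Cfsg.Agent.AbelianSylow.Chars.Sys
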