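import Cfsg.Agent.EqLemmas
import Cfsg.Agent.Lib.AbelianSylow.Chars.SysRows
import Cfsg.Agent.Lib.AbelianSylow.Chars.Cases

/-!
# The case with two common constituents (owner: helper55; section 5 of `PROOF.md`, case (i))

* `Sys.caseB_false` : the case does not occur
-/

set_option autoImplicit false
set_option linter.unusedSectionVars false

namespace Cfsg.Agent.AbelianSylow.Chars.Sys

open Matrix

universe u v

variable {X : Type u} [Fintype X] [DecidableEq X] {TD AD : Type v} [Fintype TD] [Fintype AD]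
variable {Q : ℤ} {q a g : ℕ} {s : Sys X TD AD Q q a g} {W : X → ℤ} {D : ℤ} {e : Fin 3 → X → ℤ}
variable {u₁ u₂ w w' : X → ℤ}

/-- Case (i) does not occur. -/
theorem caseB_false (C : s.Core W D) (H : CaseB s W D e u₁ u₂ w w') : False := by
  set A := -(s.deg ⬝ᵥ e 0) with hA
  set m := -(s.deg ⬝ᵥ u₁) with hm
  set dw := s.deg ⬝ᵥ w with hdw
  have hD : D = 2 * m := by have := H.deg_u; omega
  have e0 : 1 + -A + s.deg ⬝ᵥ e 1 + s.deg ⬝ᵥ e 2 = 0 := by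
    have h := s.deg_c0
    rw [H.c0_eq, dotProduct_add, dotProduct_add, dotProduct_add, s.deg_one] at h
    omega
  have e1 : s.deg ⬝ᵥ e 1 + s.deg ⬝ᵥ e 2 + -m + dw = 0 := by
    have h := s.deg_c 0
    rw [H.c0'_eq, dotProduct_add, dotProduct_add, dotProduct_add] at h
    omega
  have hQq := s.abs_Q
  have hq := s.q_le
  have hmod := s.mod8
  have hAne : A ≠ 0 := by have := s.deg_unit (H.ne 0); omega
  have hwne : dw ≠ 0 := s.deg_unit H.nv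
  have hmne : m ≠ 0 := by have := C.D_ne; omega
  have h4a : ∀ z : ℤ, (4 * a : ℤ) ∣ z → Q + 1 ∣ z := fun z hz => by
    rw [show (4 * a : ℤ) = ((4 * a : ℕ) : ℤ) by push_cast; rfl, s.four_a] at hz
    exact Int.natAbs_dvd.1 hz
  obtain ⟨k, hk⟩ := h4a _ (s.torus _ (H.ne 0) fun l => H.e_F 0 l)
  rw [H.val_0] at hk
  obtain ⟨k', hk'⟩ := h4a _ (s.torus _ H.nv H.v_F)
  obtain ⟨μ, hμ⟩ := C.dvd_D
  obtain ⟨h, hh⟩ : ∃ h, Q - 1 = 2 * h := ⟨(Q - 1) / 2, by omega⟩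
  obtain ⟨c, hc⟩ : ∃ c, Q + 1 = 4 * c := ⟨(Q + 1) / 4, by omega⟩
  have hmμ : m = h * μ := by rw [hh] at hμ; linarith
  have hμ0 : μ ≠ 0 := by rintro rfl; exact hmne (by rw [hmμ, mul_zero])
  have hval : s.val ⬝ᵥ u₁ = h := by have := H.val_u; omega
  have hvalw : s.val ⬝ᵥ w = h := by have := H.val_v; omega
  have h0 := s.mom_c0
  have h1 : s.mom (s.c 0) = ((q : ℚ) * ((q : ℚ) ^ 2 - 1)) ^ 2 / g *
      ((Q : ℚ) * (3 * Q - 1) / (q * (Q + 1))) := s.mom_c 0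
  change s.mom s.c0 = _ at h0
  rw [H.c0_eq, s.mom_add, s.mom_add, s.mom_add, s.mom_unit s.one_one, s.mom_unit (H.ne 0), H.val_0,
    s.val_one, s.deg_one, show s.deg ⬝ᵥ e 0 = -A by omega] at h0
  rw [H.c0'_eq, s.mom_add, s.mom_add, s.mom_add, s.mom_unit H.nu, s.mom_unit H.nv, hval, hvalw,
    show s.deg ⬝ᵥ u₁ = -m by omega, ← hdw] at h1
  have hgq : (g : ℚ) = (q : ℚ) ^ 3 * ((Q : ℚ) + 1) * ((2 * m : ℤ) : ℚ) := by
    rw [← hD]; exact_mod_cast C.card_eq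
  have hQ0 : (Q : ℚ) ≠ 0 := Int.cast_ne_zero.2 (by omega)
  have hQ1 : (Q : ℚ) + 1 ≠ 0 := by exact_mod_cast (show Q + 1 ≠ 0 by omega)
  have hm0 : ((2 * m : ℤ) : ℚ) ≠ 0 := Int.cast_ne_zero.2 (by omega)
  have hq0 : (q : ℚ) ≠ 0 := Nat.cast_ne_zero.2 (by omega)
  have hQ2 : (Q : ℚ) ^ 2 = (q : ℚ) ^ 2 := by
    rcases s.Q_cases with e | e <;> subst e <;> push_cast <;> ring
  have key0 : ((q : ℚ) * ((q : ℚ) ^ 2 - 1)) ^ 2 / ((q : ℚ) ^ 3 * ((Q : ℚ) + 1) * ((2 * m : ℤ) : ℚ)) *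
      ((q : ℚ) * ((Q : ℚ) - 1) / Q) = ((Q : ℚ) - 1) * Cases.tau Q (2 * m) := by
    rw [Cases.tau]
    field_simp
    rw [← hQ2]
    ring
  have key1 : ((q : ℚ) * ((q : ℚ) ^ 2 - 1)) ^ 2 / ((q : ℚ) ^ 3 * ((Q : ℚ) + 1) * ((2 * m : ℤ) : ℚ)) *
      ((Q : ℚ) * (3 * Q - 1) / (q * (Q + 1))) =
      Cases.tau Q (2 * m) * (3 * (Q : ℚ) - 1) / ((Q : ℚ) + 1) := by
    rw [Cases.tau]
    field_simp
    rw [← hQ2]
    ring
  rw [hgq, key0] at h0
  rw [hgq, key1] at h1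
  have E := Cases.three_eq (Q := Q) (h := h) (A := A) (v := dw) (m := m) (μ := μ)
    (S := s.mom (e 1) + s.mom (e 2)) (by omega) (by omega) (by omega) (by omega) hAne hwne hmμ hμ0
    (by push_cast at h0 ⊢; linear_combination h0) (by linear_combination h1)
  refine Cases.three_false (Q := Q) (a := c) (by omega) hc hmod (by rw [Int.abs_eq_natAbs]; omega) hmμ
    (by omega) ⟨-4 * k, ?_⟩ ⟨4 * k', ?_⟩ E
  · rw [hc, ← neg_neg (s.deg ⬝ᵥ e 0), ← hA] at hk; linarith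
  · rw [hc, hvalw, ← hdw] at hk'; linarith

end Cfsg.Agent.AbelianSylow.Chars.Sys
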