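import Cfsg.Agent.EqLemmas
import Cfsg.Agent.Lib.AbelianSylow.Chars.SysRows
import Cfsg.Agent.Lib.AbelianSylow.Chars.Cases

/-!
# The case with one common constituent (owner: helper55; section 5 of `PROOF.md`, case (I))

* `Sys.CaseC.eq_of_row`, `Sys.CaseC.eq_u_of_row` : the rows determine the constituents
* `Sys.caseC_false` : the case does not occur
-/

set_option autoImplicit false
set_option linter.unusedSectionVars false

namespace Cfsg.Agent.AbelianSylow.Chars.Sys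

open Matrix

universe u v

variable {X : Type u} [Fintype X] [DecidableEq X] {TD AD : Type v} [Fintype TD] [Fintype AD]
variable {Q : ℤ} {q a g : ℕ} {s : Sys X TD AD Q q a g} {W : X → ℤ} {D : ℤ} {e : Fin 3 → X → ℤ}
variable {u₁ u₂ w : X → ℤ}

/-- The constituents of `c0` are determined by their rows. -/
theorem CaseC.eq_of_row (H : CaseC s W D e u₁ u₂ w) {z : X → ℤ} (hz : z ⬝ᵥ z = 1) {n : Fin 3}
    (h0 : s.c0 ⬝ᵥ z = 1) (h : ∀ j, s.c j ⬝ᵥ z = s.c j ⬝ᵥ e n) : z = e n := by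
  have a0 := H.row_0 0; have a1 := H.row_0 1
  obtain ⟨b0, b1⟩ := H.row_1
  obtain ⟨d0, d1⟩ := H.row_2
  have h' := h 0
  have h'' := h 1
  have n0 := s.one_c 0; have n1 := s.one_c 1
  rcases mem_c0 s H.c0_eq (H.ne 0) (H.ne 1) (H.ne 2) hz (by omega) with
    (rfl | rfl) | (rfl | rfl) | (rfl | rfl) | (rfl | rfl) <;>
  simp only [dotProduct_neg, s.one_c0, H.c0_e] at h0 h' h'' <;>
  obtain rfl | rfl | rfl : n = 0 ∨ n = 1 ∨ n = 2 := by omega
  all_goals first | rfl | (exfalso; omega)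

/-- The constituent of `W` in `c 0` is determined by its row. -/
theorem CaseC.eq_u_of_row (H : CaseC s W D e u₁ u₂ w) (C : s.Core W D) {z : X → ℤ} (hz : z ⬝ᵥ z = 1)
    (h0 : s.c0 ⬝ᵥ z = 0) (h1 : s.c 0 ⬝ᵥ z = 1) (h2 : s.c 1 ⬝ᵥ z = 0) : z = u₁ := by
  have he : ∀ n, e n ⬝ᵥ z = 0 := fun n => C.sep (H.ne n) hz (by rw [H.c0_e]; norm_num) h0
  obtain ⟨-, r1, -⟩ := H.u_row
  obtain ⟨-, -, r2⟩ := H.v_row
  have hsum := h1
  rw [H.c0'_eq, add_dotProduct, add_dotProduct, add_dotProduct, he, he, zero_add, zero_add] at hsum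
  rcases Vec.dot_unit H.nu hz with hu | ⟨-, rfl⟩ | ⟨-, rfl⟩
  · rcases Vec.dot_unit H.nv hz with hv | ⟨-, rfl⟩ | ⟨-, rfl⟩
    · omega
    · omega
    · rw [dotProduct_neg, r2] at h2; omega
  · rfl
  · rw [dotProduct_neg, r1] at h1; omega

/-- Case (I) does not occur. -/
theorem caseC_false (C : s.Core W D) (H : CaseC s W D e u₁ u₂ w) : False := by
  set x := s.deg ⬝ᵥ e 0 with hx
  set y := s.deg ⬝ᵥ e 1 with hy
  set m := -(s.deg ⬝ᵥ u₁) with hm
  set dw := s.deg ⬝ᵥ w with hdw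
  have hD : D = 2 * m := by have := H.deg_u; omega
  have hu2 : s.deg ⬝ᵥ u₂ = -m := by have := H.deg_u'; omega
  have e0 : 1 + x + y + s.deg ⬝ᵥ e 2 = 0 := by
    have h := s.deg_c0
    rwa [H.c0_eq, dotProduct_add, dotProduct_add, dotProduct_add, s.deg_one] at h
  have e1 : x + y + -m + dw = 0 := by
    have h := s.deg_c 0
    rw [H.c0'_eq, dotProduct_add, dotProduct_add, dotProduct_add] at h
    omega
  have e2 : x + s.deg ⬝ᵥ e 2 + -m + dw = 0 := by
    have h := s.deg_c 1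
    rw [H.c1'_eq, dotProduct_add, dotProduct_add, dotProduct_add, hu2] at h
    omega
  have hQq := s.abs_Q
  have hq := s.q_le
  have hmod := s.mod8
  have hy2 : 2 * y = -x - 1 := by omega
  have hxne : x ≠ 0 := s.deg_unit (H.ne 0)
  have hyne : y ≠ 0 := s.deg_unit (H.ne 1)
  have hx8 : (8 : ℤ) ∣ x - Q := by
    have h := s.eight _ (H.ne 0)
    rwa [H.val_0] at h
  have hxodd : Odd x := Int.odd_iff.2 (by omega)
  have hg : 0 < (Q + 1) * D := by
    have h : (0 : ℤ) < (g : ℤ) := by exact_mod_cast s.g_pos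
    rw [C.card_eq, mul_assoc] at h
    exact pos_of_mul_pos_right h (by positivity)
  -- the images under `st`
  have hst : ∀ z : X → ℤ, z ⬝ᵥ z = 1 → s.st z ⬝ᵥ s.st z = 1 := fun z hz => by rw [s.st_dot, hz]
  have hst0 : ∀ z : X → ℤ, s.c0 ⬝ᵥ s.st z = s.c0 ⬝ᵥ z := fun z => by
    conv_lhs => rw [← s.st_c0, s.st_dot]
  have hnu0 : 1 + s.nu ⬝ᵥ e 0 + s.nu ⬝ᵥ e 1 + s.nu ⬝ᵥ e 2 = 0 := by
    have h := s.nu_c0
    rwa [H.c0_eq, dotProduct_add, dotProduct_add, dotProduct_add, s.nu_one] at h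
  refine Cases.one_false (Q := Q) (h := (Q - 1) / 2) (X := -x) (y := y) (v := dw) (m := m) (by omega)
    (by rw [Int.abs_eq_natAbs]; omega) (by omega) (by omega) ?_ (fun hQ => ?_) (fun hQ => ?_)
  · have h : s.mom (s.c 0) = ((q : ℚ) * ((q : ℚ) ^ 2 - 1)) ^ 2 / g *
        ((Q : ℚ) * (3 * Q - 1) / (q * (Q + 1))) := s.mom_c 0
    rw [H.c0'_eq, s.mom_add, s.mom_add, s.mom_add, s.mom_unit (H.ne 0), s.mom_unit (H.ne 1),
      s.mom_unit H.nu, s.mom_unit H.nv, H.val_0, H.val_v] at h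
    have v1 : ((s.val ⬝ᵥ e 1 : ℤ) : ℚ) = ((Q : ℚ) + 1) / 2 := by
      rw [eq_div_iff (by norm_num), mul_comm]; exact_mod_cast H.val_1
    have vu : ((s.val ⬝ᵥ u₁ : ℤ) : ℚ) = (((Q - 1) / 2 : ℤ) : ℚ) := by
      exact_mod_cast (show s.val ⬝ᵥ u₁ = (Q - 1) / 2 by have := H.val_u; omega)
    rw [v1, vu, show s.deg ⬝ᵥ u₁ = -m by omega, ← hx, ← hy, ← hdw, Int.cast_sub, Int.cast_one] at h
    have hgq : (g : ℚ) = (q : ℚ) ^ 3 * ((Q : ℚ) + 1) * ((2 * m : ℤ) : ℚ) := by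
      rw [← hD]; exact_mod_cast C.card_eq
    rw [hgq] at h
    have hQ0 : (Q : ℚ) ≠ 0 := Int.cast_ne_zero.2 (by omega)
    have hQ1 : (Q : ℚ) + 1 ≠ 0 := by exact_mod_cast (show Q + 1 ≠ 0 by omega)
    have hm0 : ((2 * m : ℤ) : ℚ) ≠ 0 := Int.cast_ne_zero.2 (hD ▸ C.D_ne)
    have key : ((q : ℚ) * ((q : ℚ) ^ 2 - 1)) ^ 2 / ((q : ℚ) ^ 3 * ((Q : ℚ) + 1) * ((2 * m : ℤ) : ℚ)) *
        ((Q : ℚ) * (3 * Q - 1) / (q * (Q + 1))) =
        Cases.tau Q (2 * m) * (3 * (Q : ℚ) - 1) / ((Q : ℚ) + 1) := by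
      have hq0 : (q : ℚ) ≠ 0 := Nat.cast_ne_zero.2 (by omega)
      have hQ2 : (Q : ℚ) ^ 2 = (q : ℚ) ^ 2 := by
        rcases s.Q_cases with e | e <;> subst e <;> push_cast <;> ring
      rw [Cases.tau]
      field_simp
      rw [← hQ2]
      ring
    rw [key] at h
    rw [neg_neg]
    linear_combination h
  · have hQ' : Q = (q : ℤ) := by omega
    have hst' : ∀ z j, s.c (1 - j) ⬝ᵥ s.st z = s.c j ⬝ᵥ z := fun z j => by
      rw [← s.st_swap hQ' j, s.st_dot]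
    obtain ⟨b0, b1⟩ := H.row_1
    obtain ⟨d0, d1⟩ := H.row_2
    have hn1 : s.nu ⬝ᵥ e 1 = 0 := s.nu_not_real _ (H.ne 1) fun h => by
      have := hst' (e 1) 0
      rw [h, sub_zero] at this; omega
    have hn2 : s.nu ⬝ᵥ e 2 = 0 := s.nu_not_real _ (H.ne 2) fun h => by
      have := hst' (e 2) 0
      rw [h, sub_zero] at this; omega
    have hfix : s.st (e 0) = e 0 :=
      H.eq_of_row (hst _ (H.ne 0)) (by rw [hst0, H.c0_e]) fun j => by
        rw [show j = 1 - (1 - j) by omega, hst', H.row_0, H.row_0]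
    have hx0 : x < 0 := by
      rcases lt_or_gt_of_ne hxne with h | h
      · exact h
      · have := ((s.nu_real _ (H.ne 0) hfix).2 hxodd).1 h
        omega
    have hm0 : 0 < D := pos_of_mul_pos_right hg (by omega)
    exact ⟨by omega, by omega⟩
  · have hQ' : Q = -(q : ℤ) := by omega
    have hst' : ∀ z j, s.c j ⬝ᵥ s.st z = s.c j ⬝ᵥ z := fun z j => by
      conv_lhs => rw [← s.st_fix hQ' j, s.st_dot]
    have hfix : ∀ n, s.st (e n) = e n := fun n =>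
      H.eq_of_row (hst _ (H.ne n)) (by rw [hst0, H.c0_e]) fun j => hst' _ j
    obtain ⟨r0, r1, r2⟩ := H.u_row
    have hfu : s.st u₁ = u₁ :=
      H.eq_u_of_row C (hst _ H.nu) (by rw [hst0, r0]) (by rw [hst', r1]) (by rw [hst', r2])
    have hm0 : m < 0 := by
      by_contra hc
      have : (Q + 1) * D ≤ 0 := mul_nonpos_of_nonpos_of_nonneg (by omega) (by omega)
      omega
    have hnu1 : s.nu ⬝ᵥ e 0 + s.nu ⬝ᵥ e 1 + s.nu ⬝ᵥ u₁ + s.nu ⬝ᵥ w = 0 := by
      have h := s.nu_c 0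
      rwa [H.c0'_eq, dotProduct_add, dotProduct_add, dotProduct_add] at h
    have hnu2 : s.nu ⬝ᵥ e 0 + s.nu ⬝ᵥ e 2 + s.nu ⬝ᵥ u₂ + s.nu ⬝ᵥ w = 0 := by
      have h := s.nu_c 1
      rwa [H.c1'_eq, dotProduct_add, dotProduct_add, dotProduct_add] at h
    have hu8 := s.eight _ H.nu
    have hu8' := s.eight _ H.nu'
    have hodd1 : Odd (s.deg ⬝ᵥ u₁) := Int.odd_iff.2 (by have := H.val_u; omega)
    have hn : s.nu ⬝ᵥ u₁ = 1 := ((s.nu_real _ H.nu hfu).2 hodd1).1 (by omega)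
    -- the other constituent of `W`
    have hfu' : s.st u₂ = u₂ := by
      obtain ⟨t0, t1, t2⟩ := H.u'_row
      have he : ∀ n, e n ⬝ᵥ s.st u₂ = 0 := fun n =>
        C.sep (H.ne n) (hst _ H.nu') (by rw [H.c0_e]; norm_num) (by rw [hst0, t0])
      have h1 := hst' u₂ 1
      have h0 := hst' u₂ 0
      obtain ⟨-, w1, -⟩ := H.v_row
      rw [t2, H.c1'_eq, add_dotProduct, add_dotProduct, add_dotProduct, he, he, zero_add, zero_add] at h1
      rcases Vec.dot_unit H.nu' (hst _ H.nu') with h | ⟨-, h⟩ | ⟨-, h⟩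
      · rcases Vec.dot_unit H.nv (hst _ H.nu') with h' | ⟨-, h'⟩ | ⟨-, h'⟩
        · omega
        all_goals
          rw [h'] at h0
          simp only [dotProduct_neg, w1, t1] at h0
          omega
      · exact h
      · have := hst' u₂ 1
        rw [h, dotProduct_neg, t2] at this
        omega
    have hodd2 : Odd (s.deg ⬝ᵥ u₂) := Int.odd_iff.2 (by have := H.val_u'; omega)
    have hn' : s.nu ⬝ᵥ u₂ = 1 := ((s.nu_real _ H.nu' hfu').2 hodd2).1 (by omega)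
    obtain ⟨n0, n0'⟩ := s.nu_real _ (H.ne 0) (hfix 0)
    have n1 := (s.nu_real _ (H.ne 1) (hfix 1)).1
    have hx0 : 0 < x := by
      rcases lt_or_gt_of_ne hxne with h | h
      · have := (n0' hxodd).2 h
        omega
      · exact h
    have hx1 : x ≠ 1 := fun hx1 => by
      have h := s.torus _ (H.ne 0) fun l => H.e_F 0 l
      rw [H.val_0, ← hx, hx1] at h
      have h4 := s.four_a
      have h2 : ((4 * a : ℕ) : ℤ) ∣ 2 := by
        have h3 : ((4 * a : ℕ) : ℤ) ∣ Q + 1 := by rw [h4]; exact Int.natAbs_dvd.2 dvd_rfl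
        push_cast at h3 ⊢
        have := dvd_add h h3
        rwa [show 1 - Q + (Q + 1) = 2 by ring] at this
      have := Int.le_of_dvd (by norm_num) h2
      omega
    exact ⟨by omega, hm0⟩

end Cfsg.Agent.AbelianSylow.Chars.Sys
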