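import Cfsg.Agent.EqLemmas
import Cfsg.Agent.Lib.ReeInverted.TwInd
import Cfsg.Agent.Lib.ReeCover.Exceptional

/-!
# The `t`-section: interface of the character computation (owner: helper84; proof in `PROOF.md`)

`C(t) = ⟨t⟩ × K` with `K` like `L₂(q)`, `Q = ±q ≡ 3 (mod 8)`.

* `Sec`      : all local facts that the computation uses
* `sumU`     : `X(ψ₀) + X(ψ₁)`, `X = twInd t U`
* `theta0`, `theta`, `thetaT`, `thetaA` : functions of the `t`-section at the projective indecomposables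
* `fMinus`   : induced from `H = E × A`
* `pairCount` : the number of ways to write an element as a product of two conjugates of `t`
-/

set_option autoImplicit false

namespace Cfsg.Agent.AbelianSylow.Chars

open Subgroup ReeInverted

universe u

variable {G : Type u} [Group G]

/-- `⟨t, i⟩ A`. -/
def torH (t i : G) (A : Subgroup G) : Subgroup G := zpowers t ⊔ zpowers i ⊔ A

/-- All local facts used by the character computation. -/
structure Sec (t i r w : G) (K U A T : Subgroup G) (q a M : ℕ) (Q : ℤ) : Prop where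
  simple : IsSimpleGroup G
  nonab : ∃ x y : G, x * y ≠ y * x
  sylow8 : ∀ P : Sylow 2 G, Nat.card ↥(P : Subgroup G) = 8
  sylow_sq : ∀ P : Sylow 2 G, ∀ x ∈ (P : Subgroup G), x * x = 1
  order_t : orderOf t = 2
  one_class : ∀ x : G, orderOf x = 2 → IsConj t x
  comm_K : ∀ k ∈ K, Commute t k
  t_not_mem : t ∉ K
  cases : ∀ g : G, Commute g t → g ∈ K ∨ t * g ∈ K
  prime_pow : IsPrimePow q
  le : 25 ≤ q
  abs_Q : Q.natAbs = q
  mod8 : Q % 8 = 3
  four_a : 4 * a = (Q + 1).natAbs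
  two_M : 2 * M = (Q - 1).natAbs
  card_K : 2 * Nat.card ↥K = q * (q ^ 2 - 1)
  invol_K : 2 * (Nat.card {k : K // orderOf k = 2} : ℤ) = Q * (Q - 1)
  U_le : U ≤ K
  card_U : Nat.card ↥U = q
  U_comm : ∀ x ∈ U, ∀ y ∈ U, x * y = y * x
  U_cent : ∀ x ∈ U, x ≠ 1 → ∀ k ∈ K, Commute k x → k ∈ U
  U_norm : 2 * Nat.card {k : K // ∀ x ∈ U, (k : G) * x * (k : G)⁻¹ ∈ U} = q * (q - 1)
  U_inv : ∀ x ∈ U, x ≠ 1 →
    (Nat.card {k : K // k * k = 1 ∧ (k : G) * x * (k : G)⁻¹ = x⁻¹} : ℤ) * 2 = (q : ℤ) - Q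
  T_le : T ≤ K
  card_T : Nat.card ↥T = M
  T_comm : ∀ x ∈ T, ∀ y ∈ T, x * y = y * x
  T_cent : ∀ x ∈ T, x ≠ 1 → ∀ k ∈ K, Commute k x → k ∈ T
  T_conj : ∀ x ∈ T, x ≠ 1 → ∀ k ∈ K, k * x * k⁻¹ ∈ T → k * x * k⁻¹ = x ∨ k * x * k⁻¹ = x⁻¹
  T_inv : ∃ k ∈ K, k * k = 1 ∧ k ∉ T ∧ ∀ x ∈ T, k * x * k⁻¹ = x⁻¹
  A_le : A ≤ K
  card_A : Nat.card ↥A = a
  A_comm : ∀ x ∈ A, ∀ y ∈ A, x * y = y * x
  A_cent : ∀ x ∈ A, x ≠ 1 → ∀ k ∈ K, Commute k x → k ∈ A ∨ i * k ∈ A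
  A_conj : ∀ x ∈ A, x ≠ 1 → ∀ k ∈ K, k * x * k⁻¹ ∈ A → k * x * k⁻¹ = x ∨ k * x * k⁻¹ = x⁻¹
  i_mem : i ∈ K
  order_i : orderOf i = 2
  comm_iA : ∀ x ∈ A, Commute i x
  r_mem : r ∈ K
  r_sq : r * r = 1
  r_i : Commute r i
  r_not : r ∉ torH t i A
  r_inv : ∀ x ∈ A, r * x * r⁻¹ = x⁻¹
  w_cube : w ^ 3 = 1
  w_t : w * t * w⁻¹ = i
  w_i : w * i * w⁻¹ = t * i
  w_A : ∀ x ∈ A, w * x * w⁻¹ ∈ A
  fpf : ∀ x ∈ A, Commute w x → x = 1
  cent_A : ∀ x ∈ A, x ≠ 1 → ∀ g : G, Commute g x → g ∈ torH t i A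
  fusion : ∀ g : G, g * t * g⁻¹ ∈ torH t i A → g * i * g⁻¹ ∈ torH t i A →
    ∃ j < 3, ∃ h ∈ torH t i A, g = w ^ j * h ∨ g = w ^ j * (r * h)

/-- A linear character as a homomorphism to `ℂ`. -/
noncomputable def lin {H : Subgroup G} (l : ↥H →* ℂˣ) : ↥H →* ℂ := (Units.coeHom ℂ).comp l

/-- The two orbits of the non-trivial characters of `U` under the normaliser in `K`. -/
structure PsiPair (K U : Subgroup G) (ψ : Fin 2 → (↥U →* ℂˣ)) : Prop where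
  ne_one : ∀ j, ψ j ≠ 1
  apart : ∀ k ∈ K, (hk : ∀ x ∈ U, k * x * k⁻¹ ∈ U) →
    ∃ x : U, ψ 0 ⟨k * x * k⁻¹, hk x x.2⟩ ≠ ψ 1 x

section defs

variable [Fintype G]

/-- `X(ψ₀) + X(ψ₁)`. -/
noncomputable def sumU (t : G) {U : Subgroup G} (ψ : Fin 2 → (↥U →* ℂˣ)) : G → ℂ :=
  twInd t U (lin (ψ 0)) + twInd t U (lin (ψ 1))

/-- The function at the projective indecomposable of the trivial module. -/
noncomputable def theta0 (t : G) {U : Subgroup G} (ψ : Fin 2 → (↥U →* ℂˣ)) (T : Subgroup G) : G → ℂ :=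
  twInd t T (fun _ => 1) - sumU t ψ

/-- The functions at the other two projective indecomposables of the principal block of `K`. -/
noncomputable def theta (t : G) {U : Subgroup G} (ψ : Fin 2 → (↥U →* ℂˣ)) (T A : Subgroup G)
    (j : Fin 2) : G → ℂ :=
  twInd t U (lin (ψ j)) + (2 : ℂ)⁻¹ • (twInd t T (fun _ => 1) - twInd t A (fun _ => 1))

/-- The functions at the characters of `T`. -/
noncomputable def thetaT (t : G) {U : Subgroup G} (ψ : Fin 2 → (↥U →* ℂˣ)) {T : Subgroup G}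
    (l : ↥T →* ℂˣ) : G → ℂ :=
  twInd t T (lin l) - sumU t ψ

/-- The functions at the characters of `A`. -/
noncomputable def thetaA (t : G) {U : Subgroup G} (ψ : Fin 2 → (↥U →* ℂˣ)) {A : Subgroup G}
    (l : ↥A →* ℂˣ) : G → ℂ :=
  (2 : ℂ) • sumU t ψ - twInd t A (lin l)

/-- The sign on `{1, t, i, t i}` with kernel `{1, t}`. -/
noncomputable def vsgn (t v : G) : ℂ := by
  classical exact if v = 1 ∨ v = t then 1 else -1

/-- `ξ ⊗ (1 - l)` on `⟨t, i⟩ × A`. -/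
noncomputable def fTor (t i : G) {A : Subgroup G} (a : ℕ) (l : ↥A →* ℂˣ) : ↥(torH t i A) → ℂ :=
  fun g => vsgn t ((g : G) ^ a) * (1 - extendByZero A (lin l) ((g : G) ^ (a + 1)))

/-- The induced function. -/
noncomputable def fMinus (t i : G) {A : Subgroup G} (a : ℕ) (l : ↥A →* ℂˣ) : G → ℂ :=
  indFun (torH t i A) (fTor t i a l)

end defs

/-- The number of ways to write `g` as a product of two conjugates of `t`. -/
noncomputable def pairCount (t g : G) : ℂ := (ClassCount.fibreCount t t g : ℂ)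

end Cfsg.Agent.AbelianSylow.Chars
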