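import Cfsg.Agent.EqLemmas
import Cfsg.Agent.Lib.AbelianSylow.Chars.Sec
import Cfsg.Agent.Lib.ClassCount.CharSum

/-!
# The `t`-section: immediate consequences of `Sec`

* `Sec.tt`, `Sec.t_ne_one`, `Sec.odd_q`, `Sec.odd_a`, `Sec.odd_M`, `Sec.Q_sq`, `Sec.i_sq`, ...
* `Sec.isConj_iff`, `Sec.isConj_iff_sq`
* `Sec.centEquiv` : `C(t) = {1, t} × K`; `Sec.card_cent`
* `Sec.U_pow`, `Sec.T_pow`, `Sec.A_pow`
* `vElt`, `Sec.torEquiv` : `⟨t, i⟩ A = {1, t, i, t i} × A`, `Sec.card_torH`, `Sec.vsgn_vElt`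
-/

set_option autoImplicit false
set_option linter.unusedSectionVars false

namespace Cfsg.Agent.AbelianSylow.Chars

open Subgroup
open scoped Pointwise

universe u

variable {G : Type u} [Group G]

/-- `1, t, i, t i`. -/
def vElt (t i : G) : Fin 4 → G := ![1, t, i, t * i]

namespace Sec

variable {t i r w : G} {K U A T : Subgroup G} {q a M : ℕ} {Q : ℤ} (S : Sec t i r w K U A T q a M Q)
include S

theorem tt : t * t = 1 := by
  rw [← pow_two, ← S.order_t]; exact pow_orderOf_eq_one t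

theorem t_ne_one : t ≠ 1 := fun e => by
  have := S.order_t
  rw [e, orderOf_one] at this
  omega

theorem t_inv : t⁻¹ = t := inv_eq_of_mul_eq_one_right S.tt

theorem i_sq : i * i = 1 := by
  rw [← pow_two, ← S.order_i]; exact pow_orderOf_eq_one i

theorem i_ne_one : i ≠ 1 := fun e => by
  have := S.order_i
  rw [e, orderOf_one] at this
  omega

theorem comm_ti : Commute t i := S.comm_K i S.i_mem

theorem odd_q : Odd q := by
  have := S.abs_Q; have := S.mod8
  rw [Nat.odd_iff]; omega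

theorem odd_a : Odd a := by
  have := S.four_a; have := S.mod8
  rw [Nat.odd_iff]; omega

theorem odd_M : Odd M := by
  have := S.two_M; have := S.mod8
  rw [Nat.odd_iff]; omega

theorem one_le_q : 1 ≤ q := le_trans (by norm_num) S.le

theorem three_le_a : 6 ≤ a := by
  have := S.four_a; have := S.abs_Q; have := S.le
  omega

theorem three_le_M : 12 ≤ M := by
  have := S.two_M; have := S.abs_Q; have := S.le
  omega

theorem Q_cases : Q = (q : ℤ) ∨ Q = -(q : ℤ) := by
  have := S.abs_Q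
  omega

theorem Q_sq : Q ^ 2 = (q : ℤ) ^ 2 := by
  rcases S.Q_cases with e | e <;> rw [e]
  ring

/-- `4 a` with sign. -/
theorem four_a_mul : 4 * (a : ℤ) * Q = (q : ℤ) * (Q + 1) := by
  have h := S.four_a; have h' := S.abs_Q; have := S.le
  rcases S.Q_cases with e | e
  · have : 4 * (a : ℤ) = Q + 1 := by omega
    rw [this, e]; ring
  · have : 4 * (a : ℤ) = -(Q + 1) := by omega
    rw [this, e]; ring

/-- `2 M` with sign. -/
theorem two_M_mul : 2 * (M : ℤ) * Q = (q : ℤ) * (Q - 1) := by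
  have h := S.two_M; have h' := S.abs_Q; have := S.le
  rcases S.Q_cases with e | e
  · have : 2 * (M : ℤ) = Q - 1 := by omega
    rw [this, e]; ring
  · have : 2 * (M : ℤ) = -(Q - 1) := by omega
    rw [this, e]; ring

theorem isConj_iff {g : G} : IsConj t g ↔ orderOf g = 2 := by
  refine ⟨fun hc => ?_, S.one_class g⟩
  obtain ⟨c, rfl⟩ := _root_.isConj_iff.1 hc
  rw [show c * t * c⁻¹ = MulAut.conj c t from rfl, MulEquiv.orderOf_eq, S.order_t]

theorem isConj_iff_sq {g : G} : IsConj t g ↔ g ≠ 1 ∧ g * g = 1 := by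
  rw [S.isConj_iff, orderOf_eq_prime_iff, pow_two]
  exact and_comm

/-- `C(t) = {1, t} × K`. -/
noncomputable def centEquiv : Bool × K ≃ centralizer ({t} : Set G) :=
  Equiv.ofBijective (fun p => ⟨(if p.1 then t else 1) * (p.2 : G), mul_mem (by
    split
    exacts [mem_centralizer_singleton_iff.2 rfl, one_mem _])
      (mem_centralizer_singleton_iff.2 (S.comm_K _ p.2.2).symm.eq)⟩) (by
    constructor
    · rintro ⟨b, k⟩ ⟨b', k'⟩ e
      have e' : (if b then t else 1) * (k : G) = (if b' then t else 1) * (k' : G) :=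
        congrArg Subtype.val e
      cases b <;> cases b' <;> simp only [Bool.false_eq_true, if_false, if_true, one_mul] at e'
      · rw [Subtype.ext e']
      · exact absurd (eq_mul_inv_of_mul_eq e'.symm ▸ mul_mem k.2 (inv_mem k'.2)) S.t_not_mem
      · exact absurd (eq_mul_inv_of_mul_eq e' ▸ mul_mem k'.2 (inv_mem k.2)) S.t_not_mem
      · rw [Subtype.ext (mul_left_cancel e')]
    · rintro ⟨g, hg⟩
      rcases S.cases g (mem_centralizer_singleton_iff.1 hg) with h1 | h1
      · exact ⟨⟨false, ⟨g, h1⟩⟩, Subtype.ext (by simp)⟩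
      · exact ⟨⟨true, ⟨t * g, h1⟩⟩, Subtype.ext (by simp [← mul_assoc, S.tt])⟩)

theorem centEquiv_apply (p : Bool × K) :
    (S.centEquiv p : G) = (if p.1 then t else 1) * (p.2 : G) := rfl

theorem card_cent : Nat.card (centralizer ({t} : Set G)) = q * (q ^ 2 - 1) := by
  rw [← Nat.card_congr S.centEquiv, Nat.card_prod, Nat.card_eq_fintype_card (α := Bool),
    Fintype.card_bool, S.card_K]

theorem U_pow {x : G} (hx : x ∈ U) : x ^ q = 1 := by
  rw [← S.card_U]
  exact congrArg Subtype.val (pow_card_eq_one' (x := (⟨x, hx⟩ : U)))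

theorem T_pow {x : G} (hx : x ∈ T) : x ^ M = 1 := by
  rw [← S.card_T]
  exact congrArg Subtype.val (pow_card_eq_one' (x := (⟨x, hx⟩ : T)))

theorem A_pow {x : G} (hx : x ∈ A) : x ^ a = 1 := by
  rw [← S.card_A]
  exact congrArg Subtype.val (pow_card_eq_one' (x := (⟨x, hx⟩ : A)))

theorem vElt_sq (j : Fin 4) : vElt t i j * vElt t i j = 1 := by
  fin_cases j
  · exact mul_one 1
  · exact S.tt
  · exact S.i_sq
  · show t * i * (t * i) = 1
    rw [← pow_two, S.comm_ti.mul_pow, pow_two, pow_two, S.tt, S.i_sq, one_mul]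

theorem vElt_injective : Function.Injective (vElt t i) := by
  have h1 := S.t_ne_one
  have h2 := S.i_ne_one
  have h3 : t ≠ i := fun e => S.t_not_mem (e ▸ S.i_mem)
  have h4 : t * i ≠ 1 := fun e => S.t_not_mem (eq_inv_of_mul_eq_one_left e ▸ inv_mem S.i_mem)
  intro j k e
  fin_cases j <;> fin_cases k <;> simp [vElt] at e ⊢ <;>
    first
      | exact absurd e h1 | exact absurd e.symm h1 | exact absurd e h2 | exact absurd e.symm h2
      | exact absurd e h3 | exact absurd e.symm h3 | exact absurd e h4 | exact absurd e.symm h4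

theorem vElt_comm (j : Fin 4) {x : G} (hx : x ∈ A) : Commute (vElt t i j) x := by
  fin_cases j
  · exact Commute.one_left x
  · exact S.comm_K x (S.A_le hx)
  · exact S.comm_iA x hx
  · exact (S.comm_K x (S.A_le hx)).mul_left (S.comm_iA x hx)

theorem vElt_mem (j : Fin 4) : vElt t i j ∈ torH t i A := by
  have ht : t ∈ torH t i A := mem_sup_left (mem_sup_left (mem_zpowers t))
  have hi : i ∈ torH t i A := mem_sup_left (mem_sup_right (mem_zpowers i))
  fin_cases j
  exacts [one_mem _, ht, hi, mul_mem ht hi]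

theorem mul_vElt_mem (j : Fin 4) {x : G} (hx : x ∈ A) : vElt t i j * x ∈ torH t i A :=
  mul_mem (S.vElt_mem j) (mem_sup_right hx)

theorem vElt_pow_a (j : Fin 4) : vElt t i j ^ a = vElt t i j := by
  obtain ⟨m, rfl⟩ := S.odd_a
  rw [pow_succ, pow_mul, pow_two, S.vElt_sq, one_pow, one_mul]

/-- The projections of `v x`. -/
theorem vElt_mul_pow (j : Fin 4) {x : G} (hx : x ∈ A) :
    (vElt t i j * x) ^ a = vElt t i j ∧ (vElt t i j * x) ^ (a + 1) = x := by
  have hc := S.vElt_comm j hx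
  refine ⟨by rw [hc.mul_pow, S.vElt_pow_a, S.A_pow hx, mul_one], ?_⟩
  rw [hc.mul_pow, pow_succ, pow_succ, S.vElt_pow_a, S.vElt_sq, one_mul, S.A_pow hx, one_mul]

theorem exists_eq_mul {g : G} (hg : g ∈ torH t i A) : ∃ j, ∃ x ∈ A, g = vElt t i j * x := by
  have h1 : zpowers t ≤ normalizer (zpowers i : Set G) := by
    refine le_trans ?_ (Subgroup.centralizer_le_normalizer _)
    rw [zpowers_le, mem_centralizer_iff]
    rintro _ ⟨n, rfl⟩
    exact (S.comm_ti.zpow_right n).eq.symm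
  have h2 : zpowers t ⊔ zpowers i ≤ normalizer (A : Set G) := by
    refine le_trans ?_ (Subgroup.centralizer_le_normalizer _)
    refine sup_le ?_ ?_ <;> rw [zpowers_le, mem_centralizer_iff] <;> intro x hx
    · exact (S.comm_K x (S.A_le hx)).eq.symm
    · exact (S.comm_iA x hx).eq.symm
  have hg' : g ∈ ((zpowers t ⊔ zpowers i : Subgroup G) : Set G) * (A : Set G) := by
    rw [← Subgroup.coe_mul_of_left_le_normalizer_right _ _ h2]; exact hg
  obtain ⟨v, hv, x, hx, rfl⟩ := hg'
  rw [SetLike.mem_coe, ← SetLike.mem_coe, Subgroup.coe_mul_of_left_le_normalizer_right _ _ h1] at hv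
  obtain ⟨_, ⟨m, rfl⟩, _, ⟨n, rfl⟩, rfl⟩ := hv
  have hz : ∀ (z : G), z * z = 1 → ∀ k : ℤ, z ^ k = 1 ∨ z ^ k = z := by
    intro z hz k
    rcases Int.even_or_odd' k with ⟨l, rfl | rfl⟩
    · exact Or.inl (by rw [zpow_mul, zpow_two, hz, one_zpow])
    · exact Or.inr (by rw [zpow_add, zpow_mul, zpow_two, hz, one_zpow, zpow_one, one_mul])
  rcases hz t S.tt m with e | e <;> rcases hz i S.i_sq n with e' | e' <;> dsimp only <;> rw [e, e']
  exacts [⟨0, x, hx, by simp [vElt]⟩, ⟨2, x, hx, by simp [vElt]⟩, ⟨1, x, hx, by simp [vElt]⟩,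
    ⟨3, x, hx, by simp [vElt]⟩]

/-- `⟨t, i⟩ A = {1, t, i, t i} × A`. -/
noncomputable def torEquiv : Fin 4 × A ≃ torH t i A :=
  Equiv.ofBijective (fun p => ⟨vElt t i p.1 * p.2, S.mul_vElt_mem p.1 p.2.2⟩) (by
    constructor
    · rintro ⟨j, x⟩ ⟨k, y⟩ e
      have e' : vElt t i j * x = vElt t i k * y := congrArg Subtype.val e
      obtain ⟨h1, h2⟩ := S.vElt_mul_pow j x.2
      obtain ⟨h3, h4⟩ := S.vElt_mul_pow k y.2
      rw [e', h3] at h1
      rw [e', h4] at h2
      exact Prod.ext (S.vElt_injective h1.symm) (Subtype.ext h2.symm)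
    · rintro ⟨g, hg⟩
      obtain ⟨j, x, hx, rfl⟩ := S.exists_eq_mul hg
      exact ⟨⟨j, ⟨x, hx⟩⟩, rfl⟩)

theorem torEquiv_apply (p : Fin 4 × A) : (S.torEquiv p : G) = vElt t i p.1 * p.2 := rfl

theorem card_torH : Nat.card (torH t i A) = 4 * a := by
  rw [← Nat.card_congr S.torEquiv, Nat.card_prod, Nat.card_fin, S.card_A]

theorem vsgn_vElt (j : Fin 4) : vsgn t (vElt t i j) = ![1, 1, -1, -1] j := by
  have h := S.vElt_injective
  have e1 : ∀ k, vElt t i k = 1 ↔ k = 0 := fun k => h.eq_iff' rfl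
  have e2 : ∀ k, vElt t i k = t ↔ k = 1 := fun k => h.eq_iff' rfl
  fin_cases j <;> simp [vsgn, e1, e2]

end Sec

end Cfsg.Agent.AbelianSylow.Chars
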