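import Cfsg.Agent.EqLemmas
import Cfsg.Agent.Lib.AbelianSylow.Chars.Basic
import Cfsg.Agent.Lib.FSInd.Basic
import Cfsg.Agent.S0895

/-!
# Moments, indicators and congruences (`PROOF.md`, section 2)

* `moment`, `Sec.moment` : `∑ m χ(t)² / χ(1) = |C(t)|² / |G| · ⟨f, pairCount⟩`
* `nu`, `fsInd_eq_nu`, `nu_cases`, `nu_of_real_odd`, `nu_of_not_real`, `Sec.sum_coeff_nu` : indicators
* `Sec.exists_value_t` : `χ(t)` is an integer, congruent to `χ(1)` modulo 8
* `Sec.four_a_dvd` : the congruence from the torus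
-/

set_option autoImplicit false
set_option linter.unusedSectionVars false

namespace Cfsg.Agent.AbelianSylow.Chars

open Subgroup ReeInverted
open scoped ComplexConjugate

universe u

variable {G : Type u} [Group G] [Fintype G]

/-- The moment of a function with coefficients `m`. -/
theorem moment [Fintype (IrrCharacter G)] (t : G) {f : G → ℂ} (m : IrrCharacter G → ℤ)
    (hm : ∀ χ : IrrCharacter G, classInner f (χ : G → ℂ) = m χ) :
    ∑ χ : IrrCharacter G, (m χ : ℂ) * ((χ : G → ℂ) t * (χ : G → ℂ) t / (χ : G → ℂ) 1) =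
      (Nat.card (centralizer ({t} : Set G)) : ℂ) ^ 2 / (Nat.card G : ℂ) *
        classInner f (pairCount t) := by
  classical
  have hG0 : (Nat.card G : ℂ) ≠ 0 := Nat.cast_ne_zero.2 Nat.card_pos.ne'
  set C : ℂ := (Nat.card (centralizer ({t} : Set G)) : ℂ) with hC
  have hC0 : C ≠ 0 := Nat.cast_ne_zero.2 Nat.card_pos.ne'
  have hcls : (Nat.card {g : G // IsConj t g} : ℂ) = (Nat.card G : ℂ) / C := by
    rw [eq_div_iff hC0, hC, ← Nat.cast_mul, ClassCount.card_class_mul_card_centralizer]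
  have hform : ∀ g, pairCount t g = (Nat.card G : ℂ)⁻¹ * ∑ χ : IrrCharacter G,
      (χ : G → ℂ) 1 * ClassCount.omega (χ : G → ℂ) t * ClassCount.omega (χ : G → ℂ) t *
        conj ((χ : G → ℂ) g) := by
    intro g
    rw [eq_inv_mul_iff_mul_eq₀ hG0, pairCount, ClassCount.card_mul_fibreCount]
    exact Finset.sum_congr rfl fun χ _ => by
      rw [Char.IsCharacter.apply_inv (Char.IsIrrCharacter.isCharacter χ.2)]
  have key : classInner f (pairCount t) = (Nat.card G : ℂ) / C ^ 2 *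
      ∑ χ : IrrCharacter G, (m χ : ℂ) * ((χ : G → ℂ) t * (χ : G → ℂ) t / (χ : G → ℂ) 1) := by
    have hconj : ∀ g, conj (pairCount t g) = pairCount t g := fun g => by
      simp only [pairCount, map_natCast]
    rw [classInner, Finset.sum_congr rfl fun g _ => by rw [hconj, hform g]]
    simp only [Finset.mul_sum]
    rw [Finset.sum_comm]
    refine Finset.sum_congr rfl fun χ _ => ?_
    rw [← hm χ, classInner, Finset.mul_sum, Finset.sum_mul, Finset.mul_sum]
    refine Finset.sum_congr rfl fun g _ => ?_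
    have hd := Char.IsIrrCharacter.apply_one_ne_zero χ.2
    simp only [ClassCount.omega, hcls]
    field_simp
  rw [key]
  field_simp

/-- The indicator as an integer. -/
noncomputable def nu (χ : G → ℂ) : ℤ := by
  classical exact if FSInd.fsInd χ = 1 then 1 else if FSInd.fsInd χ = -1 then -1 else 0

theorem fsInd_eq_nu {χ : G → ℂ} (hχ : IsIrrCharacter G χ) : FSInd.fsInd χ = nu χ := by
  have h10 : (-1 : ℂ) ≠ 1 := by norm_num
  by_cases hr : ∀ g : G, (χ g).im = 0
  · rcases FSInd.fsInd_eq_one_or_neg_one hχ hr with h | h <;> simp [nu, h, h10]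
  · simp [nu, FSInd.fsInd_eq_zero_of_not_real hχ hr]

theorem nu_cases (χ : G → ℂ) : nu χ = 1 ∨ nu χ = -1 ∨ nu χ = 0 := by
  classical
  unfold nu
  split
  · exact Or.inl rfl
  · split
    · exact Or.inr (Or.inl rfl)
    · exact Or.inr (Or.inr rfl)

theorem nu_of_real_odd {χ : G → ℂ} (hχ : IsIrrCharacter G χ) (hr : ∀ g : G, (χ g).im = 0) {d : ℕ}
    (hd : χ 1 = d) (ho : Odd d) : nu χ = 1 := by
  have h := Cfsg.Agent.S0895.result χ hχ hr d hd ho
  have h2 : FSInd.fsInd χ = 1 := h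
  simp [nu, h2]

theorem nu_of_not_real {χ : G → ℂ} (hχ : IsIrrCharacter G χ) (hr : ¬ ∀ g : G, (χ g).im = 0) :
    nu χ = 0 := by
  simp [nu, FSInd.fsInd_eq_zero_of_not_real hχ hr]

/-- The sum over a subgroup of a character. -/
theorem exists_sum_eq {χ : G → ℂ} (hχ : IsCharacter G χ) (P : Subgroup G) [Fintype P] :
    ∃ n : ℤ, ∑ y : P, χ (y : G) = (Nat.card P : ℂ) * n := by
  obtain ⟨n, hn⟩ := ClassCount.exists_sum_subgroup_eq P hχ
  exact ⟨n, by rw [hn]; norm_cast⟩

namespace Sec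

variable {t i r w : G} {K U A T : Subgroup G} {q a M : ℕ} {Q : ℤ}

theorem moment (S : Sec t i r w K U A T q a M Q) [Fintype (IrrCharacter G)] {f : G → ℂ}
    (m : IrrCharacter G → ℤ) (hm : ∀ χ : IrrCharacter G, classInner f (χ : G → ℂ) = m χ) :
    ∑ χ : IrrCharacter G, (m χ : ℂ) * ((χ : G → ℂ) t * (χ : G → ℂ) t / (χ : G → ℂ) 1) =
      ((q : ℂ) * ((q : ℂ) ^ 2 - 1)) ^ 2 / (Nat.card G : ℂ) * classInner f (pairCount t) := by
  rw [Chars.moment t m hm, S.card_cent]
  have : 1 ≤ q ^ 2 := Nat.one_le_pow _ _ (by have := S.le; omega)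
  push_cast [this]
  ring

/-- Squares have odd order. -/
theorem odd_orderOf_sq (S : Sec t i r w K U A T q a M Q) (s : G) : Odd (orderOf (s * s)) := by
  have hn := orderOf_pos s
  obtain ⟨e, m, hm2, he⟩ := Nat.exists_eq_pow_mul_and_not_dvd hn.ne' 2 (by norm_num)
  have hpow : (s ^ m) ^ (2 ^ e) = 1 := by rw [← pow_mul, mul_comm, ← he, pow_orderOf_eq_one]
  obtain ⟨k, -, hk⟩ := (Nat.dvd_prime_pow Nat.prime_two).1 (orderOf_dvd_of_pow_eq_one hpow)
  obtain ⟨P, hP⟩ := (IsPGroup.of_card (p := 2) (n := k) (by rw [Nat.card_zpowers, hk]) :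
    IsPGroup 2 (zpowers (s ^ m))).exists_le_sylow
  have h1 := S.sylow_sq P (s ^ m) (hP (mem_zpowers _))
  have h2 : (s * s) ^ m = 1 := by rw [(Commute.refl s).mul_pow, h1]
  exact Odd.of_dvd_nat (Nat.odd_iff.2 (by omega)) (orderOf_dvd_of_pow_eq_one h2)

/-- A function zero at the elements of odd order is orthogonal to the indicators. -/
theorem sum_coeff_nu (S : Sec t i r w K U A T q a M Q) [Fintype (IrrCharacter G)] {f : G → ℂ}
    (m : IrrCharacter G → ℤ) (he : f = ∑ χ : IrrCharacter G, (m χ : ℂ) • (χ : G → ℂ))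
    (h0 : ∀ g : G, Odd (orderOf g) → f g = 0) :
    ∑ χ : IrrCharacter G, m χ * nu (χ : G → ℂ) = 0 := by
  have e : ∀ s : G, f (s * s) = ∑ χ : IrrCharacter G, (m χ : ℂ) * (χ : G → ℂ) (s * s) := fun s => by
    rw [he]; simp
  have h : ∑ χ : IrrCharacter G, (m χ : ℂ) * FSInd.fsInd (χ : G → ℂ) = 0 := by
    simp only [FSInd.fsInd, Finset.mul_sum]
    rw [Finset.sum_comm]
    refine Finset.sum_eq_zero fun s _ => ?_
    calc ∑ χ : IrrCharacter G, (m χ : ℂ) * ((Nat.card G : ℂ)⁻¹ * (χ : G → ℂ) (s * s))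
        = (Nat.card G : ℂ)⁻¹ * f (s * s) := by
          rw [e, Finset.mul_sum]
          exact Finset.sum_congr rfl fun χ _ => by ring
      _ = 0 := by rw [h0 _ (S.odd_orderOf_sq s), mul_zero]
  have h' : ((∑ χ : IrrCharacter G, m χ * nu (χ : G → ℂ) : ℤ) : ℂ) = 0 := by
    push_cast
    rw [← h]
    exact Finset.sum_congr rfl fun χ _ => by rw [fsInd_eq_nu χ.2]
  exact_mod_cast h'

theorem apply_eq_t (S : Sec t i r w K U A T q a M Q) {χ : G → ℂ} (hχ : IsClassFunction G χ) {g : G}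
    (hg : g ≠ 1) (hg2 : g * g = 1) : χ g = χ t :=
  ClassCount.class_apply hχ (S.isConj_iff_sq.2 ⟨hg, hg2⟩)

/-- The value at `t`. -/
theorem exists_value_t (S : Sec t i r w K U A T q a M Q) {χ : G → ℂ} (hχ : IsCharacter G χ) {d : ℤ}
    (hd : χ 1 = d) : ∃ z : ℤ, χ t = z ∧ (8 : ℤ) ∣ d - z := by
  classical
  have hc := Char.IsCharacter.isClassFunction hχ
  have hsum : ∀ (P : Subgroup G) [Fintype P], (∀ x ∈ P, x * x = 1) →
      ∑ y : P, χ (y : G) = (d : ℂ) + ((Nat.card P : ℂ) - 1) * χ t := by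
    intro P _ hP
    rw [← Finset.sum_erase_add _ _ (Finset.mem_univ (1 : P)), OneMemClass.coe_one, hd,
      Finset.sum_congr rfl (g := fun _ => χ t) fun y hy => S.apply_eq_t hc
        (fun e => (Finset.mem_erase.1 hy).1 (Subtype.ext e)) (hP y y.2),
      Finset.sum_const, Finset.card_erase_of_mem (Finset.mem_univ _), Finset.card_univ,
      ← Nat.card_eq_fintype_card, nsmul_eq_mul,
      Nat.cast_sub (show 1 ≤ Nat.card P from Nat.card_pos)]
    push_cast
    ring
  obtain ⟨n, hn⟩ := exists_sum_eq hχ (zpowers t)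
  rw [hsum (zpowers t) (by
    rintro _ ⟨k, rfl⟩
    show t ^ k * t ^ k = 1
    rw [← zpow_add, ← two_mul, zpow_mul, zpow_two, S.tt, one_zpow]), Nat.card_zpowers, S.order_t] at hn
  obtain ⟨P⟩ := (inferInstance : Nonempty (Sylow 2 G))
  obtain ⟨n8, hn8⟩ := exists_sum_eq hχ (P : Subgroup G)
  rw [hsum (P : Subgroup G) (S.sylow_sq P), S.sylow8 P] at hn8
  push_cast at hn hn8
  have hz : χ t = ((2 * n - d : ℤ) : ℂ) := by
    push_cast
    linear_combination hn
  refine ⟨2 * n - d, hz, ⟨n8 - (2 * n - d), ?_⟩⟩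
  have h : (d : ℂ) + 7 * ((2 * n - d : ℤ) : ℂ) = 8 * (n8 : ℂ) := by
    rw [← hz]; linear_combination hn8
  have h' : d + 7 * (2 * n - d) = 8 * n8 := by exact_mod_cast h
  linarith

/-- The congruence from the torus. -/
theorem four_a_dvd (S : Sec t i r w K U A T q a M Q) {χ : G → ℂ} (hχ : IsCharacter G χ) {d z : ℤ}
    (hd : χ 1 = d) (hz : χ t = z)
    (h0 : ∀ l : ↥A →* ℂˣ, l ≠ 1 → classInner χ (fMinus t i a l) = 0) : (4 * a : ℤ) ∣ d - z := by
  classical
  have := Fintype.ofFinite A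
  have := Fintype.ofFinite (torH t i A)
  have := Fintype.ofFinite (IrrCharacter A)
  let _ := Fintype.ofEquiv _ (ReeCover.dualEquiv S.A_comm).symm
  have hc := Char.IsCharacter.isClassFunction hχ
  let F : A → ℂ := fun x => χ x + χ (t * x) - χ (i * x) - χ (t * i * x)
  have hsum4 : ∀ φ : A → ℂ, ∑ g : torH t i A, χ (g : G) *
      (vsgn t ((g : G) ^ a) * extendByZero A φ ((g : G) ^ (a + 1))) = ∑ x : A, F x * φ x := by
    intro φ
    rw [← S.torEquiv.sum_comp, Fintype.sum_prod_type, Fin.sum_univ_four]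
    have e : ∀ (j : Fin 4) (x : A), χ (S.torEquiv (j, x) : G) *
        (vsgn t ((S.torEquiv (j, x) : G) ^ a) * extendByZero A φ ((S.torEquiv (j, x) : G) ^ (a + 1))) =
        ![(1 : ℂ), 1, -1, -1] j * (χ (vElt t i j * x) * φ x) := by
      intro j x
      rw [S.torEquiv_apply, (S.vElt_mul_pow j x.2).1, (S.vElt_mul_pow j x.2).2, S.vsgn_vElt,
        Char.extendByZero_coe]
      ring
    simp only [e, vElt]
    simp only [← Finset.sum_add_distrib]
    refine Finset.sum_congr rfl fun x _ => ?_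
    simp [F]
    ring
  have hconj : ∀ v : G, conj (vsgn t v) = vsgn t v := fun v => by
    simp only [vsgn]; split <;> simp
  have hl : ∀ l : ↥A →* ℂˣ, ∑ x : A, F x * conj (lin l x) = ∑ x : A, F x := by
    intro l
    by_cases e : l = 1
    · subst e
      simp [lin]
    have h := h0 l e
    rw [fMinus, Char.frobenius_reciprocity' _ _ hc, classInner] at h
    have h' := (mul_eq_zero.1 h).resolve_left (inv_ne_zero (Nat.cast_ne_zero.2 Nat.card_pos.ne'))
    have h2 : ∑ g : torH t i A, χ (g : G) * conj (fTor t i a l g) =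
        ∑ x : A, F x * (1 - conj (lin l x)) := by
      rw [← hsum4 fun x => 1 - conj (lin l x)]
      refine Finset.sum_congr rfl fun g _ => ?_
      rw [fTor, map_mul, hconj, map_sub, map_one]
      obtain ⟨j, x, hx, hgx⟩ := S.exists_eq_mul g.2
      rw [hgx, (S.vElt_mul_pow j hx).2, Char.extendByZero_mem _ _ hx, Char.extendByZero_mem _ _ hx]
    rw [h2] at h'
    simp only [mul_sub, mul_one, Finset.sum_sub_distrib, sub_eq_zero] at h'
    exact h'.symm
  have hS : ∑ x : A, F x = F 1 := by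
    have hcard : (Fintype.card (↥A →* ℂˣ) : ℂ) = (a : ℂ) := by
      rw [← Nat.card_eq_fintype_card, ReeCover.card_dual S.A_comm, S.card_A]
    have ha : (a : ℂ) ≠ 0 := Nat.cast_ne_zero.2 (by have := S.three_le_a; omega)
    refine mul_left_cancel₀ ha ?_
    calc (a : ℂ) * ∑ x : A, F x = ∑ l : ↥A →* ℂˣ, ∑ x : A, F x * conj (lin l x) := by
          rw [Finset.sum_congr rfl fun l _ => hl l, Finset.sum_const, Finset.card_univ, nsmul_eq_mul,
            hcard]
      _ = ∑ x : A, F x * ∑ l : ↥A →* ℂˣ, ReeCover.lam A l x⁻¹ := by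
          rw [Finset.sum_comm]
          refine Finset.sum_congr rfl fun x _ => ?_
          rw [Finset.mul_sum]
          exact Finset.sum_congr rfl fun l _ => by rw [← ReeCover.conj_lam]; rfl
      _ = _ := by
          rw [Finset.sum_eq_single (1 : A) (fun x _ hx => by
            rw [ReeCover.sum_lam S.A_comm (fun e => hx (inv_eq_one.1 e)), mul_zero])
            (fun h => absurd (Finset.mem_univ _) h)]
          simp [ReeCover.lam, hcard, mul_comm]
  have hF1 : F 1 = (d : ℂ) - z := by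
    have e : ∀ g : G, g ≠ 1 → g * g = 1 → χ g = z := fun g h1 h2 => (S.apply_eq_t hc h1 h2).trans hz
    have hti : χ (t * i) = z := e _ (fun e' => S.t_not_mem (eq_inv_of_mul_eq_one_left e' ▸ inv_mem S.i_mem))
      (S.vElt_sq 3)
    simp only [F, OneMemClass.coe_one, mul_one, hd, hz, hti, e i S.i_ne_one S.i_sq]
    ring
  -- the multiplicity
  obtain ⟨n, hn⟩ := exists_sum_eq hχ (torH t i A)
  let B := twExt t A S.tt (fun x hx => S.comm_K x (S.A_le hx))
  obtain ⟨n', hn'⟩ := exists_sum_eq hχ B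
  have hB : ∀ p : Bool × A, (if p.1 then t else 1) * (p.2 : G) ∈ B := by
    rintro ⟨b, x⟩
    cases b <;> simp only [Bool.false_eq_true, if_false, if_true, one_mul]
    · exact Or.inl x.2
    · exact Or.inr (by rw [← mul_assoc, S.tt, one_mul]; exact x.2)
  have htA : t ∉ A := fun h => S.t_not_mem (S.A_le h)
  let eB : Bool × A ≃ B := Equiv.ofBijective (fun p => ⟨_, hB p⟩) (by
    constructor
    · rintro ⟨b, x⟩ ⟨b', y⟩ e
      have e' : (if b then t else 1) * (x : G) = (if b' then t else 1) * (y : G) :=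
        congrArg Subtype.val e
      cases b <;> cases b' <;> simp only [Bool.false_eq_true, if_false, if_true, one_mul] at e'
      · rw [Subtype.ext e']
      · exact absurd (eq_mul_inv_of_mul_eq e'.symm ▸ mul_mem x.2 (inv_mem y.2)) htA
      · exact absurd (eq_mul_inv_of_mul_eq e' ▸ mul_mem y.2 (inv_mem x.2)) htA
      · rw [Subtype.ext (mul_left_cancel e')]
    · rintro ⟨g, hg | hg⟩
      · exact ⟨(false, ⟨g, hg⟩), Subtype.ext (one_mul g)⟩
      · exact ⟨(true, ⟨t * g, hg⟩), Subtype.ext (by simp [← mul_assoc, S.tt])⟩)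
  have hB2 : Nat.card B = 2 * a := by
    rw [← Nat.card_congr eB, Nat.card_prod, Nat.card_eq_fintype_card (α := Bool), Fintype.card_bool,
      S.card_A]
  rw [← eB.sum_comp, Fintype.sum_prod_type, Fintype.sum_bool, hB2] at hn'
  rw [← S.torEquiv.sum_comp, Fintype.sum_prod_type, Fin.sum_univ_four, S.card_torH] at hn
  simp only [S.torEquiv_apply, vElt, Matrix.cons_val_zero, Matrix.cons_val_one, Matrix.cons_val_two,
    Matrix.cons_val_three, Matrix.head_cons, Matrix.tail_cons, one_mul] at hn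
  have hn'' : ∑ x : A, χ (t * x) + ∑ x : A, χ (x : G) = ((2 * a : ℕ) : ℂ) * n' := by
    simpa [eB, add_comm] using hn'
  have hFsum : ∑ x : A, F x = ∑ x : A, χ (x : G) + ∑ x : A, χ (t * x) - ∑ x : A, χ (i * x) -
      ∑ x : A, χ (t * i * x) := by
    simp only [F, Finset.sum_sub_distrib, Finset.sum_add_distrib]
  refine ⟨n' - n, ?_⟩
  have h : ((d - z : ℤ) : ℂ) = ((4 * (a : ℤ) * (n' - n) : ℤ) : ℂ) := by
    push_cast
    rw [← hF1, ← hS, hFsum]
    push_cast at hn hn''
    linear_combination 2 * hn'' - hn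
  exact_mod_cast h

end Sec

end Cfsg.Agent.AbelianSylow.Chars
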