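import Cfsg.Agent.EqLemmas
import Cfsg.Agent.Lib.AbelianSylow.Chars.Moment
import Cfsg.Agent.Lib.AbelianSylow.Chars.Vec

/-!
# Coefficient vectors (owner: helper84)

* `cvec f` : the coefficients of a generalised character at the irreducible characters
* `degv`, `valv t`, `nuv` : the degrees, the values at `t`, the indicators
* `mom t v` : `∑ v χ(t)² / χ(1)`; `mom_unit`
* `star` : complex conjugation on vectors
-/

set_option autoImplicit false
set_option linter.unusedSectionVars false

namespace Cfsg.Agent.AbelianSylow.Chars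

open Matrix
open scoped ComplexConjugate

universe u

variable {G : Type u} [Group G] [Fintype G]

/-- The coefficients of a function at the irreducible characters. -/
noncomputable def cvec (f : G → ℂ) : IrrCharacter G → ℤ := fun χ => by
  classical exact if h : ∃ n : ℤ, classInner f (χ : G → ℂ) = n then h.choose else 0

/-- The degrees. -/
noncomputable def degv (G : Type u) [Group G] [Fintype G] : IrrCharacter G → ℤ := fun χ =>
  (charDegree (χ : G → ℂ) : ℤ)

/-- The values at `t`, if integral. -/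
noncomputable def valv (t : G) : IrrCharacter G → ℤ := fun χ => by
  classical exact if h : ∃ n : ℤ, (χ : G → ℂ) t = n then h.choose else 0

/-- The indicators. -/
noncomputable def nuv (G : Type u) [Group G] [Fintype G] : IrrCharacter G → ℤ := fun χ => nu (χ : G → ℂ)

/-- Complex conjugation of irreducible characters. -/
noncomputable def conjIrr (χ : IrrCharacter G) : IrrCharacter G :=
  ⟨fun g => conj ((χ : G → ℂ) g), Char.IsIrrCharacter.conj χ.2⟩

/-- Complex conjugation of vectors. -/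
noncomputable def star (v : IrrCharacter G → ℤ) : IrrCharacter G → ℤ := fun χ => v (conjIrr χ)

theorem degv_pos (χ : IrrCharacter G) : 0 < degv G χ := Int.natCast_pos.2 (ClassCount.charDegree_pos χ)

theorem apply_one_degv (χ : IrrCharacter G) : (χ : G → ℂ) 1 = (degv G χ : ℂ) := by
  rw [ClassCount.apply_one_eq_charDegree χ]
  simp [degv]

theorem cvec_spec {f : G → ℂ} (hf : IsGeneralizedCharacter G f) (χ : IrrCharacter G) :
    classInner f (χ : G → ℂ) = (cvec f χ : ℂ) := by
  have h := Char.IsGeneralizedCharacter.classInner_int hf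
    (Char.isGeneralizedCharacter_of_isCharacter (Char.IsIrrCharacter.isCharacter χ.2))
  simp only [cvec, dif_pos h]
  exact h.choose_spec

variable [Fintype (IrrCharacter G)]

theorem cvec_inner {f g : G → ℂ} (hf : IsGeneralizedCharacter G f) (hg : IsGeneralizedCharacter G g) :
    classInner f g = ((cvec f ⬝ᵥ cvec g : ℤ) : ℂ) := by
  rw [Char.classInner_eq_sum (Char.IsGeneralizedCharacter.isClassFunction hf) g, dotProduct]
  push_cast
  exact Finset.sum_congr rfl fun χ _ => by rw [cvec_spec hf, cvec_spec hg, map_intCast]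

theorem cvec_expand {f : G → ℂ} (hf : IsGeneralizedCharacter G f) :
    f = ∑ χ : IrrCharacter G, (cvec f χ : ℂ) • (χ : G → ℂ) := by
  conv_lhs => rw [Char.classFunction_eq_sum (Char.IsGeneralizedCharacter.isClassFunction hf)]
  exact Finset.sum_congr rfl fun χ _ => by rw [cvec_spec hf]

theorem cvec_deg {f : G → ℂ} (hf : IsGeneralizedCharacter G f) (h : f 1 = 0) : degv G ⬝ᵥ cvec f = 0 := by
  have e := congrFun (cvec_expand hf) 1
  simp only [Finset.sum_apply, Pi.smul_apply, smul_eq_mul, apply_one_degv, h] at e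
  have : ((degv G ⬝ᵥ cvec f : ℤ) : ℂ) = 0 := by
    rw [e, dotProduct]
    push_cast
    exact Finset.sum_congr rfl fun χ _ => mul_comm _ _
  exact_mod_cast this

theorem cvec_irr [DecidableEq (IrrCharacter G)] (ψ : IrrCharacter G) :
    cvec (ψ : G → ℂ) = Pi.single ψ 1 := by
  funext χ
  have h := cvec_spec (Char.isGeneralizedCharacter_of_isCharacter (Char.IsIrrCharacter.isCharacter ψ.2)) χ
  rw [Pi.single_apply]
  by_cases e : χ = ψ
  · subst e
    rw [Char.classInner_irr_self χ.2] at h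
    rw [if_pos rfl]
    exact_mod_cast h.symm
  · rw [Char.classInner_irr_of_ne ψ.2 χ.2 fun e' => e (Subtype.ext e'.symm)] at h
    rw [if_neg e]
    exact_mod_cast h.symm

/-- The sum `∑ v χ(t)² / χ(1)`. -/
noncomputable def mom (t : G) (v : IrrCharacter G → ℤ) : ℚ :=
  ∑ χ : IrrCharacter G, (v χ : ℚ) * ((valv t χ : ℚ) ^ 2 / (degv G χ : ℚ))

theorem mom_add (t : G) (v v' : IrrCharacter G → ℤ) : mom t (v + v') = mom t v + mom t v' := by
  simp [mom, add_mul, Finset.sum_add_distrib]

theorem mom_sub (t : G) (v v' : IrrCharacter G → ℤ) : mom t (v - v') = mom t v - mom t v' := by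
  simp [mom, sub_mul, Finset.sum_sub_distrib]

theorem mom_smul (t : G) (c : ℤ) (v : IrrCharacter G → ℤ) : mom t (c • v) = c * mom t v := by
  simp only [mom, Pi.smul_apply, smul_eq_mul, Int.cast_mul, Finset.mul_sum, mul_assoc]

theorem mom_unit [DecidableEq (IrrCharacter G)] (t : G) {e : IrrCharacter G → ℤ} (h : e ⬝ᵥ e = 1) :
    mom t e = ((valv t ⬝ᵥ e : ℤ) : ℚ) ^ 2 / ((degv G ⬝ᵥ e : ℤ) : ℚ) := by
  obtain ⟨x, σ, hσ, rfl⟩ := Vec.unit_eq h
  rw [dotProduct_single, dotProduct_single, mom, Finset.sum_eq_single x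
    (fun y _ hy => by simp [Pi.single_eq_of_ne hy]) (fun h => absurd (Finset.mem_univ _) h),
    Pi.single_eq_same]
  have hd : (degv G x : ℚ) ≠ 0 := by exact_mod_cast (degv_pos x).ne'
  rcases hσ with rfl | rfl
  · simp
  · simp [div_neg]

theorem degv_ne [DecidableEq (IrrCharacter G)] {e : IrrCharacter G → ℤ} (h : e ⬝ᵥ e = 1) :
    degv G ⬝ᵥ e ≠ 0 := Vec.deg_ne degv_pos h

theorem conjIrr_conjIrr (χ : IrrCharacter G) : conjIrr (conjIrr χ) = χ :=
  Subtype.ext (funext fun g => Complex.conj_conj _)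

/-- `conjIrr` as a permutation. -/
noncomputable def conjPerm : IrrCharacter G ≃ IrrCharacter G :=
  ⟨conjIrr, conjIrr, conjIrr_conjIrr, conjIrr_conjIrr⟩

theorem star_dot (v v' : IrrCharacter G → ℤ) : star v ⬝ᵥ star v' = v ⬝ᵥ v' :=
  Fintype.sum_equiv conjPerm _ _ fun _ => rfl

theorem star_star (v : IrrCharacter G → ℤ) : star (star v) = v := funext fun χ => by
  simp [star, conjIrr_conjIrr]

theorem dot_star (v v' : IrrCharacter G → ℤ) : v ⬝ᵥ star v' = star v ⬝ᵥ v' := by
  rw [← star_dot v, star_star]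

theorem cvec_conj {f f' : G → ℂ} (hf : IsGeneralizedCharacter G f) (hf' : IsGeneralizedCharacter G f')
    (h : ∀ g, conj (f g) = f' g) : star (cvec f') = cvec f := by
  funext χ
  have h1 := cvec_spec hf' (conjIrr χ)
  have h2 := cvec_spec hf χ
  have e : classInner f' (conjIrr χ : G → ℂ) = conj (classInner f (χ : G → ℂ)) := by
    simp only [classInner, map_mul, map_inv₀, map_natCast, map_sum, h, conjIrr, Complex.conj_conj]
  rw [e, h2, map_intCast] at h1
  exact_mod_cast (show (star (cvec f') χ : ℂ) = (cvec f χ : ℂ) from h1.symm)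

theorem degv_star : star (degv G) = degv G := funext fun χ => by
  have h : (χ : G → ℂ) 1 = (degv G χ : ℂ) := apply_one_degv χ
  have h' : (conjIrr χ : G → ℂ) 1 = (degv G (conjIrr χ) : ℂ) := apply_one_degv _
  simp only [conjIrr, h, map_intCast] at h'
  exact_mod_cast (show ((star (degv G) χ : ℤ) : ℂ) = (degv G χ : ℂ) from h'.symm)

/-- The indicator of a real unit of odd degree. -/
theorem nuv_real [DecidableEq (IrrCharacter G)] {e : IrrCharacter G → ℤ} (h : e ⬝ᵥ e = 1) (hs : star e = e) :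
    (nuv G ⬝ᵥ e = 1 ∨ nuv G ⬝ᵥ e = -1) ∧
      (Odd (degv G ⬝ᵥ e) → (0 < degv G ⬝ᵥ e → nuv G ⬝ᵥ e = 1) ∧ (degv G ⬝ᵥ e < 0 → nuv G ⬝ᵥ e = -1)) := by
  obtain ⟨x, σ, hσ, rfl⟩ := Vec.unit_eq h
  have hx : conjIrr x = x := by
    have := congrFun hs x
    simp only [star, Pi.single_eq_same, Pi.single_apply] at this
    split_ifs at this with e
    · exact e
    · rcases hσ with rfl | rfl <;> omega
  have hr : ∀ g : G, ((x : G → ℂ) g).im = 0 := fun g =>
    Complex.conj_eq_iff_im.1 (congrFun (congrArg Subtype.val hx) g)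
  simp only [dotProduct_single]
  have hν : nuv G x = 1 ∨ nuv G x = -1 := by
    rcases FSInd.fsInd_eq_one_or_neg_one x.2 hr with h1 | h1 <;> rw [fsInd_eq_nu x.2] at h1
    · exact Or.inl (show nu (x : G → ℂ) = 1 by exact_mod_cast h1)
    · exact Or.inr (show nu (x : G → ℂ) = -1 by exact_mod_cast h1)
  refine ⟨by rcases hν with e | e <;> rcases hσ with rfl | rfl <;> simp [e], fun ho => ?_⟩
  have hd := degv_pos x
  have hν1 : nuv G x = 1 := nu_of_real_odd x.2 hr (d := charDegree (x : G → ℂ))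
    (ClassCount.apply_one_eq_charDegree x) (by
      have : Odd (degv G x) := by
        rcases hσ with rfl | rfl <;> simpa using ho
      simpa [degv] using this)
  rw [hν1]
  rcases hσ with rfl | rfl <;> constructor <;> intro <;> omega

/-- The indicator of a unit that is not real. -/
theorem nuv_not_real [DecidableEq (IrrCharacter G)] {e : IrrCharacter G → ℤ} (h : e ⬝ᵥ e = 1)
    (hs : star e ≠ e) : nuv G ⬝ᵥ e = 0 := by
  obtain ⟨x, σ, hσ, rfl⟩ := Vec.unit_eq h
  have hr : ¬ ∀ g : G, ((x : G → ℂ) g).im = 0 := fun hr => hs (funext fun χ => by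
    have hx : conjIrr x = x := Subtype.ext (funext fun g => Complex.conj_eq_iff_im.2 (hr g))
    simp only [star, Pi.single_apply]
    by_cases e : χ = x
    · rw [e, hx]
    · rw [if_neg e, if_neg fun e' => e (by rw [← conjIrr_conjIrr χ, e', hx])])
  rw [dotProduct_single, show nuv G x = 0 from nu_of_not_real x.2 hr, zero_mul]

namespace Sec

variable {t i r w : G} {K U A T : Subgroup G} {q a M : ℕ} {Q : ℤ} (S : Sec t i r w K U A T q a M Q)
include S

theorem valv_spec (χ : IrrCharacter G) :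
    (χ : G → ℂ) t = (valv t χ : ℂ) ∧ (8 : ℤ) ∣ degv G χ - valv t χ := by
  obtain ⟨z, hz, h8⟩ := S.exists_value_t (Char.IsIrrCharacter.isCharacter χ.2) (apply_one_degv χ)
  have h : ∃ n : ℤ, (χ : G → ℂ) t = n := ⟨z, hz⟩
  have e : (χ : G → ℂ) t = (valv t χ : ℂ) := by
    simp only [valv, dif_pos h]; exact h.choose_spec
  refine ⟨e, ?_⟩
  rw [show valv t χ = z by exact_mod_cast e.symm.trans hz]
  exact h8

theorem mom_eq {f : G → ℂ} (hf : IsGeneralizedCharacter G f) :
    (mom t (cvec f) : ℂ) = ((q : ℂ) * ((q : ℂ) ^ 2 - 1)) ^ 2 / (Nat.card G : ℂ) *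
      classInner f (pairCount t) := by
  rw [← S.moment (cvec f) (cvec_spec hf), mom]
  push_cast
  exact Finset.sum_congr rfl fun χ _ => by rw [(S.valv_spec χ).1, apply_one_degv, pow_two]

theorem nuv_cvec {f : G → ℂ} (hf : IsGeneralizedCharacter G f) (h0 : ∀ g : G, Odd (orderOf g) → f g = 0) :
    nuv G ⬝ᵥ cvec f = 0 := by
  rw [dotProduct_comm]
  exact S.sum_coeff_nu (cvec f) (cvec_expand hf) h0

theorem dvd_unit_eight [DecidableEq (IrrCharacter G)] {e : IrrCharacter G → ℤ} (h : e ⬝ᵥ e = 1) :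
    (8 : ℤ) ∣ degv G ⬝ᵥ e - valv t ⬝ᵥ e := by
  obtain ⟨x, σ, -, rfl⟩ := Vec.unit_eq h
  rw [dotProduct_single, dotProduct_single, ← sub_mul]
  exact (S.valv_spec x).2.mul_right σ

/-- The congruence from the torus for a unit orthogonal to all `fMinus`. -/
theorem dvd_unit_torus [DecidableEq (IrrCharacter G)] {e : IrrCharacter G → ℤ} (h : e ⬝ᵥ e = 1)
    (hgen : ∀ l : ↥A →* ℂˣ, IsGeneralizedCharacter G (fMinus t i a l))
    (h0 : ∀ l : ↥A →* ℂˣ, l ≠ 1 → e ⬝ᵥ cvec (fMinus t i a l) = 0) :
    (4 * a : ℤ) ∣ degv G ⬝ᵥ e - valv t ⬝ᵥ e := by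
  obtain ⟨x, σ, hσ, rfl⟩ := Vec.unit_eq h
  rw [dotProduct_single, dotProduct_single, ← sub_mul]
  refine Dvd.dvd.mul_right (S.four_a_dvd (Char.IsIrrCharacter.isCharacter x.2) (apply_one_degv x)
    (S.valv_spec x).1 fun l hl => ?_) σ
  have := h0 l hl
  rw [single_dotProduct] at this
  have h2 : cvec (fMinus t i a l) x = 0 := by rcases hσ with rfl | rfl <;> omega
  rw [← Char.classInner_conj_symm, cvec_spec (hgen l), h2, Int.cast_zero, map_zero]

end Sec

end Cfsg.Agent.AbelianSylow.Chars
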