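import Cfsg.Agent.EqLemmas
import Cfsg.Agent.Lib.AbelianSylow.Chars.Basic

/-!
# Products of two involutions on the `t`-section (`PROOF.md`, section 2)

* `Sec.pairCount_t`, `Sec.pairCount_U`, `Sec.pairCount_A`, `Sec.pairCount_T`
* `Sec.classInner_U_pairCount`, `Sec.classInner_T_pairCount(_one)`, `Sec.classInner_A_pairCount(_one)`
* `Sec.classInner_theta0_pairCount`, `Sec.classInner_thetaT_pairCount`,
  `Sec.classInner_thetaA_pairCount`, `Sec.classInner_theta_pairCount`
-/

set_option autoImplicit false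
set_option linter.unusedSectionVars false

namespace Cfsg.Agent.AbelianSylow.Chars

open Subgroup ReeInverted
open scoped ComplexConjugate

universe u

variable {G : Type u} [Group G]

theorem pairCount_isClassFunction [Finite G] (t : G) : IsClassFunction G (pairCount t) := by
  intro g h
  have hc : ∀ y : G, IsConj t y ↔ IsConj t (h * y * h⁻¹) := fun y =>
    ⟨fun e => e.trans (isConj_iff.2 ⟨h, rfl⟩),
      fun e => e.trans (isConj_iff.2 ⟨h, rfl⟩ : IsConj y (h * y * h⁻¹)).symm⟩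
  simp only [pairCount, ClassCount.fibreCount]
  refine congrArg Nat.cast (Nat.card_congr (Equiv.subtypeEquiv (MulAut.conj h).toEquiv fun x => ?_)).symm
  show _ ↔ IsConj t (h * x * h⁻¹) ∧ IsConj t ((h * x * h⁻¹)⁻¹ * (h * g * h⁻¹))
  rw [← hc x, show (h * x * h⁻¹)⁻¹ * (h * g * h⁻¹) = h * (x⁻¹ * g) * h⁻¹ by group, ← hc]

theorem conj_pairCount [Finite G] (t g : G) : conj (pairCount t g) = pairCount t g := by
  simp only [pairCount, map_natCast]

namespace Sec

variable {t i r w : G} {K U A T : Subgroup G} {q a M : ℕ} {Q : ℤ}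

/-- Twice the involutions of `K` inverting `z`. -/
theorem fibre_inverted [Finite G] (S : Sec t i r w K U A T q a M Q) {z : G} (hz : z ∈ K) {N : ℕ}
    (hN : Odd N) (hzN : z ^ N = 1) :
    ClassCount.fibreCount t t (t * z) =
      2 * Nat.card {k : K // (k : G) * k = 1 ∧ (k : G) ≠ 1 ∧ (k : G) * z * (k : G)⁻¹ = z⁻¹} := by
  have htz := S.comm_K z hz
  have hct : ∀ k : K, Commute t (k : G) := fun k => S.comm_K k k.2
  let f : Bool × {k : K // (k : G) * k = 1 ∧ (k : G) ≠ 1 ∧ (k : G) * z * (k : G)⁻¹ = z⁻¹} →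
      {g : G // IsConj t g ∧ IsConj t (g⁻¹ * (t * z))} := fun p =>
    ⟨(if p.1 then t else 1) * (p.2.1 : G), by
      obtain ⟨b, ⟨k, hk⟩, hkk, hk1, hkz⟩ := p
      simp only at hkk hk1 hkz ⊢
      have hinv : k⁻¹ = k := inv_eq_of_mul_eq_one_right hkk
      have hkz1 : k * z ≠ 1 := fun e => hk1 (by
        have e1 : z = k := by rw [eq_inv_of_mul_eq_one_right e, hinv]
        have e2 : k ^ N = k := by
          obtain ⟨m, rfl⟩ := hN
          rw [pow_succ, pow_mul, pow_two, hkk, one_pow, one_mul]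
        rw [← e2, ← e1, hzN])
      have hkz2 : k * z * (k * z) = 1 := by
        rw [hinv] at hkz
        calc k * z * (k * z) = k * z * k * z := by group
          _ = 1 := by rw [hkz, inv_mul_cancel]
      have ht1 : ∀ g ∈ K, t * g ≠ 1 := fun g hg e =>
        S.t_not_mem (eq_inv_of_mul_eq_one_left e ▸ inv_mem hg)
      have ht2 : ∀ g ∈ K, g * g = 1 → t * g * (t * g) = 1 := fun g hg e => by
        rw [← pow_two, (S.comm_K g hg).mul_pow, pow_two, pow_two, S.tt, e, one_mul]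
      cases b <;> simp only [Bool.false_eq_true, if_false, if_true, one_mul]
      · refine ⟨S.isConj_iff_sq.2 ⟨hk1, hkk⟩, S.isConj_iff_sq.2 ?_⟩
        have e : k⁻¹ * (t * z) = t * (k * z) := by
          rw [hinv, ← mul_assoc, ← (S.comm_K k hk).eq, mul_assoc]
        rw [e]
        exact ⟨ht1 _ (mul_mem hk hz), ht2 _ (mul_mem hk hz) hkz2⟩
      · refine ⟨S.isConj_iff_sq.2 ⟨ht1 k hk, ht2 k hk hkk⟩, S.isConj_iff_sq.2 ?_⟩
        have e : (t * k)⁻¹ * (t * z) = k * z := by
          rw [mul_inv_rev, hinv, mul_assoc, inv_mul_cancel_left]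
        rw [e]
        exact ⟨hkz1, hkz2⟩⟩
  have hf : Function.Bijective f := by
    constructor
    · rintro ⟨b, k⟩ ⟨b', k'⟩ e
      have e' : (if b then t else 1) * (k.1 : G) = (if b' then t else 1) * (k'.1 : G) :=
        congrArg Subtype.val e
      cases b <;> cases b' <;> simp only [Bool.false_eq_true, if_false, if_true, one_mul] at e'
      · rw [Subtype.ext (Subtype.ext e')]
      · exact absurd (eq_mul_inv_of_mul_eq e'.symm ▸ mul_mem k.1.2 (inv_mem k'.1.2)) S.t_not_mem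
      · exact absurd (eq_mul_inv_of_mul_eq e' ▸ mul_mem k'.1.2 (inv_mem k.1.2)) S.t_not_mem
      · rw [Subtype.ext (Subtype.ext (mul_left_cancel e'))]
    · rintro ⟨g, hg, hg'⟩
      obtain ⟨hg1, hg2⟩ := S.isConj_iff_sq.1 hg
      obtain ⟨hg1', hg2'⟩ := S.isConj_iff_sq.1 hg'
      have hginv : g⁻¹ = g := inv_eq_of_mul_eq_one_right hg2
      have h1 : g * (t * z) * g⁻¹ = (t * z)⁻¹ := by
        rw [hginv] at hg2' ⊢
        refine eq_inv_of_mul_eq_one_left ?_
        simpa [mul_assoc] using hg2'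
      have hpN : (t * z) ^ N = t := by
        obtain ⟨m, rfl⟩ := hN
        rw [htz.mul_pow, hzN, mul_one, pow_succ, pow_mul, pow_two, S.tt, one_pow, one_mul]
      have hpN1 : (t * z) ^ (N + 1) = z := by
        rw [pow_succ, hpN, ← mul_assoc, S.tt, one_mul]
      have h2 : g * t * g⁻¹ = t := by
        have := congrArg (· ^ N) h1
        simpa only [conj_pow, inv_pow, hpN, S.t_inv] using this
      have h3 : g * z * g⁻¹ = z⁻¹ := by
        have := congrArg (· ^ (N + 1)) h1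
        simpa only [conj_pow, inv_pow, hpN1] using this
      have hgt : Commute g t := mul_inv_eq_iff_eq_mul.1 h2
      rcases S.cases g hgt with hk | hk
      · exact ⟨(false, ⟨⟨g, hk⟩, hg2, hg1, h3⟩), Subtype.ext (one_mul g)⟩
      · refine ⟨(true, ⟨⟨t * g, hk⟩, ?_, ?_, ?_⟩),
          Subtype.ext (by simp [f, ← mul_assoc, S.tt])⟩
        · show t * g * (t * g) = 1
          rw [← pow_two, hgt.symm.mul_pow, pow_two, pow_two, S.tt, hg2, one_mul]
        · intro e
          refine hg1' ?_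
          show g⁻¹ * (t * z) = 1
          have e1 : g = t := by rw [eq_inv_of_mul_eq_one_right (e : t * g = 1), S.t_inv]
          subst e1
          have e2 : z⁻¹ = z := by rw [← h3, htz.eq, mul_inv_cancel_right]
          have e3 : z = 1 := by
            obtain ⟨m, rfl⟩ := hN
            have e4 : z * z = 1 := by nth_rw 1 [← e2]; exact inv_mul_cancel z
            rw [pow_succ, pow_mul, pow_two, e4, one_pow, one_mul] at hzN
            exact hzN
          rw [e3, mul_one, inv_mul_cancel]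
        · show t * g * z * (t * g)⁻¹ = z⁻¹
          calc t * g * z * (t * g)⁻¹ = t * (g * z * g⁻¹) * t⁻¹ := by group
            _ = z⁻¹ := by rw [h3, (htz.inv_right).eq, mul_inv_cancel_right]
  rw [ClassCount.fibreCount, ← Nat.card_congr (Equiv.ofBijective f hf), Nat.card_prod,
    Nat.card_eq_fintype_card (α := Bool), Fintype.card_bool]

theorem pairCount_t [Finite G] (S : Sec t i r w K U A T q a M Q) :
    pairCount t t = (Q : ℂ) * (Q - 1) := by
  have h := S.fibre_inverted (one_mem K) odd_one (one_pow 1)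
  rw [mul_one] at h
  have e : Nat.card {k : K // (k : G) * k = 1 ∧ (k : G) ≠ 1 ∧ (k : G) * 1 * (k : G)⁻¹ = 1⁻¹} =
      Nat.card {k : K // orderOf k = 2} := by
    refine Nat.card_congr (Equiv.subtypeEquivRight fun k => ?_)
    rw [← orderOf_coe k, orderOf_eq_prime_iff, pow_two]
    simp [and_comm]
  rw [pairCount, h, e]
  have h2 := congrArg (Int.cast : ℤ → ℂ) S.invol_K
  push_cast at h2 ⊢
  exact h2

theorem pairCount_U [Finite G] (S : Sec t i r w K U A T q a M Q) {x : G} (hx : x ∈ U) (hx1 : x ≠ 1) :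
    pairCount t (t * x) = (q : ℂ) - Q := by
  have h := S.fibre_inverted (S.U_le hx) S.odd_q (S.U_pow hx)
  have e : Nat.card {k : K // (k : G) * k = 1 ∧ (k : G) ≠ 1 ∧ (k : G) * x * (k : G)⁻¹ = x⁻¹} =
      Nat.card {k : K // k * k = 1 ∧ (k : G) * x * (k : G)⁻¹ = x⁻¹} := by
    refine Nat.card_congr (Equiv.subtypeEquivRight fun k => ?_)
    refine ⟨fun ⟨h1, _, h3⟩ => ⟨Subtype.ext h1, h3⟩, fun ⟨h1, h3⟩ => ⟨congrArg Subtype.val h1, ?_, h3⟩⟩
    intro e
    rw [e, one_mul, inv_one, mul_one] at h3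
    obtain ⟨m, hm⟩ := S.odd_q
    have h4 := S.U_pow hx
    have e4 : x * x = 1 := by nth_rw 1 [h3]; exact inv_mul_cancel x
    rw [hm, pow_succ, pow_mul, pow_two, e4, one_pow, one_mul] at h4
    exact hx1 h4
  rw [pairCount, h, e]
  have h2 := congrArg (Int.cast : ℤ → ℂ) (S.U_inv x hx hx1)
  push_cast at h2 ⊢
  linear_combination h2

/-- Elements of `A ∪ i A` centralise `A`. -/
theorem i_not_A (S : Sec t i r w K U A T q a M Q) : i ∉ A := fun h => by
  have e := S.A_pow h
  obtain ⟨m, hm⟩ := S.odd_a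
  rw [hm, pow_succ, pow_mul, pow_two, S.i_sq, one_pow, one_mul] at e
  exact S.i_ne_one e

theorem pairCount_A [Finite G] (S : Sec t i r w K U A T q a M Q) {x : G} (hx : x ∈ A) (hx1 : x ≠ 1) :
    pairCount t (t * x) = 4 * (a : ℂ) := by
  have hrinv : r⁻¹ = r := inv_eq_of_mul_eq_one_right S.r_sq
  let c : Bool × A → G := fun p => (if p.1 then i else 1) * (p.2 : G)
  have hc : ∀ p, c p ∈ K ∧ Commute (c p) x ∧ r * c p * r⁻¹ = (c p)⁻¹ := by
    rintro ⟨b, y⟩
    have hyx : Commute (y : G) x := S.A_comm y y.2 x hx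
    cases b <;> simp only [c, Bool.false_eq_true, if_false, if_true, one_mul]
    · exact ⟨S.A_le y.2, hyx, S.r_inv y y.2⟩
    · refine ⟨mul_mem S.i_mem (S.A_le y.2), (S.comm_iA x hx).mul_left hyx, ?_⟩
      calc r * (i * (y : G)) * r⁻¹ = r * i * r⁻¹ * (r * y * r⁻¹) := by group
        _ = i * (y : G)⁻¹ := by rw [S.r_i.eq, mul_inv_cancel_right, S.r_inv y y.2]
        _ = (i * (y : G))⁻¹ := by
            rw [mul_inv_rev, inv_eq_of_mul_eq_one_right S.i_sq,
              (((S.comm_iA y y.2).inv_right).eq)]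
  let f : Bool × A → {k : K // (k : G) * k = 1 ∧ (k : G) ≠ 1 ∧ (k : G) * x * (k : G)⁻¹ = x⁻¹} := fun p =>
    ⟨⟨r * c p, mul_mem S.r_mem (hc p).1⟩, by
      obtain ⟨-, h2, h3⟩ := hc p
      have hrx : r * c p * x * (r * c p)⁻¹ = x⁻¹ := by
        calc r * c p * x * (r * c p)⁻¹ = r * (c p * x * (c p)⁻¹) * r⁻¹ := by group
          _ = x⁻¹ := by rw [h2.eq, mul_inv_cancel_right, S.r_inv x hx]
      refine ⟨?_, ?_, hrx⟩
      · show r * c p * (r * c p) = 1
        calc r * c p * (r * c p) = r * c p * r * c p := by group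
          _ = 1 := by rw [hrinv] at h3; rw [h3, inv_mul_cancel]
      · intro e
        have e' : r * c p = 1 := e
        rw [e', one_mul, inv_one, mul_one] at hrx
        obtain ⟨m, hm⟩ := S.odd_a
        have h4 := S.A_pow hx
        have e4 : x * x = 1 := by nth_rw 1 [hrx]; exact inv_mul_cancel x
        rw [hm, pow_succ, pow_mul, pow_two, e4, one_pow, one_mul] at h4
        exact hx1 h4⟩
  have hf : Function.Bijective f := by
    constructor
    · rintro ⟨b, y⟩ ⟨b', y'⟩ e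
      have e' : (if b then i else 1) * (y : G) = (if b' then i else 1) * (y' : G) :=
        mul_left_cancel (congrArg (fun k => ((k.1 : K) : G)) e :)
      cases b <;> cases b' <;> simp only [Bool.false_eq_true, if_false, if_true, one_mul] at e'
      · rw [Subtype.ext e']
      · exact absurd (eq_mul_inv_of_mul_eq e'.symm ▸ mul_mem y.2 (inv_mem y'.2)) S.i_not_A
      · exact absurd (eq_mul_inv_of_mul_eq e' ▸ mul_mem y'.2 (inv_mem y.2)) S.i_not_A
      · rw [Subtype.ext (mul_left_cancel e')]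
    · rintro ⟨⟨k, hk⟩, hkk, hk1, hkx⟩
      simp only at hkk hk1 hkx
      have hrk : Commute (r * k) x := mul_inv_eq_iff_eq_mul.1 (by
        calc r * k * x * (r * k)⁻¹ = r * (k * x * k⁻¹) * r⁻¹ := by group
          _ = x := by rw [hkx, ← conj_inv, S.r_inv x hx, inv_inv])
      rcases S.A_cent x hx hx1 _ (mul_mem S.r_mem hk) hrk with h | h
      · refine ⟨⟨false, ⟨r * k, h⟩⟩, Subtype.ext (Subtype.ext ?_)⟩
        simp [f, c, ← mul_assoc, S.r_sq]
      · refine ⟨⟨true, ⟨i * (r * k), h⟩⟩, Subtype.ext (Subtype.ext ?_)⟩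
        show r * (i * (i * (r * k))) = k
        rw [← mul_assoc i i, S.i_sq, one_mul, ← mul_assoc, S.r_sq, one_mul]
  rw [pairCount, S.fibre_inverted (S.A_le hx) S.odd_a (S.A_pow hx),
    ← Nat.card_congr (Equiv.ofBijective f hf), Nat.card_prod, Nat.card_eq_fintype_card (α := Bool),
    Fintype.card_bool, S.card_A]
  push_cast
  ring

theorem pairCount_T [Finite G] (S : Sec t i r w K U A T q a M Q) {x : G} (hx : x ∈ T) (hx1 : x ≠ 1) :
    pairCount t (t * x) = 2 * (M : ℂ) := by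
  obtain ⟨k₀, hk₀, hk₀2, hk₀T, hinv⟩ := S.T_inv
  have hkinv : k₀⁻¹ = k₀ := inv_eq_of_mul_eq_one_right hk₀2
  let f : T → {k : K // (k : G) * k = 1 ∧ (k : G) ≠ 1 ∧ (k : G) * x * (k : G)⁻¹ = x⁻¹} := fun y =>
    ⟨⟨k₀ * (y : G), mul_mem hk₀ (S.T_le y.2)⟩, by
      refine ⟨?_, ?_, ?_⟩
      · show k₀ * (y : G) * (k₀ * y) = 1
        have h3 := hinv y y.2
        rw [hkinv] at h3
        calc k₀ * (y : G) * (k₀ * y) = k₀ * y * k₀ * y := by group
          _ = 1 := by rw [h3, inv_mul_cancel]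
      · intro e
        exact hk₀T (eq_inv_of_mul_eq_one_left e ▸ inv_mem y.2)
      · show k₀ * (y : G) * x * (k₀ * y)⁻¹ = x⁻¹
        calc k₀ * (y : G) * x * (k₀ * y)⁻¹ = k₀ * ((y : G) * x * (y : G)⁻¹) * k₀⁻¹ := by group
          _ = x⁻¹ := by rw [S.T_comm y y.2 x hx, mul_inv_cancel_right, hinv x hx]⟩
  have hf : Function.Bijective f := by
    refine ⟨fun y y' e => Subtype.ext (mul_left_cancel (congrArg (fun k => ((k.1 : K) : G)) e :)), ?_⟩
    rintro ⟨⟨k, hk⟩, hkk, hk1, hkx⟩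
    simp only at hkk hk1 hkx
    have hc : Commute (k₀ * k) x := mul_inv_eq_iff_eq_mul.1 (by
      calc k₀ * k * x * (k₀ * k)⁻¹ = k₀ * (k * x * k⁻¹) * k₀⁻¹ := by group
        _ = x := by rw [hkx, ← conj_inv, hinv x hx, inv_inv])
    refine ⟨⟨k₀ * k, S.T_cent x hx hx1 _ (mul_mem hk₀ hk) hc⟩, Subtype.ext (Subtype.ext ?_)⟩
    show k₀ * (k₀ * k) = k
    rw [← mul_assoc, hk₀2, one_mul]
  rw [pairCount, S.fibre_inverted (S.T_le hx) S.odd_M (S.T_pow hx),
    ← Nat.card_congr (Equiv.ofBijective f hf), S.card_T]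
  push_cast
  ring

variable [Fintype G]

/-- The product with a function constant on `t B#`. -/
theorem classInner_twInd_pairCount (S : Sec t i r w K U A T q a M Q) (B : Subgroup G) (φ : B →* ℂ)
    (c : ℂ) (hc : ∀ x ∈ B, x ≠ 1 → pairCount t (t * x) = c) [Fintype B] :
    classInner (twInd t B φ) (pairCount t) =
      (Nat.card B : ℂ)⁻¹ * (((Q : ℂ) * (Q - 1) - c) + c * ∑ x : B, φ x) := by
  classical
  rw [twInd_inner S.tt B _ (pairCount_isClassFunction t)]
  congr 1
  have e : ∀ x : B, φ x * conj (pairCount t (t * x)) =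
      c * φ x + if x = 1 then (Q : ℂ) * (Q - 1) - c else 0 := by
    intro x
    rw [conj_pairCount]
    by_cases h : x = 1
    · subst h
      rw [if_pos rfl, OneMemClass.coe_one, mul_one, S.pairCount_t, map_one]
      ring
    · rw [if_neg h, hc x x.2 (fun e => h (Subtype.ext e)), add_zero, mul_comm]
  rw [Finset.sum_congr rfl fun x _ => e x, Finset.sum_add_distrib, ← Finset.mul_sum,
    Finset.sum_ite_eq', if_pos (Finset.mem_univ _), add_comm]

theorem lin_ne {H : Subgroup G} {l : ↥H →* ℂˣ} (hl : l ≠ 1) : ∃ x, lin l x ≠ 1 := by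
  by_contra h
  push Not at h
  exact hl (MonoidHom.ext fun x => Units.ext (h x))

theorem classInner_U_pairCount (S : Sec t i r w K U A T q a M Q) {l : ↥U →* ℂˣ} (hl : l ≠ 1) :
    classInner (twInd t U (lin l)) (pairCount t) = (q : ℂ) - 1 := by
  classical
  have := Fintype.ofFinite U
  obtain ⟨x, hx⟩ := lin_ne hl
  rw [S.classInner_twInd_pairCount U (lin l) ((q : ℂ) - Q) (fun x hx h1 => S.pairCount_U hx h1),
    sum_lin_eq_zero _ hx, S.card_U]
  have hq : (q : ℂ) ≠ 0 := Nat.cast_ne_zero.2 (by have := S.le; omega)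
  have h2 := congrArg (Int.cast : ℤ → ℂ) S.Q_sq
  push_cast at h2
  field_simp
  linear_combination h2

theorem classInner_T_pairCount (S : Sec t i r w K U A T q a M Q) {l : ↥T →* ℂˣ} (hl : l ≠ 1) :
    classInner (twInd t T (lin l)) (pairCount t) = 2 * (q : ℂ) - 2 := by
  classical
  have := Fintype.ofFinite T
  obtain ⟨x, hx⟩ := lin_ne hl
  rw [S.classInner_twInd_pairCount T (lin l) (2 * (M : ℂ)) (fun x hx h1 => S.pairCount_T hx h1),
    sum_lin_eq_zero _ hx, S.card_T]
  have hM : (M : ℂ) ≠ 0 := Nat.cast_ne_zero.2 (by have := S.three_le_M; omega)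
  have hq : (q : ℂ) ≠ 0 := Nat.cast_ne_zero.2 (by have := S.le; omega)
  have h2 := congrArg (Int.cast : ℤ → ℂ) S.Q_sq
  have h3 := congrArg (Int.cast : ℤ → ℂ) S.two_M_mul
  push_cast at h2 h3
  field_simp
  refine mul_left_cancel₀ hq ?_
  linear_combination (-(Q : ℂ)) * h3 + (2 * M : ℂ) * h2

theorem classInner_T_pairCount_one (S : Sec t i r w K U A T q a M Q) :
    classInner (twInd t T (fun _ => 1)) (pairCount t) = 2 * (q : ℂ) + 2 * M - 2 := by
  classical
  have := Fintype.ofFinite T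
  rw [show (fun _ => (1 : ℂ) : ↥T → ℂ) = ⇑(1 : ↥T →* ℂ) from rfl,
    S.classInner_twInd_pairCount T 1 (2 * (M : ℂ)) (fun x hx h1 => S.pairCount_T hx h1)]
  simp only [MonoidHom.one_apply, Finset.sum_const, Finset.card_univ, nsmul_eq_mul, mul_one,
    ← Nat.card_eq_fintype_card, S.card_T]
  have hM : (M : ℂ) ≠ 0 := Nat.cast_ne_zero.2 (by have := S.three_le_M; omega)
  have hq : (q : ℂ) ≠ 0 := Nat.cast_ne_zero.2 (by have := S.le; omega)
  have h2 := congrArg (Int.cast : ℤ → ℂ) S.Q_sq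
  have h3 := congrArg (Int.cast : ℤ → ℂ) S.two_M_mul
  push_cast at h2 h3
  field_simp
  refine mul_left_cancel₀ hq ?_
  linear_combination (-(Q : ℂ)) * h3 + (2 * M : ℂ) * h2

theorem cast_Q_add_one_ne (S : Sec t i r w K U A T q a M Q) : (Q : ℂ) + 1 ≠ 0 := by
  have := S.abs_Q; have := S.le
  have h : (Q + 1 : ℤ) ≠ 0 := by omega
  exact_mod_cast h

theorem classInner_A_pairCount (S : Sec t i r w K U A T q a M Q) {l : ↥A →* ℂˣ} (hl : l ≠ 1) :
    classInner (twInd t A (lin l)) (pairCount t) = 4 * (q : ℂ) * (Q - 1) / (Q + 1) - 4 := by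
  classical
  have := Fintype.ofFinite A
  obtain ⟨x, hx⟩ := lin_ne hl
  rw [S.classInner_twInd_pairCount A (lin l) (4 * (a : ℂ)) (fun x hx h1 => S.pairCount_A hx h1),
    sum_lin_eq_zero _ hx, S.card_A]
  have ha : (a : ℂ) ≠ 0 := Nat.cast_ne_zero.2 (by have := S.three_le_a; omega)
  have h1 := S.cast_Q_add_one_ne
  have hQ : (Q : ℂ) ≠ 0 := by
    have := S.abs_Q; have := S.le
    exact_mod_cast (show Q ≠ 0 by omega)
  have h2 := congrArg (Int.cast : ℤ → ℂ) S.Q_sq
  have h3 := congrArg (Int.cast : ℤ → ℂ) S.four_a_mul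
  push_cast at h2 h3
  field_simp
  refine mul_left_cancel₀ hQ ?_
  linear_combination -(q : ℂ) * (Q - 1) * h3 + ((Q : ℂ) ^ 2 - 1) * h2

theorem classInner_A_pairCount_one (S : Sec t i r w K U A T q a M Q) :
    classInner (twInd t A (fun _ => 1)) (pairCount t) =
      4 * (q : ℂ) * (Q - 1) / (Q + 1) + 4 * a - 4 := by
  classical
  have := Fintype.ofFinite A
  rw [show (fun _ => (1 : ℂ) : ↥A → ℂ) = ⇑(1 : ↥A →* ℂ) from rfl,
    S.classInner_twInd_pairCount A 1 (4 * (a : ℂ)) (fun x hx h1 => S.pairCount_A hx h1)]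
  simp only [MonoidHom.one_apply, Finset.sum_const, Finset.card_univ, nsmul_eq_mul, mul_one,
    ← Nat.card_eq_fintype_card, S.card_A]
  have ha : (a : ℂ) ≠ 0 := Nat.cast_ne_zero.2 (by have := S.three_le_a; omega)
  have h1 := S.cast_Q_add_one_ne
  have hQ : (Q : ℂ) ≠ 0 := by
    have := S.abs_Q; have := S.le
    exact_mod_cast (show Q ≠ 0 by omega)
  have h2 := congrArg (Int.cast : ℤ → ℂ) S.Q_sq
  have h3 := congrArg (Int.cast : ℤ → ℂ) S.four_a_mul
  push_cast at h2 h3
  field_simp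
  refine mul_left_cancel₀ hQ ?_
  linear_combination -(q : ℂ) * (Q - 1) * h3 + ((Q : ℂ) ^ 2 - 1) * h2

variable {ψ : Fin 2 → (↥U →* ℂˣ)}

theorem classInner_sumU_pairCount (S : Sec t i r w K U A T q a M Q) (hψ : ∀ j, ψ j ≠ 1) :
    classInner (sumU t ψ) (pairCount t) = 2 * ((q : ℂ) - 1) := by
  rw [sumU, Char.classInner_add_left, S.classInner_U_pairCount (hψ 0), S.classInner_U_pairCount (hψ 1)]
  ring

theorem classInner_theta0_pairCount (S : Sec t i r w K U A T q a M Q) (hψ : ∀ j, ψ j ≠ 1) :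
    classInner (theta0 t ψ T) (pairCount t) = 2 * (M : ℂ) := by
  rw [theta0, Char.classInner_sub_left, S.classInner_sumU_pairCount hψ, S.classInner_T_pairCount_one]
  ring

theorem classInner_thetaT_pairCount (S : Sec t i r w K U A T q a M Q) (hψ : ∀ j, ψ j ≠ 1)
    {l : ↥T →* ℂˣ} (hl : l ≠ 1) : classInner (thetaT t ψ l) (pairCount t) = 0 := by
  rw [thetaT, Char.classInner_sub_left, S.classInner_sumU_pairCount hψ, S.classInner_T_pairCount hl]
  ring

theorem classInner_thetaA_pairCount (S : Sec t i r w K U A T q a M Q) (hψ : ∀ j, ψ j ≠ 1)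
    {l : ↥A →* ℂˣ} (hl : l ≠ 1) :
    classInner (thetaA t ψ l) (pairCount t) = 8 * (q : ℂ) / (Q + 1) := by
  rw [thetaA, Char.classInner_sub_left, Char.classInner_smul_left, S.classInner_sumU_pairCount hψ,
    S.classInner_A_pairCount hl]
  have h1 := S.cast_Q_add_one_ne
  field_simp
  ring

theorem classInner_theta_pairCount (S : Sec t i r w K U A T q a M Q) (hψ : ∀ j, ψ j ≠ 1) (j : Fin 2) :
    classInner (theta t ψ T A j) (pairCount t) =
      (Q : ℂ) * (3 * Q - 1) / ((q : ℂ) * (Q + 1)) := by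
  rw [theta, Char.classInner_add_left, Char.classInner_smul_left, Char.classInner_sub_left,
    S.classInner_U_pairCount (hψ j), S.classInner_T_pairCount_one, S.classInner_A_pairCount_one]
  have h1 := S.cast_Q_add_one_ne
  have hq : (q : ℂ) ≠ 0 := Nat.cast_ne_zero.2 (by have := S.le; omega)
  have hQ : (Q : ℂ) ≠ 0 := by
    have := S.abs_Q; have := S.le
    exact_mod_cast (show Q ≠ 0 by omega)
  have h2 := congrArg (Int.cast : ℤ → ℂ) S.Q_sq
  have h3 := congrArg (Int.cast : ℤ → ℂ) S.four_a_mul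
  have h4 := congrArg (Int.cast : ℤ → ℂ) S.two_M_mul
  push_cast at h2 h3 h4
  field_simp
  refine mul_left_cancel₀ hQ ?_
  linear_combination ((q : ℂ) * (Q + 1)) * h4 - ((q : ℂ) * (Q + 1)) * h3 + (2 - 6 * (Q : ℂ)) * h2

end Sec

end Cfsg.Agent.AbelianSylow.Chars
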