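import Cfsg.Agent.Lib.AbelianSylow.Chars.Basic
import Cfsg.Agent.Lib.Coprime.Basic

/-!
# The values on the `t`-section (owner: helper55; `PROOF.md`, section 1)

* `Sec.twT_t`, `Sec.twA_t`, `Sec.twU_t`, `Sec.twT_T`, `Sec.twA_A`, `Sec.twU_U`, `Sec.tw_other_*`
* `Sec.sumU_*`, `Sec.theta0_*`, `Sec.theta_*`, `Sec.thetaT_*`, `Sec.thetaA_*` : the table
* `Sec.twInd_odd` : vanishing at elements of odd order
-/

set_option autoImplicit false
set_option linter.unusedSectionVars false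

namespace Cfsg.Agent.AbelianSylow.Chars

open Subgroup ReeInverted
open scoped ComplexConjugate

universe u

variable {G : Type u} [Group G]

/-- `N_K(U)`. -/
def normK (K U : Subgroup G) : Subgroup G := K ⊓ normalizer (U : Set G)

theorem normK_le {K U : Subgroup G} : normK K U ≤ normalizer (U : Set G) := inf_le_right

theorem conj_mem_U {K U : Subgroup G} (k : normK K U) {x : G} (hx : x ∈ U) : (k : G)⁻¹ * x * k ∈ U := by
  simpa using (mem_normalizer_iff.1 (inv_mem k.2.2) x).1 hx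

/-- Conjugation of `U` by an element of `N_K(U)`. -/
def conjU {K U : Subgroup G} (k : normK K U) : ↥U →* ↥U where
  toFun x := ⟨(k : G)⁻¹ * x * k, conj_mem_U k x.2⟩
  map_one' := Subtype.ext (by simp)
  map_mul' x y := Subtype.ext (by simp [mul_assoc])

/-- Twist of a character of `U` by an element of `N_K(U)`. -/
noncomputable def twK {K U : Subgroup G} (k : normK K U) (ψ : ↥U →* ℂˣ) : ↥U →* ℂˣ :=
  ψ.comp (conjU k)

theorem twK_apply {K U : Subgroup G} (k : normK K U) (ψ : ↥U →* ℂˣ) (x : U) :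
    twK k ψ x = ψ (conjU k x) := rfl

theorem lin_apply {H : Subgroup G} (l : ↥H →* ℂˣ) (x : H) : lin l x = ((l x : ℂˣ) : ℂ) := rfl

theorem lin_one {H : Subgroup G} : (lin (1 : ↥H →* ℂˣ) : H → ℂ) = fun _ => 1 := by
  funext x; simp [lin_apply]

theorem one_ne {H : Subgroup G} {l : ↥H →* ℂˣ} (hl : l ≠ 1) : ∃ x, lin l x ≠ 1 := by
  by_contra! hc
  exact hl (MonoidHom.ext fun x => Units.ext (by simpa [lin_apply] using hc x))

theorem conj_lin_apply {H : Subgroup G} [Finite G] (l : ↥H →* ℂˣ) (x : H) :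
    conj (lin l x) = lin l⁻¹ x := by
  rw [ReeInverted.conj_lin (lin l) x, lin_apply, lin_apply, MonoidHom.inv_apply, map_inv]

open Classical in
/-- Orthogonality of linear characters. -/
theorem sum_lin_mul {H : Subgroup G} [Finite G] [Fintype H] (l m : ↥H →* ℂˣ) :
    ∑ x : H, lin l x * lin m x = if l = m⁻¹ then (Nat.card H : ℂ) else 0 := by
  have e : ∀ x : H, lin l x * lin m x = lin (l * m) x := fun x => by
    simp [lin_apply, MonoidHom.mul_apply]
  rw [Finset.sum_congr rfl fun x _ => e x]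
  split_ifs with h
  · rw [h, show m⁻¹ * m = 1 from MonoidHom.ext fun x => inv_mul_cancel (m x), lin_one, Finset.sum_const, Finset.card_univ, nsmul_eq_mul, mul_one,
      Nat.card_eq_fintype_card]
  · obtain ⟨x, hx⟩ := one_ne (l := l * m) fun e1 => h
      (MonoidHom.ext fun x => eq_inv_of_mul_eq_one_left (congrArg (fun f : ↥H →* ℂˣ => f x) e1))
    exact sum_lin_eq_zero _ hx

open Classical in
theorem sum_lin {H : Subgroup G} [Fintype H] (l : ↥H →* ℂˣ) :
    ∑ x : H, lin l x = if l = 1 then (Nat.card H : ℂ) else 0 := by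
  split_ifs with h
  · rw [h, lin_one, Finset.sum_const, Finset.card_univ, nsmul_eq_mul, mul_one, Nat.card_eq_fintype_card]
  · obtain ⟨x, hx⟩ := one_ne h
    exact sum_lin_eq_zero _ hx

variable {t i r w : G} {K U A T : Subgroup G} {q a M : ℕ} {Q : ℤ}

namespace Sec

variable (S : Sec t i r w K U A T q a M Q)
include S

/-- The sign. -/
theorem exists_sign : ∃ s : ℤ, (s = 1 ∨ s = -1) ∧ Q = s * q ∧ Q - 1 = 2 * M * s ∧ Q + 1 = 4 * a * s := by
  have h1 := S.abs_Q
  have h2 := S.four_a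
  have h3 := S.two_M
  have h4 := S.le
  rcases Int.natAbs_eq Q with e | e
  · exact ⟨1, Or.inl rfl, by omega, by omega, by omega⟩
  · exact ⟨-1, Or.inr rfl, by omega, by omega, by omega⟩

theorem odd_exp : Odd (q * a * M) := (S.odd_q.mul S.odd_a).mul S.odd_M

theorem a_pos : 0 < a := S.odd_a.pos

theorem M_pos : 0 < M := S.odd_M.pos

theorem q_pos : 0 < q := S.odd_q.pos

theorem q_sq_T : (q : ℂ) * ((q : ℂ) ^ 2 - 1) = 2 * M * ((q : ℂ) ^ 2 + Q) := by
  obtain ⟨s, hs, h1, h2, -⟩ := S.exists_sign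
  have h1' : (Q : ℂ) = s * q := by exact_mod_cast h1
  have h2' : (Q : ℂ) - 1 = 2 * M * s := by exact_mod_cast h2
  rcases hs with rfl | rfl <;> push_cast at h1' h2'
  · linear_combination ((q : ℂ) ^ 2 + q) * h2' - ((q : ℂ) ^ 2 + q + 2 * M) * h1'
  · linear_combination (-(q : ℂ) ^ 2 + q) * h2' - (-(q : ℂ) ^ 2 + q + 2 * M) * h1'

theorem q_sq_A : (q : ℂ) * ((q : ℂ) ^ 2 - 1) = 4 * a * ((q : ℂ) ^ 2 - Q) := by
  obtain ⟨s, hs, h1, -, h3⟩ := S.exists_sign
  have h1' : (Q : ℂ) = s * q := by exact_mod_cast h1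
  have h3' : (Q : ℂ) + 1 = 4 * a * s := by exact_mod_cast h3
  rcases hs with rfl | rfl <;> push_cast at h1' h3'
  · linear_combination ((q : ℂ) ^ 2 - q) * h3' - ((q : ℂ) ^ 2 - q - 4 * a) * h1'
  · linear_combination (-(q : ℂ) ^ 2 - q) * h3' - (-(q : ℂ) ^ 2 - q - 4 * a) * h1'

theorem coprime_qM : Nat.Coprime q M := by
  obtain ⟨s, hs, h1, h2, -⟩ := S.exists_sign
  refine Nat.isCoprime_iff_coprime.1 ⟨s, -(2 * s), ?_⟩
  linear_combination h2 - h1

theorem coprime_qa : Nat.Coprime q a := by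
  obtain ⟨s, hs, h1, -, h3⟩ := S.exists_sign
  refine Nat.isCoprime_iff_coprime.1 ⟨-s, 4 * s, ?_⟩
  linear_combination h1 - h3

theorem coprime_Ma : Nat.Coprime M a := by
  obtain ⟨s, hs, -, h2, h3⟩ := S.exists_sign
  refine Nat.isCoprime_iff_coprime.1 ⟨-s, 2 * s, ?_⟩
  linarith

theorem comm_t {B : Subgroup G} (hB : B ≤ K) : ∀ b ∈ B, Commute t b := fun _ hb => S.comm_K _ (hB hb)

theorem t_not {B : Subgroup G} (hB : B ≤ K) : t ∉ B := fun h => S.t_not_mem (hB h)

theorem exp_U [Finite G] {x : G} (hx : x ∈ U) : x ^ (q * a * M) = 1 := by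
  rw [mul_assoc, pow_mul, show x ^ q = 1 from ?_, one_pow]
  exact congrArg Subtype.val (S.card_U ▸ pow_card_eq_one' (x := (⟨x, hx⟩ : U)) :)

theorem exp_A [Finite G] {x : G} (hx : x ∈ A) : x ^ (q * a * M) = 1 := by
  rw [show q * a * M = a * (q * M) by ring, pow_mul, show x ^ a = 1 from ?_, one_pow]
  exact congrArg Subtype.val (S.card_A ▸ pow_card_eq_one' (x := (⟨x, hx⟩ : A)) :)

theorem exp_T [Finite G] {x : G} (hx : x ∈ T) : x ^ (q * a * M) = 1 := by
  rw [show q * a * M = M * (q * a) by ring, pow_mul, show x ^ M = 1 from ?_, one_pow]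
  exact congrArg Subtype.val (S.card_T ▸ pow_card_eq_one' (x := (⟨x, hx⟩ : T)) :)

/-- Vanishing at the elements of odd order. -/
theorem twInd_odd [Fintype G] {B : Subgroup G} (hB : B ≤ K) (hexp : ∀ b ∈ B, b ^ (q * a * M) = 1)
    (φ : B → ℂ) {g : G} (hg : Odd (orderOf g)) : twInd t B φ g = 0 :=
  twInd_eq_zero S.tt S.t_ne_one (S.comm_t hB) φ (S.odd_exp.mul hg)
    (fun b hb => by rw [pow_mul, hexp b hb, one_pow])
    (by rw [mul_comm, pow_mul, pow_orderOf_eq_one, one_pow])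

/-- The value at `t z`. -/
theorem apply_sec [Fintype G] [Fintype K] {B : Subgroup G} (hB : B ≤ K)
    (hexp : ∀ b ∈ B, b ^ (q * a * M) = 1) (φ : B → ℂ) {z : G} (hz : z ∈ K)
    (hzN : z ^ (q * a * M) = 1) :
    twInd t B φ (t * z) =
      2 * (Nat.card B : ℂ)⁻¹ * ∑ k : K, extendByZero B φ ((k : G)⁻¹ * z * k) := by
  classical
  letI : Fintype (centralizer ({t} : Set G)) := Fintype.ofFinite _
  rw [twInd_apply S.tt (S.comm_t hB) φ S.odd_exp hexp (S.comm_K z hz) hzN,
    ← S.centEquiv.sum_comp, Fintype.sum_prod_type, Fintype.sum_bool]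
  have h1 : ∀ k : K, (t * (k : G))⁻¹ * z * (t * k) = (k : G)⁻¹ * z * k := fun k => by
    rw [mul_inv_rev, show (k : G)⁻¹ * t⁻¹ * z * (t * k) = (k : G)⁻¹ * (t⁻¹ * (z * t)) * k by group,
      (S.comm_K z hz).symm.eq, inv_mul_cancel_left]
  simp only [S.centEquiv_apply, Bool.false_eq_true, if_false, if_true, one_mul, h1]
  ring

/-- The value at `t`. -/
theorem apply_t [Fintype G] {B : Subgroup G} (hB : B ≤ K) (hexp : ∀ b ∈ B, b ^ (q * a * M) = 1)
    (φ : B → ℂ) : (Nat.card B : ℂ) * twInd t B φ t = (q : ℂ) * ((q : ℂ) ^ 2 - 1) * φ 1 := by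
  classical
  letI : Fintype K := Fintype.ofFinite K
  have h1 : (2 : ℂ) * (Nat.card K : ℂ) = (q : ℂ) * ((q : ℂ) ^ 2 - 1) := by
    rw [show (2 : ℂ) * (Nat.card K : ℂ) = ((2 * Nat.card K : ℕ) : ℂ) by push_cast; ring, S.card_K,
      Nat.cast_mul, Nat.cast_sub (Nat.one_le_pow _ _ S.q_pos)]
    push_cast; ring
  rw [← h1]
  nth_rw 2 [← mul_one t]
  rw [S.apply_sec hB hexp φ (one_mem K) (one_pow _)]
  simp only [mul_one, inv_mul_cancel, Char.extendByZero_mem B φ (one_mem B), Finset.sum_const,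
    Finset.card_univ, nsmul_eq_mul]
  rw [← Nat.card_eq_fintype_card]
  have hc : (Nat.card B : ℂ) ≠ 0 := Nat.cast_ne_zero.2 Nat.card_pos.ne'
  show _ = 2 * (Nat.card K : ℂ) * φ ⟨1, one_mem B⟩
  field_simp

theorem twT_t [Fintype G] (φ : T → ℂ) : twInd t T φ t = 2 * ((q : ℂ) ^ 2 + Q) * φ 1 := by
  have h := S.apply_t S.T_le (fun b hb => S.exp_T hb) φ
  rw [S.card_T, S.q_sq_T] at h
  exact mul_left_cancel₀ (Nat.cast_ne_zero.2 S.M_pos.ne') (h.trans (by ring))

theorem twA_t [Fintype G] (φ : A → ℂ) : twInd t A φ t = 4 * ((q : ℂ) ^ 2 - Q) * φ 1 := by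
  have h := S.apply_t S.A_le (fun b hb => S.exp_A hb) φ
  rw [S.card_A, S.q_sq_A] at h
  exact mul_left_cancel₀ (Nat.cast_ne_zero.2 S.a_pos.ne') (h.trans (by ring))

theorem twU_t [Fintype G] (φ : U → ℂ) : twInd t U φ t = ((q : ℂ) ^ 2 - 1) * φ 1 := by
  have h := S.apply_t S.U_le (fun b hb => S.exp_U hb) φ
  rw [S.card_U] at h
  exact mul_left_cancel₀ (Nat.cast_ne_zero.2 S.q_pos.ne') (h.trans (by ring))

/-- A conjugate in `K` of an element of a subgroup of order prime to that of `B` is not in `B#`. -/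
theorem conj_eq_one [Finite G] {B B' : Subgroup G} (hcop : Nat.Coprime (Nat.card B) (Nat.card B'))
    {z k : G} (hz : z ∈ B') (hm : k⁻¹ * z * k ∈ B) : z = 1 := by
  have h1 := Subgroup.orderOf_dvd_natCard B hm
  have e : k⁻¹ * z * k = MulAut.conj k⁻¹ z := by simp
  rw [e, MulEquiv.orderOf_eq] at h1
  exact orderOf_eq_one_iff.1 (Nat.eq_one_of_dvd_coprimes hcop h1 (Subgroup.orderOf_dvd_natCard B' hz))

theorem tw_other [Fintype G] {B B' : Subgroup G} (hB : B ≤ K)
    (hexp : ∀ b ∈ B, b ^ (q * a * M) = 1) (hB' : B' ≤ K) (hexp' : ∀ b ∈ B', b ^ (q * a * M) = 1)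
    (hcop : Nat.Coprime (Nat.card B) (Nat.card B')) (φ : B → ℂ) {z : G} (hz : z ∈ B') (hz1 : z ≠ 1) :
    twInd t B φ (t * z) = 0 := by
  classical
  letI : Fintype K := Fintype.ofFinite K
  rw [S.apply_sec hB hexp φ (hB' hz) (hexp' z hz), Finset.sum_eq_zero fun k _ => ?_, mul_zero]
  exact Char.extendByZero_not_mem B φ fun hm => hz1 (S.conj_eq_one hcop hz hm)

theorem twU_T [Fintype G] (φ : U → ℂ) {z : G} (hz : z ∈ T) (hz1 : z ≠ 1) : twInd t U φ (t * z) = 0 :=
  S.tw_other S.U_le (fun _ h => S.exp_U h) S.T_le (fun _ h => S.exp_T h)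
    (by rw [S.card_U, S.card_T]; exact S.coprime_qM) φ hz hz1

theorem twU_A [Fintype G] (φ : U → ℂ) {z : G} (hz : z ∈ A) (hz1 : z ≠ 1) : twInd t U φ (t * z) = 0 :=
  S.tw_other S.U_le (fun _ h => S.exp_U h) S.A_le (fun _ h => S.exp_A h)
    (by rw [S.card_U, S.card_A]; exact S.coprime_qa) φ hz hz1

theorem twT_U [Fintype G] (φ : T → ℂ) {z : G} (hz : z ∈ U) (hz1 : z ≠ 1) : twInd t T φ (t * z) = 0 :=
  S.tw_other S.T_le (fun _ h => S.exp_T h) S.U_le (fun _ h => S.exp_U h)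
    (by rw [S.card_U, S.card_T]; exact S.coprime_qM.symm) φ hz hz1

theorem twT_A [Fintype G] (φ : T → ℂ) {z : G} (hz : z ∈ A) (hz1 : z ≠ 1) : twInd t T φ (t * z) = 0 :=
  S.tw_other S.T_le (fun _ h => S.exp_T h) S.A_le (fun _ h => S.exp_A h)
    (by rw [S.card_T, S.card_A]; exact S.coprime_Ma) φ hz hz1

theorem twA_U [Fintype G] (φ : A → ℂ) {z : G} (hz : z ∈ U) (hz1 : z ≠ 1) : twInd t A φ (t * z) = 0 :=
  S.tw_other S.A_le (fun _ h => S.exp_A h) S.U_le (fun _ h => S.exp_U h)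
    (by rw [S.card_U, S.card_A]; exact S.coprime_qa.symm) φ hz hz1

theorem twA_T [Fintype G] (φ : A → ℂ) {z : G} (hz : z ∈ T) (hz1 : z ≠ 1) : twInd t A φ (t * z) = 0 :=
  S.tw_other S.A_le (fun _ h => S.exp_A h) S.T_le (fun _ h => S.exp_T h)
    (by rw [S.card_T, S.card_A]; exact S.coprime_Ma.symm) φ hz hz1

/-- On `t T#`. -/
theorem twT_T [Fintype G] (φ : T → ℂ) {z : G} (hz : z ∈ T) (hz1 : z ≠ 1) :
    twInd t T φ (t * z) = 2 * (φ ⟨z, hz⟩ + φ ⟨z⁻¹, inv_mem hz⟩) := by
  classical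
  letI : Fintype K := Fintype.ofFinite K
  letI : Fintype T := Fintype.ofFinite T
  obtain ⟨k₀, hk₀, hk₀2, hk₀T, hinv⟩ := S.T_inv
  let f : Bool × T ↪ K := ⟨fun p => ⟨(if p.1 then k₀ else 1) * (p.2 : G),
      mul_mem (by split; exacts [hk₀, one_mem K]) (S.T_le p.2.2)⟩, by
    rintro ⟨b, x⟩ ⟨b', x'⟩ e
    have e' : (if b then k₀ else 1) * (x : G) = (if b' then k₀ else 1) * (x' : G) :=
      congrArg Subtype.val e
    cases b <;> cases b' <;> simp only [Bool.false_eq_true, if_false, if_true, one_mul] at e'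
    · rw [Subtype.ext e']
    · exact absurd (eq_mul_inv_of_mul_eq e'.symm ▸ mul_mem x.2 (inv_mem x'.2)) hk₀T
    · exact absurd (eq_mul_inv_of_mul_eq e' ▸ mul_mem x'.2 (inv_mem x.2)) hk₀T
    · rw [Subtype.ext (mul_left_cancel e')]⟩
  have hk₀i : k₀⁻¹ = k₀ := inv_eq_of_mul_eq_one_right hk₀2
  rw [S.apply_sec S.T_le (fun _ h => S.exp_T h) φ (S.T_le hz) (S.exp_T hz),
    ← Finset.sum_subset (Finset.subset_univ (Finset.univ.map f))]
  · rw [Finset.sum_map, Fintype.sum_prod_type, Fintype.sum_bool]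
    have hfix : ∀ y ∈ T, ∀ x : T, (x : G)⁻¹ * y * x = y := fun y hy x => by
      rw [mul_assoc, S.T_comm _ hy _ x.2, inv_mul_cancel_left]
    have h1 : ∀ x : T, ((f (true, x) : K) : G)⁻¹ * z * (f (true, x) : K) = z⁻¹ := fun x => by
      show (k₀ * (x : G))⁻¹ * z * (k₀ * x) = _
      rw [show (k₀ * (x : G))⁻¹ * z * (k₀ * x) = (x : G)⁻¹ * (k₀⁻¹ * z * k₀⁻¹⁻¹) * x by group,
        hk₀i, hinv z hz, hfix _ (inv_mem hz) x]
    have h0 : ∀ x : T, ((f (false, x) : K) : G)⁻¹ * z * (f (false, x) : K) = z := fun x => by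
      show (1 * (x : G))⁻¹ * z * (1 * x) = _
      rw [one_mul, hfix _ hz x]
    simp only [h1, h0, Char.extendByZero_mem _ φ hz, Char.extendByZero_mem _ φ (inv_mem hz),
      Finset.sum_const, Finset.card_univ, nsmul_eq_mul, ← Nat.card_eq_fintype_card, S.card_T]
    have hM : (M : ℂ) ≠ 0 := Nat.cast_ne_zero.2 S.M_pos.ne'
    field_simp
    ring
  · intro k _ hk
    apply Char.extendByZero_not_mem
    intro hm
    apply hk
    simp only [Finset.mem_map, Finset.mem_univ, true_and]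
    have hc := S.T_conj z hz hz1 (k : G)⁻¹ (inv_mem k.2) (by rwa [inv_inv])
    rw [inv_inv] at hc
    rcases hc with e | e
    · have hT : (k : G) ∈ T := S.T_cent z hz hz1 k k.2
        (show (k : G) * z = z * k by rw [eq_comm]; calc z * (k : G) = k * ((k : G)⁻¹ * z * k) := by group
          _ = k * z := by rw [e])
      exact ⟨⟨false, ⟨k, hT⟩⟩, Subtype.ext (by simp [f])⟩
    · have hT : k₀ * (k : G) ∈ T := S.T_cent z hz hz1 _ (mul_mem hk₀ k.2)
        (show k₀ * (k : G) * z = z * (k₀ * k) by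
          have e2 : z * (k : G) = k * z⁻¹ := by
            calc z * (k : G) = k * ((k : G)⁻¹ * z * k) := by group
              _ = _ := by rw [e]
          have e3 : k₀ * z⁻¹ = z * k₀ := by
            have := hinv z⁻¹ (inv_mem hz)
            rw [inv_inv, mul_inv_eq_iff_eq_mul] at this
            exact this
          calc k₀ * (k : G) * z = k₀ * ((k : G) * (z⁻¹)⁻¹) := by group
            _ = k₀ * (z⁻¹ * (k : G)) := by
                congr 1
                rw [eq_comm, ← mul_inv_eq_iff_eq_mul, inv_inv]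
                calc z⁻¹ * (k : G) * z⁻¹ = z⁻¹ * ((k : G) * z⁻¹) := by group
                  _ = k := by rw [← e2]; group
            _ = k₀ * z⁻¹ * k := by group
            _ = _ := by rw [e3, mul_assoc])
      exact ⟨⟨true, ⟨k₀ * k, hT⟩⟩, Subtype.ext (by simp [f, ← mul_assoc, hk₀2])⟩

/-- On `t A#`. -/
theorem twA_A [Fintype G] (φ : A → ℂ) {z : G} (hz : z ∈ A) (hz1 : z ≠ 1) :
    twInd t A φ (t * z) = 4 * (φ ⟨z, hz⟩ + φ ⟨z⁻¹, inv_mem hz⟩) := by
  classical
  letI : Fintype K := Fintype.ofFinite K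
  letI : Fintype A := Fintype.ofFinite A
  have hii : i * i = 1 := by rw [← pow_two, ← S.order_i, pow_orderOf_eq_one]
  have hiA : i ∉ A := fun h => by
    have := Subgroup.orderOf_dvd_natCard A h
    rw [S.order_i, S.card_A] at this
    exact S.odd_a.not_two_dvd_nat this
  have hr_inv : r⁻¹ = r := inv_eq_of_mul_eq_one_right S.r_sq
  have hrA : ∀ x ∈ A, r * x ∉ A := fun x hx h => S.r_not (mem_sup_right (by
    have := mul_mem h (inv_mem hx)
    rwa [mul_inv_cancel_right] at this))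
  have hriA : ∀ x ∈ A, r * (i * x) ∉ A := fun x hx h => S.r_not (by
    have hi : i ∈ torH t i A := mem_sup_left (mem_sup_right (mem_zpowers i))
    have := mul_mem (mem_sup_right h : r * (i * x) ∈ torH t i A)
      (inv_mem (mul_mem hi (mem_sup_right hx : x ∈ torH t i A)))
    rwa [mul_inv_cancel_right] at this)
  let c : Fin 4 → G := ![1, i, r, r * i]
  have hc : ∀ j, c j ∈ K := fun j => by
    fin_cases j
    exacts [one_mem K, S.i_mem, S.r_mem, mul_mem S.r_mem S.i_mem]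
  let f : Fin 4 × A ↪ K := ⟨fun p => ⟨c p.1 * (p.2 : G), mul_mem (hc p.1) (S.A_le p.2.2)⟩, by
    rintro ⟨j, x⟩ ⟨j', x'⟩ e
    have e' : c j * (x : G) = c j' * (x' : G) := congrArg Subtype.val e
    have e'' : (c j')⁻¹ * c j = (x' : G) * (x : G)⁻¹ := by
      rw [eq_mul_inv_iff_mul_eq, mul_assoc, e', inv_mul_cancel_left]
    have hm : (c j')⁻¹ * c j ∈ A := e'' ▸ mul_mem x'.2 (inv_mem x.2)
    have hj : j = j' := by
      have n1 := hrA 1 (one_mem A)
      have n2 := hriA 1 (one_mem A)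
      rw [mul_one] at n1
      rw [mul_one] at n2
      have e1 : i⁻¹ = i := inv_eq_of_mul_eq_one_right hii
      have e2 : i * r = r * i := S.r_i.symm.eq
      fin_cases j <;> fin_cases j' <;> try rfl
      all_goals exfalso
      all_goals simp [c, e1, hr_inv, mul_inv_rev] at hm
      all_goals first
        | exact hiA hm
        | exact n1 hm
        | exact n2 hm
        | exact n2 (e2 ▸ hm)
        | (rw [← mul_assoc, S.r_sq, one_mul] at hm; exact hiA hm)
        | (rw [mul_assoc, ← e2, ← mul_assoc, hii, one_mul] at hm; exact n1 hm)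
        | (rw [e2, mul_assoc, hii, mul_one] at hm; exact n1 hm)
        | (rw [mul_assoc, S.r_sq, mul_one] at hm; exact hiA hm)
        | (rw [← mul_assoc, e2, mul_assoc, hii, mul_one] at hm; exact n1 hm)
    subst hj
    rw [Subtype.ext (mul_left_cancel e')]⟩
  rw [S.apply_sec S.A_le (fun _ h => S.exp_A h) φ (S.A_le hz) (S.exp_A hz),
    ← Finset.sum_subset (Finset.subset_univ (Finset.univ.map f))]
  · rw [Finset.sum_map, Fintype.sum_prod_type, Fin.sum_univ_four]
    have hfix : ∀ y ∈ A, ∀ x : A, (x : G)⁻¹ * y * x = y := fun y hy x => by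
      rw [mul_assoc, S.A_comm _ hy _ x.2, inv_mul_cancel_left]
    have hi : ∀ y ∈ A, i⁻¹ * y * i = y := fun y hy => by
      rw [mul_assoc, ← (S.comm_iA y hy).eq, inv_mul_cancel_left]
    have hr : r⁻¹ * z * r = z⁻¹ := by
      have := S.r_inv z hz
      rwa [hr_inv] at this ⊢
    have hv : ∀ (g y : G), y ∈ A → g⁻¹ * z * g = y → ∀ x : A, (g * (x : G))⁻¹ * z * (g * x) = y :=
      fun g y hy hg x => by
        rw [show (g * (x : G))⁻¹ * z * (g * x) = (x : G)⁻¹ * (g⁻¹ * z * g) * x by group, hg, hfix y hy]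
    have h3 : (r * i)⁻¹ * z * (r * i) = z⁻¹ := by
      rw [show (r * i)⁻¹ * z * (r * i) = i⁻¹ * (r⁻¹ * z * r) * i by group, hr, hi _ (inv_mem hz)]
    have hval : ∀ (j : Fin 4) (x : A), ((f (j, x) : K) : G)⁻¹ * z * (f (j, x) : K) =
        (![z, z, z⁻¹, z⁻¹] : Fin 4 → G) j := fun j x => by
      show (c j * (x : G))⁻¹ * z * (c j * x) = _
      fin_cases j
      exacts [hv 1 z hz (by simp) x, hv i z hz (hi z hz) x, hv r _ (inv_mem hz) hr x,
        hv _ _ (inv_mem hz) h3 x]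
    simp only [hval, Matrix.cons_val_zero, Matrix.cons_val_one, Matrix.cons_val,
      Char.extendByZero_mem _ φ hz, Char.extendByZero_mem _ φ (inv_mem hz),
      Finset.sum_const, Finset.card_univ, nsmul_eq_mul, ← Nat.card_eq_fintype_card, S.card_A]
    have ha : (a : ℂ) ≠ 0 := Nat.cast_ne_zero.2 S.a_pos.ne'
    field_simp
    ring
  · intro k _ hk
    apply Char.extendByZero_not_mem
    intro hm
    apply hk
    simp only [Finset.mem_map, Finset.mem_univ, true_and]
    have hii' : ∀ g : G, i * (i * g) = g := fun g => by rw [← mul_assoc, hii, one_mul]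
    have hc := S.A_conj z hz hz1 (k : G)⁻¹ (inv_mem k.2) (by rwa [inv_inv])
    rw [inv_inv] at hc
    rcases hc with e | e
    · have hcomm : Commute (k : G) z := by
        show (k : G) * z = z * k
        rw [eq_comm]
        calc z * (k : G) = k * ((k : G)⁻¹ * z * k) := by group
          _ = k * z := by rw [e]
      rcases S.A_cent z hz hz1 k k.2 hcomm with hA | hA
      · exact ⟨(0, ⟨k, hA⟩), Subtype.ext (show c 0 * (k : G) = k by simp [c])⟩
      · exact ⟨(1, ⟨i * k, hA⟩), Subtype.ext (show c 1 * (i * (k : G)) = k by simp [c, hii'])⟩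
    · have hcomm : Commute (r * (k : G)) z := by
        show r * (k : G) * z = z * (r * k)
        have e2 : (k : G) * z = z⁻¹ * k := by
          have e' : (k : G)⁻¹ * z⁻¹ * k = z := by
            have := congrArg (·⁻¹) e
            simpa [mul_assoc] using this
          calc (k : G) * z = k * ((k : G)⁻¹ * z⁻¹ * k) := by rw [e']
            _ = _ := by group
        have e3 : r * z⁻¹ = z * r := by
          have := S.r_inv z⁻¹ (inv_mem hz)
          rw [inv_inv, mul_inv_eq_iff_eq_mul] at this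
          exact this
        rw [mul_assoc, e2, ← mul_assoc, e3, mul_assoc]
      have hrr : ∀ g : G, r * (r * g) = g := fun g => by rw [← mul_assoc, S.r_sq, one_mul]
      rcases S.A_cent z hz hz1 _ (mul_mem S.r_mem k.2) hcomm with hA | hA
      · exact ⟨(2, ⟨r * k, hA⟩), Subtype.ext (show c 2 * (r * (k : G)) = k by simp [c, hrr])⟩
      · exact ⟨(3, ⟨i * (r * k), hA⟩), Subtype.ext (show c 3 * (i * (r * (k : G))) = k by simp [c, mul_assoc, hii', hrr])⟩

/-- An element of `K` moving one non-trivial element of `U` into `U` normalises `U`. -/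
theorem mem_normK [Finite G] {z : G} (hz : z ∈ U) (hz1 : z ≠ 1) {k : G} (hk : k ∈ K)
    (hm : k⁻¹ * z * k ∈ U) : k ∈ normK K U := by
  have : k⁻¹ ∈ normK K U := by
    refine Subgroup.mem_inf.2 ⟨K.inv_mem hk, ?_⟩
    refine Cfsg.Agent.Coprime.mem_normalizer_of_forall fun x hx => ?_
    have hzne : k⁻¹ * z * k ≠ 1 := fun e => hz1 (conj_eq_one_iff.1 (by rw [inv_inv]; exact e :
      k⁻¹ * z * k⁻¹⁻¹ = 1))
    rw [inv_inv]
    refine S.U_cent _ hm hzne _ (mul_mem (mul_mem (inv_mem hk) (S.U_le hx)) hk) ?_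
    show k⁻¹ * x * k * (k⁻¹ * z * k) = k⁻¹ * z * k * (k⁻¹ * x * k)
    calc k⁻¹ * x * k * (k⁻¹ * z * k) = k⁻¹ * (x * z) * k := by group
      _ = k⁻¹ * (z * x) * k := by rw [S.U_comm x hx z hz]
      _ = _ := by group
  simpa using inv_mem this

theorem card_normK [Finite G] : 2 * Nat.card (normK K U) = q * (q - 1) := by
  rw [← S.U_norm]
  refine congrArg _ (Nat.card_congr
    { toFun := fun k => ⟨⟨k, k.2.1⟩, fun x hx => (mem_normalizer_iff.1 k.2.2 x).1 hx⟩
      invFun := fun k => ⟨(k.1 : G), k.1.2, Cfsg.Agent.Coprime.mem_normalizer_of_forall k.2⟩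
      left_inv := fun k => rfl
      right_inv := fun k => rfl })

theorem U_le_normK : U ≤ normK K U := fun _ hx => ⟨S.U_le hx, le_normalizer hx⟩

open Classical in
/-- The values of `X(ψ)` on `t U`. -/
theorem twU_U [Fintype G] [Fintype (normK K U)] (φ : U → ℂ) {z : G} (hz : z ∈ U) :
    twInd t U φ (t * z) = 2 * (q : ℂ)⁻¹ *
        (∑ k : normK K U, φ (conjU k ⟨z, hz⟩)) +
      (if z = 1 then ((q : ℂ) ^ 2 - q) * φ 1 else 0) := by
  letI : Fintype K := Fintype.ofFinite K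
  by_cases h1 : z = 1
  · subst h1
    rw [if_pos rfl, mul_one, S.twU_t]
    have e : ∀ k : normK K U, φ (conjU k ⟨1, hz⟩) = φ 1 :=
      fun k => congrArg φ (Subtype.ext (by simp [conjU]))
    rw [Finset.sum_congr rfl fun k _ => e k, Finset.sum_const, Finset.card_univ, nsmul_eq_mul,
      ← Nat.card_eq_fintype_card]
    have hN : 2 * (Nat.card (normK K U) : ℂ) = (q : ℂ) * ((q : ℂ) - 1) := by
      rw [show 2 * (Nat.card (normK K U) : ℂ) = ((2 * Nat.card (normK K U) : ℕ) : ℂ) by push_cast; ring,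
        S.card_normK, Nat.cast_mul, Nat.cast_sub S.q_pos, Nat.cast_one]
    have hq : (q : ℂ) ≠ 0 := Nat.cast_ne_zero.2 S.q_pos.ne'
    rw [show 2 * (q : ℂ)⁻¹ * ((Nat.card (normK K U) : ℂ) * φ 1) =
      (q : ℂ)⁻¹ * (2 * (Nat.card (normK K U) : ℂ)) * φ 1 by ring, hN]
    field_simp
    ring
  rw [if_neg h1, add_zero, S.apply_sec S.U_le (fun _ h => S.exp_U h) φ (S.U_le hz) (S.exp_U hz),
    S.card_U]
  congr 1
  let f : normK K U ↪ K := ⟨fun k => ⟨k, k.2.1⟩, fun a b h =>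
    Subtype.ext (congrArg (Subtype.val : K → G) h)⟩
  rw [← Finset.sum_subset (Finset.subset_univ (Finset.univ.map f))]
  · rw [Finset.sum_map]
    exact Finset.sum_congr rfl fun k _ =>
      Char.extendByZero_mem U φ (conj_mem_U k hz)
  · intro k _ hk
    apply Char.extendByZero_not_mem
    intro hm
    apply hk
    simp only [Finset.mem_map, Finset.mem_univ, true_and]
    exact ⟨⟨k, S.mem_normK hz h1 k.2 hm⟩, Subtype.ext rfl⟩

end Sec

end Cfsg.Agent.AbelianSylow.Chars
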