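import Cfsg.Agent.Lib.AbelianSylow.Chars.ThetaFacts
import Cfsg.Agent.Lib.AbelianSylow.Chars.Values

/-!
# The functions of the `t`-section (owner: helper55; `PROOF.md`, section 1)

* table : `Sec.theta0_t`, `Sec.theta0_U`, ... (values at `t`, `t U#`, `t A#`, `t T#`)
* products : `Sec.inner_theta0_theta0`, ... ; `Sec.inner_*_one`
* `Sec.theta0_isGen`, ... ; `Sec.theta0_odd`, ... : generalised characters vanishing at odd order
* `Sec.apply_t_expansion` : `χ(t)` from the coefficients
* `Sec.conj_theta` ; `Sec.exists_psiPair` ; `Sec.exists_thetaFacts`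
-/

set_option autoImplicit false
set_option linter.unusedSectionVars false

namespace Cfsg.Agent.AbelianSylow.Chars

open Subgroup ReeInverted
open scoped ComplexConjugate

universe u

variable {G : Type u} [Group G] [Fintype G]

theorem twInd_conj_fun (t : G) (B : Subgroup G) (φ : B → ℂ) (g : G) :
    conj (twInd t B φ g) = twInd t B (fun b => conj (φ b)) g := by
  simp only [twInd, map_mul, map_inv₀, map_natCast, map_sum]
  congr 1
  refine Finset.sum_congr rfl fun x _ => ?_
  by_cases h : t * (x⁻¹ * g * x) ∈ B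
  · rw [Char.extendByZero_mem B _ h, Char.extendByZero_mem B _ h]
  · rw [Char.extendByZero_not_mem B _ h, Char.extendByZero_not_mem B _ h, map_zero]

/-- Conjugate characters induce the same function. -/
theorem twInd_comp (t : G) {B : Subgroup G} (φ : B → ℂ) {k : G} (hk : Commute k t)
    (hB : ∀ b, b ∈ B ↔ k⁻¹ * b * k ∈ B) :
    twInd t B (fun b => φ ⟨k⁻¹ * b * k, (hB b).1 b.2⟩) = twInd t B φ := by
  funext g
  simp only [twInd]
  congr 1
  refine Fintype.sum_equiv (Equiv.mulRight k) _ _ fun x => ?_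
  have e : t * ((x * k)⁻¹ * g * (x * k)) = k⁻¹ * (t * (x⁻¹ * g * x)) * k := by
    rw [← mul_assoc k⁻¹ t, hk.inv_left.eq]; group
  rw [Equiv.coe_mulRight, e]
  by_cases h : t * (x⁻¹ * g * x) ∈ B
  · rw [Char.extendByZero_mem B _ h, Char.extendByZero_mem B _ ((hB _).1 h)]
  · rw [Char.extendByZero_not_mem B _ h, Char.extendByZero_not_mem B _ (fun h' => h ((hB _).2 h'))]

/-- The function induced from `⟨t⟩` alone reads off the value at `t`. -/
theorem inner_twBot {t : G} (ht : t * t = 1) {χ : G → ℂ} (hχ : IsClassFunction G χ) :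
    classInner χ (twInd t (⊥ : Subgroup G) (fun _ => 1)) = χ t := by
  classical
  rw [← Char.classInner_conj_symm, twInd_inner ht _ _ hχ, Subgroup.card_bot, Nat.cast_one, inv_one,
    one_mul, Fintype.sum_subsingleton _ ⟨1, one_mem _⟩, one_mul, Complex.conj_conj, mul_one]

/-- Sum over all linear characters. -/
theorem sum_twInd (t : G) {B : Subgroup G} (hB : ∀ a ∈ B, ∀ b ∈ B, a * b = b * a)
    [Fintype (↥B →* ℂˣ)] :
    ∑ l : ↥B →* ℂˣ, twInd t B (lin l) = twInd t (⊥ : Subgroup G) (fun _ => 1) := by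
  classical
  letI : Fintype B := Fintype.ofFinite B
  funext g
  simp only [Finset.sum_apply, twInd, Subgroup.card_bot, Nat.cast_one, inv_one, one_mul,
    ← Finset.mul_sum]
  rw [Finset.sum_comm, Finset.mul_sum]
  refine Finset.sum_congr rfl fun x _ => ?_
  by_cases h1 : t * (x⁻¹ * g * x) = 1
  · rw [h1, Char.extendByZero_mem (⊥ : Subgroup G) _ (one_mem _),
      Finset.sum_congr rfl fun l _ => (Char.extendByZero_mem B (lin l : B → ℂ) (one_mem B)).trans
        (map_one (lin l) :), Finset.sum_const, Finset.card_univ, nsmul_eq_mul, mul_one,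
      ← Nat.card_eq_fintype_card, ReeCover.card_dual hB]
    exact inv_mul_cancel₀ (Nat.cast_ne_zero.2 Nat.card_pos.ne')
  · rw [Char.extendByZero_not_mem (⊥ : Subgroup G) _ (fun h => h1 (Subgroup.mem_bot.1 h))]
    by_cases h : t * (x⁻¹ * g * x) ∈ B
    · have := ReeCover.sum_lam hB (a := (⟨_, h⟩ : B)) fun e => h1 (congrArg Subtype.val e)
      simp only [Char.extendByZero_mem B _ h]
      rw [show (∑ l : ↥B →* ℂˣ, lin l ⟨_, h⟩) = 0 from this, mul_zero]
    · simp only [Char.extendByZero_not_mem B _ h, Finset.sum_const_zero, mul_zero]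

theorem hom_inv_inv {H : Subgroup G} (l : ↥H →* ℂˣ) : l⁻¹⁻¹ = l :=
  MonoidHom.ext fun x => inv_inv (l x)

variable {t i r w : G} {K U A T : Subgroup G} {q a M : ℕ} {Q : ℤ} {ψ : Fin 2 → (↥U →* ℂˣ)}

namespace Sec

variable (S : Sec t i r w K U A T q a M Q)
include S

/-! ### Characters of `U` -/

theorem conjU_apply_mem {k : G} (hk : k ∈ U) (hk' : k ∈ normK K U) (x : U) :
    conjU ⟨k, hk'⟩ x = x :=
  Subtype.ext (show k⁻¹ * x * k = x by rw [mul_assoc, S.U_comm _ x.2 _ hk, inv_mul_cancel_left])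

/-- `N_K(U) / U` acts freely on the non-trivial characters of `U`. -/
theorem twK_eq_self_iff {l : ↥U →* ℂˣ} (hl : l ≠ 1) (k : normK K U) :
    twK k l = l ↔ (k : G) ∈ U := by
  refine ⟨fun h => ?_, fun hk => MonoidHom.ext fun x => by rw [twK_apply, S.conjU_apply_mem hk k.2]⟩
  by_contra hk
  apply hl
  let φ : ↥U →* ↥U :=
    { toFun := fun x => x⁻¹ * conjU k x
      map_one' := by simp
      map_mul' := fun x y => by
        have hc : ∀ u v : U, u * v = v * u := fun u v => Subtype.ext (S.U_comm _ u.2 _ v.2)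
        rw [map_mul, mul_inv_rev, hc y⁻¹ x⁻¹, mul_assoc, mul_assoc, ← mul_assoc y⁻¹,
          hc y⁻¹ (conjU k x), mul_assoc] }
  have hinj : Function.Injective φ := by
    refine (injective_iff_map_eq_one φ).2 fun x hx => ?_
    by_contra hne
    refine hk (S.U_cent x x.2 (fun e => hne (Subtype.ext e)) k k.2.1 ?_)
    have h2 : (k : G)⁻¹ * x * k = x := congrArg Subtype.val (inv_mul_eq_one.1 hx).symm
    show (k : G) * x = x * k
    calc (k : G) * x = k * ((k : G)⁻¹ * x * k) := by rw [h2]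
      _ = x * k := by group
  refine MonoidHom.ext fun x => ?_
  obtain ⟨y, rfl⟩ := (Finite.injective_iff_surjective.1 hinj) x
  show l (y⁻¹ * conjU k y) = 1
  rw [map_mul, map_inv, ← twK_apply, h, inv_mul_cancel]

theorem twK_mul (k k' : normK K U) (l : ↥U →* ℂˣ) : twK (k * k') l = twK k (twK k' l) :=
  MonoidHom.ext fun x => congrArg l (Subtype.ext (by simp [conjU, mul_assoc]))

theorem twK_one (l : ↥U →* ℂˣ) : twK (1 : normK K U) l = l :=
  MonoidHom.ext fun x => congrArg l (Subtype.ext (by simp [conjU]))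

theorem card_stab {l : ↥U →* ℂˣ} (hl : l ≠ 1) :
    Nat.card {k : normK K U // twK k l = l} = q := by
  rw [← S.card_U]
  exact Nat.card_congr
    { toFun := fun k => ⟨k.1, (S.twK_eq_self_iff hl k.1).1 k.2⟩
      invFun := fun x => ⟨⟨x, S.U_le_normK x.2⟩, (S.twK_eq_self_iff hl _).2 x.2⟩
      left_inv := fun k => rfl
      right_inv := fun x => rfl }

theorem apart (P : PsiPair K U ψ) (k : normK K U) : twK k (ψ 0) ≠ ψ 1 := by
  intro h
  obtain ⟨x, hx⟩ := P.apart (k : G)⁻¹ (inv_mem k.2.1) fun x hx => by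
    rw [inv_inv]; exact conj_mem_U k hx
  apply hx
  rw [← h, twK_apply]
  exact congrArg _ (Subtype.ext (by simp [conjU]))

theorem apart' (P : PsiPair K U ψ) (k : normK K U) : twK k (ψ 1) ≠ ψ 0 := fun h =>
  S.apart P k⁻¹ (by rw [← h, ← S.twK_mul, inv_mul_cancel, S.twK_one])

open Classical in
/-- The product of two functions induced from `U`. -/
theorem inner_twU_twU (l m : ↥U →* ℂˣ) :
    classInner (twInd t U (lin l)) (twInd t U (lin m)) =
      (q : ℂ) - 1 + 2 * (q : ℂ)⁻¹ * (Nat.card {k : normK K U // twK k m = l} : ℂ) := by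
  letI : Fintype (normK K U) := Fintype.ofFinite _
  letI : Fintype U := Fintype.ofFinite U
  have hq : (q : ℂ) ≠ 0 := Nat.cast_ne_zero.2 S.q_pos.ne'
  rw [twInd_inner S.tt _ _ (twInd_isClassFunction _ _ _)]
  have e : ∀ x : U, lin l x * conj (twInd t U (lin m) (t * x)) =
      2 * (q : ℂ)⁻¹ * (∑ k : normK K U, lin l x * lin (twK k m)⁻¹ x) +
        (if x = 1 then (q : ℂ) ^ 2 - q else 0) := by
    intro x
    rw [S.twU_U (lin m) x.2, map_add, mul_add]
    congr 1
    · rw [map_mul, map_mul, map_inv₀, map_natCast, map_ofNat, map_sum, Finset.mul_sum, Finset.mul_sum,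
        Finset.mul_sum]
      refine Finset.sum_congr rfl fun k _ => ?_
      rw [← conj_lin_apply, show lin m (conjU k ⟨x, x.2⟩) = lin (twK k m) x from rfl]
      ring
    · by_cases h : x = 1
      · rw [h, if_pos rfl, if_pos (OneMemClass.coe_one U), map_one (lin l), one_mul, map_mul, map_sub,
          map_pow, map_natCast, map_one (lin m), map_one, mul_one]
      · rw [if_neg h, if_neg (fun e : (x : G) = 1 => h (Subtype.ext e)), map_zero, mul_zero]
  rw [Finset.sum_congr rfl fun x _ => e x, Finset.sum_add_distrib, ← Finset.mul_sum, Finset.sum_comm,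
    Finset.sum_ite_eq', if_pos (Finset.mem_univ _)]
  simp only [sum_lin_mul, hom_inv_inv, eq_comm (a := l), S.card_U]
  rw [← Finset.sum_filter, Finset.sum_const, nsmul_eq_mul,
    show (Finset.univ.filter fun k : normK K U => twK k m = l).card =
      Nat.card {k : normK K U // twK k m = l} by rw [Nat.card_eq_fintype_card, Fintype.card_subtype]]
  field_simp
  ring

open Classical in
theorem inner_psi_psi (P : PsiPair K U ψ) (j k : Fin 2) :
    classInner (twInd t U (lin (ψ j))) (twInd t U (lin (ψ k))) =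
      if j = k then (q : ℂ) + 1 else (q : ℂ) - 1 := by
  have hq : (q : ℂ) ≠ 0 := Nat.cast_ne_zero.2 S.q_pos.ne'
  have hempty : ∀ l m : ↥U →* ℂˣ, (∀ k : normK K U, twK k m ≠ l) →
      Nat.card {k : normK K U // twK k m = l} = 0 := fun l m h => by
    haveI : IsEmpty {k : normK K U // twK k m = l} := ⟨fun k => h k.1 k.2⟩
    exact Nat.card_of_isEmpty
  rw [S.inner_twU_twU]
  obtain rfl | rfl : j = 0 ∨ j = 1 := by omega
  all_goals obtain rfl | rfl : k = 0 ∨ k = 1 := by omega
  · rw [show Nat.card _ = q from S.card_stab (P.ne_one 0)]; simp [hq]; ring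
  · rw [show Nat.card _ = 0 from hempty _ _ fun k => S.apart' P k]; simp
  · rw [show Nat.card _ = 0 from hempty _ _ fun k => S.apart P k]; simp
  · rw [show Nat.card _ = q from S.card_stab (P.ne_one 1)]; simp [hq]; ring

/-- `X(ψ₀) + X(ψ₁)` on `t U#`. -/
theorem sumU_U (P : PsiPair K U ψ) {z : G} (hz : z ∈ U) (hz1 : z ≠ 1) : sumU t ψ (t * z) = -2 := by
  classical
  letI : Fintype U := Fintype.ofFinite U
  have hq : (q : ℂ) ≠ 0 := Nat.cast_ne_zero.2 S.q_pos.ne'
  set g : U → ℂ := fun x => sumU t ψ (t * x) + 2 with hg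
  -- the three sums
  have hsq : ∑ x : U, sumU t ψ (t * x) * conj (sumU t ψ (t * x)) =
      ∑ j : Fin 2, ∑ x : U, twInd t U (lin (ψ j)) (t * x) * conj (sumU t ψ (t * x)) := by
    rw [Finset.sum_comm]
    exact Finset.sum_congr rfl fun x _ => by rw [Fin.sum_univ_two, ← add_mul]; rfl
  have hz2 : ∀ j, ∑ x : U, lin (ψ j) x = 0 := fun j => by rw [sum_lin, if_neg (P.ne_one j)]
  letI : Fintype (normK K U) := Fintype.ofFinite _
  have hval : ∀ (j : Fin 2) (x : U), twInd t U (lin (ψ j)) (t * x) =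
      2 * (q : ℂ)⁻¹ * (∑ k : normK K U, lin (twK k (ψ j)) x) +
        (if x = 1 then (q : ℂ) ^ 2 - q else 0) := fun j x => by
    rw [S.twU_U (lin (ψ j)) x.2, map_one (lin (ψ j)), mul_one]
    congr 1
    exact if_congr ⟨fun h => Subtype.ext h, fun h => congrArg Subtype.val h⟩ rfl rfl
  have hne : ∀ (j : Fin 2) (k : normK K U), twK k (ψ j) ≠ 1 := fun j k h => by
    apply P.ne_one j
    rw [← S.twK_one (ψ j), ← inv_mul_cancel k, S.twK_mul, h]
    exact MonoidHom.ext fun x => rfl
  have hsum : ∀ j, ∑ x : U, twInd t U (lin (ψ j)) (t * x) = (q : ℂ) ^ 2 - q := fun j => by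
    rw [Finset.sum_congr rfl fun x _ => hval j x, Finset.sum_add_distrib, ← Finset.mul_sum,
      Finset.sum_comm, Finset.sum_eq_zero fun k _ => ?_, mul_zero, zero_add, Finset.sum_ite_eq',
      if_pos (Finset.mem_univ _)]
    rw [sum_lin, if_neg (hne j k)]
  have hinner : ∀ j l, ∑ x : U, twInd t U (lin (ψ j)) (t * x) * conj (twInd t U (lin (ψ l)) (t * x)) =
      ((q : ℂ) ^ 2 - q) * conj ((q : ℂ) ^ 2 - 1) + 2 * (q : ℂ)⁻¹ * ((Nat.card (normK K U) : ℂ) *
        ((q : ℂ) * classInner (twInd t U (lin (ψ j))) (twInd t U (lin (ψ l))))) := by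
    intro j l
    have e : ∀ x : U, twInd t U (lin (ψ j)) (t * x) * conj (twInd t U (lin (ψ l)) (t * x)) =
        2 * (q : ℂ)⁻¹ * (∑ k : normK K U, lin (twK k (ψ j)) x * conj (twInd t U (lin (ψ l)) (t * x))) +
        (if x = 1 then ((q : ℂ) ^ 2 - q) * conj ((q : ℂ) ^ 2 - 1) else 0) := by
      intro x
      rw [hval j x, add_mul, ← Finset.sum_mul, ← mul_assoc]
      congr 1
      split_ifs with h
      · rw [h, OneMemClass.coe_one, mul_one, S.twU_t, map_one (lin (ψ l)), mul_one]
      · rw [zero_mul]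
    rw [Finset.sum_congr rfl fun x _ => e x, Finset.sum_add_distrib, ← Finset.mul_sum,
      Finset.sum_comm, Finset.sum_ite_eq', if_pos (Finset.mem_univ _), add_comm]
    congr 2
    rw [Finset.sum_congr rfl fun k _ => ?_, Finset.sum_const, Finset.card_univ, nsmul_eq_mul,
      ← Nat.card_eq_fintype_card]
    have hk : twInd t U (lin (twK k (ψ j))) = twInd t U (lin (ψ j)) :=
      twInd_comp t (lin (ψ j) : U → ℂ) (S.comm_K _ k.2.1).symm fun b =>
        ⟨fun hb => conj_mem_U k hb, fun hb => by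
          have := conj_mem_U k⁻¹ hb
          simpa [mul_assoc] using this⟩
    rw [← hk, twInd_inner S.tt _ _ (twInd_isClassFunction _ _ _), S.card_U, ← mul_assoc,
      mul_inv_cancel₀ hq, one_mul]
  have h1 : sumU t ψ t = 2 * ((q : ℂ) ^ 2 - 1) := by
    simp only [sumU, Pi.add_apply, S.twU_t, map_one (lin _), mul_one]; ring
  have hN : 2 * (Nat.card (normK K U) : ℂ) = (q : ℂ) * ((q : ℂ) - 1) := by
    rw [show 2 * (Nat.card (normK K U) : ℂ) = ((2 * Nat.card (normK K U) : ℕ) : ℂ) by push_cast; ring,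
      S.card_normK, Nat.cast_mul, Nat.cast_sub S.q_pos, Nat.cast_one]
  have hA : ∑ x : U, sumU t ψ (t * x) = 2 * ((q : ℂ) ^ 2 - q) := by
    simp only [sumU, Pi.add_apply, Finset.sum_add_distrib, hsum]; ring
  have hB : ∑ x : U, sumU t ψ (t * x) * conj (sumU t ψ (t * x)) =
      4 * ((q : ℂ) ^ 2 - q) * ((q : ℂ) ^ 2 - 1) + 4 * (q : ℂ) ^ 2 * ((q : ℂ) - 1) := by
    rw [hsq, Fin.sum_univ_two]
    simp only [sumU, Pi.add_apply, map_add, mul_add, Finset.sum_add_distrib, hinner,
      S.inner_psi_psi P, map_sub, map_pow, map_natCast, map_one, one_ne_zero, zero_ne_one, if_true,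
      if_false]
    field_simp
    linear_combination (4 * (q : ℂ)) * hN
  have hA' : ∑ x : U, conj (sumU t ψ (t * x)) = 2 * ((q : ℂ) ^ 2 - q) := by
    rw [← map_sum, hA, map_mul, map_sub, map_pow, map_natCast, map_ofNat]
  have htot : ∑ x : U, g x * conj (g x) = ((2 * (q : ℂ) ^ 2) ^ 2) := by
    simp only [hg, map_add, map_ofNat, add_mul, mul_add, Finset.sum_add_distrib, hB, ← Finset.mul_sum,
      ← Finset.sum_mul, hA, hA', Finset.sum_const, Finset.card_univ, ← Nat.card_eq_fintype_card,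
      S.card_U, nsmul_eq_mul]
    ring
  have hone : g 1 * conj (g 1) = ((2 * (q : ℂ) ^ 2) ^ 2) := by
    simp only [hg, OneMemClass.coe_one, mul_one, h1, map_add, map_mul, map_sub, map_pow, map_natCast,
      map_ofNat, map_one]
    ring
  have hrest : ∑ x ∈ Finset.univ.erase (1 : U), Complex.normSq (g x) = 0 := by
    have := Finset.add_sum_erase Finset.univ (fun x => g x * conj (g x)) (Finset.mem_univ (1 : U))
    rw [hone, htot] at this
    have h0 : ∑ x ∈ Finset.univ.erase (1 : U), g x * conj (g x) = 0 := by linear_combination this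
    simp only [Complex.mul_conj] at h0
    exact_mod_cast h0
  have := (Finset.sum_eq_zero_iff_of_nonneg fun x _ => Complex.normSq_nonneg (g x)).1 hrest ⟨z, hz⟩
    (Finset.mem_erase.2 ⟨fun e => hz1 (congrArg Subtype.val e), Finset.mem_univ _⟩)
  rw [Complex.normSq_eq_zero] at this
  exact eq_neg_of_add_eq_zero_left this

/-- Every non-trivial character of `U` is in one of the two orbits. -/
theorem cover (P : PsiPair K U ψ) {m : ↥U →* ℂˣ} (hm : m ≠ 1) :
    ∃ (j : Fin 2) (k : normK K U), twK k (ψ j) = m := by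
  classical
  letI : Fintype U := Fintype.ofFinite U
  have hq : (q : ℂ) ≠ 0 := Nat.cast_ne_zero.2 S.q_pos.ne'
  have hm' : m⁻¹ ≠ 1 := fun e => hm (MonoidHom.ext fun x => by
    have := congrArg (fun f : ↥U →* ℂˣ => f x) e
    simpa using this)
  have hz : ∀ j, ∀ k : normK K U, twK k (ψ j) ≠ m →
      ∑ x : U, lin (twK k (ψ j)) x * lin m⁻¹ x = 0 := fun j k h => by
    rw [sum_lin_mul, hom_inv_inv, if_neg h]
  by_contra! hcon
  letI : Fintype (normK K U) := Fintype.ofFinite _
  have hX : ∀ j, ∑ x : U, twInd t U (lin (ψ j)) (t * x) * lin m⁻¹ x = (q : ℂ) ^ 2 - q := fun j => by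
    have e : ∀ x : U, twInd t U (lin (ψ j)) (t * x) * lin m⁻¹ x =
        2 * (q : ℂ)⁻¹ * (∑ k : normK K U, lin (twK k (ψ j)) x * lin m⁻¹ x) +
          (if x = 1 then (q : ℂ) ^ 2 - q else 0) := fun x => by
      rw [S.twU_U (lin (ψ j)) x.2, map_one (lin (ψ j)), mul_one, add_mul, ← Finset.sum_mul,
        ← mul_assoc]
      refine congrArg₂ _ rfl ?_
      by_cases h : x = 1
      · rw [h, if_pos (OneMemClass.coe_one U), if_pos rfl, map_one (lin m⁻¹), mul_one]
      · rw [if_neg (fun e : (x : G) = 1 => h (Subtype.ext e)), if_neg h, zero_mul]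
    rw [Finset.sum_congr rfl fun x _ => e x, Finset.sum_add_distrib, ← Finset.mul_sum, Finset.sum_comm,
      Finset.sum_eq_zero fun k _ => hz j k (hcon j k), mul_zero, zero_add, Finset.sum_ite_eq',
      if_pos (Finset.mem_univ _)]
  have h1 : ∑ x : U, sumU t ψ (t * x) * lin m⁻¹ x = 2 * ((q : ℂ) ^ 2 - q) := by
    simp only [sumU, Pi.add_apply, add_mul, Finset.sum_add_distrib, hX]; ring
  have h2 : ∑ x : U, sumU t ψ (t * x) * lin m⁻¹ x = 2 * (q : ℂ) ^ 2 := by
    have e : ∀ x : U, sumU t ψ (t * x) * lin m⁻¹ x =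
        -2 * lin m⁻¹ x + (if x = 1 then 2 * (q : ℂ) ^ 2 else 0) := fun x => by
      by_cases h : x = 1
      · rw [h, if_pos rfl, OneMemClass.coe_one, mul_one, map_one (lin m⁻¹)]
        simp only [sumU, Pi.add_apply, S.twU_t, map_one (lin _)]
        ring
      · rw [if_neg h, add_zero, S.sumU_U P x.2 fun e => h (Subtype.ext e)]
    rw [Finset.sum_congr rfl fun x _ => e x, Finset.sum_add_distrib, ← Finset.mul_sum, sum_lin,
      if_neg hm', mul_zero, zero_add, Finset.sum_ite_eq', if_pos (Finset.mem_univ _)]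
  rw [h1] at h2
  exact hq (by linear_combination (-(1 / 2 : ℂ)) * h2)

/-! ### The table -/

theorem sumU_t : sumU t ψ t = 2 * ((q : ℂ) ^ 2 - 1) := by
  simp only [sumU, Pi.add_apply, S.twU_t, map_one (lin _)]; ring

theorem sumU_A {z : G} (hz : z ∈ A) (hz1 : z ≠ 1) : sumU t ψ (t * z) = 0 := by
  simp only [sumU, Pi.add_apply, S.twU_A _ hz hz1, add_zero]

theorem sumU_T {z : G} (hz : z ∈ T) (hz1 : z ≠ 1) : sumU t ψ (t * z) = 0 := by
  simp only [sumU, Pi.add_apply, S.twU_T _ hz hz1, add_zero]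

theorem theta0_t : theta0 t ψ T t = 2 * ((Q : ℂ) + 1) := by
  simp only [theta0, Pi.sub_apply, S.sumU_t, S.twT_t]; ring

theorem theta0_U (P : PsiPair K U ψ) {z : G} (hz : z ∈ U) (hz1 : z ≠ 1) :
    theta0 t ψ T (t * z) = 2 := by
  simp only [theta0, Pi.sub_apply, S.sumU_U P hz hz1, S.twT_U _ hz hz1]; ring

theorem theta0_A {z : G} (hz : z ∈ A) (hz1 : z ≠ 1) : theta0 t ψ T (t * z) = 0 := by
  simp only [theta0, Pi.sub_apply, S.sumU_A hz hz1, S.twT_A _ hz hz1, sub_zero]

theorem theta0_T {z : G} (hz : z ∈ T) (hz1 : z ≠ 1) : theta0 t ψ T (t * z) = 4 := by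
  simp only [theta0, Pi.sub_apply, S.sumU_T hz hz1, S.twT_T _ hz hz1]; norm_num

theorem theta_t (j : Fin 2) : theta t ψ T A j t = 3 * (Q : ℂ) - 1 := by
  simp only [theta, Pi.add_apply, Pi.sub_apply, Pi.smul_apply, smul_eq_mul, S.twU_t, S.twT_t, S.twA_t,
    map_one (lin _)]
  ring

theorem theta_U (j : Fin 2) {z : G} (hz : z ∈ U) (hz1 : z ≠ 1) :
    theta t ψ T A j (t * z) = twInd t U (lin (ψ j)) (t * z) := by
  simp only [theta, Pi.add_apply, Pi.sub_apply, Pi.smul_apply, S.twT_U _ hz hz1, S.twA_U _ hz hz1,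
    sub_zero, smul_zero, add_zero]

theorem theta_A (j : Fin 2) {z : G} (hz : z ∈ A) (hz1 : z ≠ 1) : theta t ψ T A j (t * z) = -4 := by
  simp only [theta, Pi.add_apply, Pi.sub_apply, Pi.smul_apply, smul_eq_mul, S.twU_A _ hz hz1,
    S.twT_A _ hz hz1, S.twA_A _ hz hz1]
  norm_num

theorem theta_T (j : Fin 2) {z : G} (hz : z ∈ T) (hz1 : z ≠ 1) : theta t ψ T A j (t * z) = 2 := by
  simp only [theta, Pi.add_apply, Pi.sub_apply, Pi.smul_apply, smul_eq_mul, S.twU_T _ hz hz1,
    S.twA_T _ hz hz1, S.twT_T _ hz hz1]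
  norm_num

theorem thetaT_t (l : ↥T →* ℂˣ) : thetaT t ψ l t = 2 * ((Q : ℂ) + 1) := by
  simp only [thetaT, Pi.sub_apply, S.sumU_t, S.twT_t, map_one (lin l)]; ring

theorem thetaT_U (P : PsiPair K U ψ) (l : ↥T →* ℂˣ) {z : G} (hz : z ∈ U) (hz1 : z ≠ 1) :
    thetaT t ψ l (t * z) = 2 := by
  simp only [thetaT, Pi.sub_apply, S.sumU_U P hz hz1, S.twT_U _ hz hz1]; ring

theorem thetaT_A (l : ↥T →* ℂˣ) {z : G} (hz : z ∈ A) (hz1 : z ≠ 1) : thetaT t ψ l (t * z) = 0 := by
  simp only [thetaT, Pi.sub_apply, S.sumU_A hz hz1, S.twT_A _ hz hz1, sub_zero]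

theorem thetaT_T (l : ↥T →* ℂˣ) {z : G} (hz : z ∈ T) (hz1 : z ≠ 1) :
    thetaT t ψ l (t * z) = 2 * (lin l ⟨z, hz⟩ + lin l ⟨z⁻¹, inv_mem hz⟩) := by
  simp only [thetaT, Pi.sub_apply, S.sumU_T hz hz1, S.twT_T _ hz hz1, sub_zero]

theorem thetaA_t (l : ↥A →* ℂˣ) : thetaA t ψ l t = 4 * ((Q : ℂ) - 1) := by
  simp only [thetaA, Pi.sub_apply, Pi.smul_apply, smul_eq_mul, S.sumU_t, S.twA_t, map_one (lin l)]; ring

theorem thetaA_U (P : PsiPair K U ψ) (l : ↥A →* ℂˣ) {z : G} (hz : z ∈ U) (hz1 : z ≠ 1) :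
    thetaA t ψ l (t * z) = -4 := by
  simp only [thetaA, Pi.sub_apply, Pi.smul_apply, smul_eq_mul, S.sumU_U P hz hz1, S.twA_U _ hz hz1]; ring

theorem thetaA_T (l : ↥A →* ℂˣ) {z : G} (hz : z ∈ T) (hz1 : z ≠ 1) : thetaA t ψ l (t * z) = 0 := by
  simp only [thetaA, Pi.sub_apply, Pi.smul_apply, smul_eq_mul, S.sumU_T hz hz1, S.twA_T _ hz hz1]; ring

theorem thetaA_A (l : ↥A →* ℂˣ) {z : G} (hz : z ∈ A) (hz1 : z ≠ 1) :
    thetaA t ψ l (t * z) = -4 * (lin l ⟨z, hz⟩ + lin l ⟨z⁻¹, inv_mem hz⟩) := by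
  simp only [thetaA, Pi.sub_apply, Pi.smul_apply, smul_eq_mul, S.sumU_A hz hz1, S.twA_A _ hz hz1]; ring

/-! ### Class functions, generalised characters, vanishing at odd order -/

theorem twInd_lin_isGen {B : Subgroup G} (hB : B ≤ K) (l : ↥B →* ℂˣ) :
    IsGeneralizedCharacter G (twInd t B (lin l)) :=
  twInd_isGen S.tt (S.comm_t hB) (S.t_not hB) (lin l)

theorem sumU_isGen : IsGeneralizedCharacter G (sumU t ψ) :=
  Char.IsGeneralizedCharacter.add (S.twInd_lin_isGen S.U_le _) (S.twInd_lin_isGen S.U_le _)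

theorem twInd_one_isGen {B : Subgroup G} (hB : B ≤ K) :
    IsGeneralizedCharacter G (twInd t B fun _ => 1) := by
  rw [← lin_one]; exact S.twInd_lin_isGen hB 1

theorem theta0_isGen : IsGeneralizedCharacter G (theta0 t ψ T) :=
  Char.IsGeneralizedCharacter.sub (S.twInd_one_isGen S.T_le) S.sumU_isGen

theorem thetaT_isGen (l : ↥T →* ℂˣ) : IsGeneralizedCharacter G (thetaT t ψ l) :=
  Char.IsGeneralizedCharacter.sub (S.twInd_lin_isGen S.T_le l) S.sumU_isGen

theorem thetaA_isGen (l : ↥A →* ℂˣ) : IsGeneralizedCharacter G (thetaA t ψ l) := by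
  have e : thetaA t ψ l = ((2 : ℤ) : ℂ) • sumU t ψ - twInd t A (lin l) := by simp [thetaA]
  rw [e]
  exact Char.IsGeneralizedCharacter.sub (Char.IsGeneralizedCharacter.intCast_smul S.sumU_isGen 2)
    (S.twInd_lin_isGen S.A_le l)

theorem twT_inv (l : ↥T →* ℂˣ) : twInd t T (lin l⁻¹) = twInd t T (lin l) := by
  obtain ⟨k, hk, hk2, -, hinv⟩ := S.T_inv
  have hki : k⁻¹ = k := inv_eq_of_mul_eq_one_right hk2
  have hb : ∀ b ∈ T, k⁻¹ * b * k = b⁻¹ := fun b hb => by
    have := hinv b hb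
    rwa [hki] at this ⊢
  refine Eq.trans ?_ (twInd_comp t (lin l : T → ℂ) (S.comm_K k hk).symm fun b => ⟨fun h => ?_, fun h => ?_⟩)
  · refine congrArg _ (funext fun b => ?_)
    rw [lin_apply, lin_apply, MonoidHom.inv_apply, ← map_inv]
    exact congrArg (fun x => ((l x : ℂˣ) : ℂ)) (Subtype.ext (hb b b.2).symm)
  · rw [hb b h]; exact inv_mem h
  · have h2 := hb _ h
    rw [show k⁻¹ * (k⁻¹ * b * k) * k = (k * k)⁻¹ * b * (k * k) by group, hk2, inv_one, one_mul,
      mul_one] at h2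
    exact h2 ▸ inv_mem h

theorem twA_inv (l : ↥A →* ℂˣ) : twInd t A (lin l⁻¹) = twInd t A (lin l) := by
  have hki : r⁻¹ = r := inv_eq_of_mul_eq_one_right S.r_sq
  have hb : ∀ b ∈ A, r⁻¹ * b * r = b⁻¹ := fun b hb => by
    have := S.r_inv b hb
    rwa [hki] at this ⊢
  refine Eq.trans ?_ (twInd_comp t (lin l : A → ℂ) (S.comm_K r S.r_mem).symm fun b => ⟨fun h => ?_, fun h => ?_⟩)
  · refine congrArg _ (funext fun b => ?_)
    rw [lin_apply, lin_apply, MonoidHom.inv_apply, ← map_inv]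
    exact congrArg (fun x => ((l x : ℂˣ) : ℂ)) (Subtype.ext (hb b b.2).symm)
  · rw [hb b h]; exact inv_mem h
  · have h2 := hb _ h
    rw [show r⁻¹ * (r⁻¹ * b * r) * r = (r * r)⁻¹ * b * (r * r) by group, S.r_sq, inv_one, one_mul,
      mul_one] at h2
    exact h2 ▸ inv_mem h

/-- Half of the sum over the non-trivial characters of an odd subgroup. -/
theorem half_isGen {B : Subgroup G} (hB : B ≤ K) (hcomm : ∀ a ∈ B, ∀ b ∈ B, a * b = b * a)
    (hodd : Odd (Nat.card B)) (hinv : ∀ l : ↥B →* ℂˣ, twInd t B (lin l⁻¹) = twInd t B (lin l)) :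
    ∃ f : G → ℂ, IsGeneralizedCharacter G f ∧
      twInd t (⊥ : Subgroup G) (fun _ => 1) - twInd t B (fun _ => 1) = (2 : ℂ) • f := by
  classical
  haveI : Finite (↥B →* ℂˣ) := Nat.finite_of_card_ne_zero (by
    rw [ReeCover.card_dual hcomm]; exact Nat.card_pos.ne')
  letI : Fintype (↥B →* ℂˣ) := Fintype.ofFinite _
  letI : LinearOrder (↥B →* ℂˣ) :=
    LinearOrder.lift' (Fintype.equivFin (↥B →* ℂˣ)) (Equiv.injective _)
  set P : Finset (↥B →* ℂˣ) := Finset.univ.filter fun l => l < l⁻¹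
  have hinvinv : ∀ l : ↥B →* ℂˣ, (l⁻¹)⁻¹ = l := fun l => MonoidHom.ext fun x => inv_inv (l x)
  have hself : ∀ l : ↥B →* ℂˣ, l⁻¹ = l → l = 1 := fun l hl => MonoidHom.ext fun x => by
    have h1 : l x = (l x)⁻¹ := (congrArg (fun f : ↥B →* ℂˣ => f x) hl).symm
    have h2 : l x ^ 2 = 1 := by rw [pow_two]; nth_rw 2 [h1]; exact mul_inv_cancel _
    have h3 : l x ^ Nat.card B = 1 := by rw [← map_pow, pow_card_eq_one', map_one]
    have := (pow_gcd_eq_one (a := l x)).2 ⟨h2, h3⟩
    rwa [Nat.coprime_two_left.2 hodd, pow_one] at this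
  refine ⟨∑ l ∈ P, twInd t B (lin l),
    Char.IsGeneralizedCharacter.sum P fun l _ => S.twInd_lin_isGen hB l, ?_⟩
  have hsplit : Finset.univ.erase (1 : ↥B →* ℂˣ) = P ∪ P.image (·⁻¹) := by
    ext l
    simp only [P, Finset.mem_erase, Finset.mem_union, Finset.mem_filter, Finset.mem_univ, true_and,
      and_true, Finset.mem_image, ne_eq]
    constructor
    · intro hl
      rcases lt_trichotomy l l⁻¹ with h | h | h
      · exact Or.inl h
      · exact absurd (hself l h.symm) hl
      · exact Or.inr ⟨l⁻¹, by rwa [hinvinv], hinvinv l⟩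
    · rintro (h | ⟨m, h, rfl⟩) hl
      · rw [hl, show (1 : ↥B →* ℂˣ)⁻¹ = 1 from MonoidHom.ext fun x => inv_one] at h
        exact lt_irrefl _ h
      · rw [hl, ← hinvinv m, hl, show (1 : ↥B →* ℂˣ)⁻¹ = 1 from MonoidHom.ext fun x => inv_one] at h
        exact lt_irrefl _ h
  have hdisj : Disjoint P (P.image (·⁻¹)) := by
    rw [Finset.disjoint_left]
    intro l hl hl'
    simp only [P, Finset.mem_filter, Finset.mem_image, Finset.mem_univ, true_and] at hl hl'
    obtain ⟨m, hm, rfl⟩ := hl'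
    rw [hinvinv] at hl
    exact lt_asymm hl hm
  rw [← sum_twInd t hcomm, ← Finset.add_sum_erase _ _ (Finset.mem_univ (1 : ↥B →* ℂˣ)), lin_one,
    add_sub_cancel_left, hsplit, Finset.sum_union hdisj,
    Finset.sum_image fun x _ y _ h => by rw [← hinvinv x, ← hinvinv y]; exact congrArg (·⁻¹) h,
    Finset.sum_congr rfl (fun l _ => hinv l), two_smul]

theorem theta_isGen (j : Fin 2) : IsGeneralizedCharacter G (theta t ψ T A j) := by
  obtain ⟨f, hf, ef⟩ := S.half_isGen S.T_le S.T_comm (S.card_T ▸ S.odd_M) S.twT_inv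
  obtain ⟨g, hg, eg⟩ := S.half_isGen S.A_le S.A_comm (S.card_A ▸ S.odd_a) S.twA_inv
  have e : theta t ψ T A j = twInd t U (lin (ψ j)) + (g - f) := by
    funext x
    have e1 := congrFun ef x
    have e2 := congrFun eg x
    simp only [theta, Pi.add_apply, Pi.sub_apply, Pi.smul_apply, smul_eq_mul] at e1 e2 ⊢
    linear_combination (-(1 / 2 : ℂ)) * e1 + (1 / 2 : ℂ) * e2
  rw [e]
  exact Char.IsGeneralizedCharacter.add (S.twInd_lin_isGen S.U_le _)
    (Char.IsGeneralizedCharacter.sub hg hf)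

theorem theta0_class : IsClassFunction G (theta0 t ψ T) :=
  Char.IsGeneralizedCharacter.isClassFunction S.theta0_isGen

theorem theta_class (j : Fin 2) : IsClassFunction G (theta t ψ T A j) :=
  Char.IsGeneralizedCharacter.isClassFunction (S.theta_isGen j)

theorem thetaT_class (l : ↥T →* ℂˣ) : IsClassFunction G (thetaT t ψ l) :=
  Char.IsGeneralizedCharacter.isClassFunction (S.thetaT_isGen l)

theorem thetaA_class (l : ↥A →* ℂˣ) : IsClassFunction G (thetaA t ψ l) :=
  Char.IsGeneralizedCharacter.isClassFunction (S.thetaA_isGen l)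

theorem sumU_odd {g : G} (hg : Odd (orderOf g)) : sumU t ψ g = 0 := by
  simp only [sumU, Pi.add_apply, S.twInd_odd S.U_le (fun _ h => S.exp_U h) _ hg, add_zero]

theorem theta0_odd {g : G} (hg : Odd (orderOf g)) : theta0 t ψ T g = 0 := by
  simp only [theta0, Pi.sub_apply, S.sumU_odd hg, S.twInd_odd S.T_le (fun _ h => S.exp_T h) _ hg,
    sub_zero]

theorem theta_odd (j : Fin 2) {g : G} (hg : Odd (orderOf g)) : theta t ψ T A j g = 0 := by
  simp only [theta, Pi.add_apply, Pi.sub_apply, Pi.smul_apply,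
    S.twInd_odd S.U_le (fun _ h => S.exp_U h) _ hg, S.twInd_odd S.T_le (fun _ h => S.exp_T h) _ hg,
    S.twInd_odd S.A_le (fun _ h => S.exp_A h) _ hg, sub_zero, smul_zero, add_zero]

theorem thetaT_odd (l : ↥T →* ℂˣ) {g : G} (hg : Odd (orderOf g)) : thetaT t ψ l g = 0 := by
  simp only [thetaT, Pi.sub_apply, S.sumU_odd hg, S.twInd_odd S.T_le (fun _ h => S.exp_T h) _ hg,
    sub_zero]

theorem thetaA_odd (l : ↥A →* ℂˣ) {g : G} (hg : Odd (orderOf g)) : thetaA t ψ l g = 0 := by
  simp only [thetaA, Pi.sub_apply, Pi.smul_apply, S.sumU_odd hg,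
    S.twInd_odd S.A_le (fun _ h => S.exp_A h) _ hg, sub_zero, smul_zero]

/-! ### Products -/

open Classical in
/-- Product with a function constant on `t B#`. -/
theorem inner_const {B : Subgroup G} (l : ↥B →* ℂˣ) {f : G → ℂ}
    (hf : IsClassFunction G f) {c : ℂ} (hc : ∀ b ∈ B, b ≠ 1 → f (t * b) = c) :
    classInner (twInd t B (lin l)) f =
      (Nat.card B : ℂ)⁻¹ * (conj (f t) - conj c) + (if l = 1 then conj c else 0) := by
  letI : Fintype B := Fintype.ofFinite B
  have hB : (Nat.card B : ℂ) ≠ 0 := Nat.cast_ne_zero.2 Nat.card_pos.ne'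
  have e : ∀ b : B, lin l b * conj (f (t * b)) =
      conj c * lin l b + (if b = 1 then conj (f t) - conj c else 0) := fun b => by
    by_cases h : b = 1
    · rw [h, if_pos rfl, OneMemClass.coe_one, mul_one, map_one (lin l)]; ring
    · rw [if_neg h, hc b b.2 fun e => h (Subtype.ext e)]; ring
  rw [twInd_inner S.tt _ _ hf, Finset.sum_congr rfl fun b _ => e b, Finset.sum_add_distrib,
    ← Finset.mul_sum, sum_lin, Finset.sum_ite_eq', if_pos (Finset.mem_univ _)]
  split_ifs <;> field_simp <;> ring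

open Classical in
/-- Product with a function which is `c (m + m⁻¹)` on `t B#`. -/
theorem inner_pair {B : Subgroup G} (l m : ↥B →* ℂˣ) {f : G → ℂ}
    (hf : IsClassFunction G f) {c : ℂ}
    (hc : ∀ b (hb : b ∈ B), b ≠ 1 → f (t * b) = c * (lin m ⟨b, hb⟩ + lin m ⟨b⁻¹, inv_mem hb⟩)) :
    classInner (twInd t B (lin l)) f = (Nat.card B : ℂ)⁻¹ * (conj (f t) - 2 * conj c) +
      conj c * ((if l = m then 1 else 0) + (if l = m⁻¹ then 1 else 0)) := by
  letI : Fintype B := Fintype.ofFinite B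
  have hB : (Nat.card B : ℂ) ≠ 0 := Nat.cast_ne_zero.2 Nat.card_pos.ne'
  have e : ∀ b : B, lin l b * conj (f (t * b)) =
      conj c * (lin l b * lin m⁻¹ b) + conj c * (lin l b * lin m b) +
        (if b = 1 then conj (f t) - 2 * conj c else 0) := fun b => by
    by_cases h : b = 1
    · rw [h, if_pos rfl, OneMemClass.coe_one, mul_one, map_one (lin l), map_one (lin m⁻¹),
        map_one (lin m)]; ring
    · rw [if_neg h, hc b b.2 fun e => h (Subtype.ext e), map_mul, map_add, conj_lin_apply,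
        conj_lin_apply, show (⟨(b : G)⁻¹, inv_mem b.2⟩ : B) = b⁻¹ from rfl]
      rw [show lin m⁻¹ b⁻¹ = lin m b by simp [lin_apply]]
      ring
  rw [twInd_inner S.tt _ _ hf, Finset.sum_congr rfl fun b _ => e b, Finset.sum_add_distrib,
    Finset.sum_add_distrib, ← Finset.mul_sum, ← Finset.mul_sum, sum_lin_mul, sum_lin_mul,
    hom_inv_inv m, Finset.sum_ite_eq',
    if_pos (Finset.mem_univ _)]
  split_ifs <;> field_simp <;> ring

theorem inv_M_mul : (M : ℂ)⁻¹ * ((Q : ℂ) - 1) = 2 * ((q : ℂ)⁻¹ * Q) := by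
  have h : 2 * (M : ℂ) * Q = (q : ℂ) * ((Q : ℂ) - 1) := by exact_mod_cast S.two_M_mul
  have hq : (q : ℂ) ≠ 0 := Nat.cast_ne_zero.2 S.q_pos.ne'
  have hM : (M : ℂ) ≠ 0 := Nat.cast_ne_zero.2 S.M_pos.ne'
  field_simp
  linear_combination -h

theorem inv_a_mul : (a : ℂ)⁻¹ * ((Q : ℂ) + 1) = 4 * ((q : ℂ)⁻¹ * Q) := by
  have h : 4 * (a : ℂ) * Q = (q : ℂ) * ((Q : ℂ) + 1) := by exact_mod_cast S.four_a_mul
  have hq : (q : ℂ) ≠ 0 := Nat.cast_ne_zero.2 S.q_pos.ne'
  have ha : (a : ℂ) ≠ 0 := Nat.cast_ne_zero.2 S.a_pos.ne'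
  field_simp
  linear_combination -h

theorem twU_theta0 (P : PsiPair K U ψ) {l : ↥U →* ℂˣ} (hl : l ≠ 1) :
    classInner (twInd t U (lin l)) (theta0 t ψ T) = 2 * ((q : ℂ)⁻¹ * Q) := by
  rw [S.inner_const l S.theta0_class fun b hb h1 => S.theta0_U P hb h1, S.theta0_t, S.card_U,
    if_neg hl]
  simp only [map_mul, map_add, map_intCast, map_ofNat, map_one]
  ring

open Classical in
theorem twT_theta0 (l : ↥T →* ℂˣ) :
    classInner (twInd t T (lin l)) (theta0 t ψ T) = 4 * ((q : ℂ)⁻¹ * Q) + (if l = 1 then 4 else 0) := by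
  rw [S.inner_const l S.theta0_class fun b hb h1 => S.theta0_T hb h1, S.theta0_t, S.card_T]
  simp only [map_mul, map_add, map_intCast, map_ofNat, map_one]
  linear_combination 2 * S.inv_M_mul

theorem twA_theta0 (l : ↥A →* ℂˣ) :
    classInner (twInd t A (lin l)) (theta0 t ψ T) = 8 * ((q : ℂ)⁻¹ * Q) := by
  rw [S.inner_const l S.theta0_class fun b hb h1 => S.theta0_A hb h1, S.theta0_t, S.card_A]
  simp only [map_mul, map_add, map_intCast, map_ofNat, map_one, map_zero, ite_self, add_zero, sub_zero]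
  linear_combination 2 * S.inv_a_mul

theorem twU_theta (l : ↥U →* ℂˣ) (j : Fin 2) :
    classInner (twInd t U (lin l)) (theta t ψ T A j) =
      classInner (twInd t U (lin l)) (twInd t U (lin (ψ j))) + 3 * ((q : ℂ)⁻¹ * Q) - q := by
  classical
  letI : Fintype U := Fintype.ofFinite U
  have hq : (q : ℂ) ≠ 0 := Nat.cast_ne_zero.2 S.q_pos.ne'
  have e : ∀ x : U, lin l x * conj (theta t ψ T A j (t * x)) =
      lin l x * conj (twInd t U (lin (ψ j)) (t * x)) +
        (if x = 1 then 3 * (Q : ℂ) - (q : ℂ) ^ 2 else 0) := fun x => by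
    by_cases h : x = 1
    · rw [h, if_pos rfl, OneMemClass.coe_one, mul_one, S.theta_t, S.twU_t, map_one (lin l),
        map_one (lin (ψ j))]
      simp only [map_sub, map_mul, map_pow, map_natCast, map_intCast, map_ofNat, map_one]
      ring
    · rw [if_neg h, add_zero, S.theta_U j x.2 fun e => h (Subtype.ext e)]
  rw [twInd_inner S.tt _ _ (S.theta_class j), twInd_inner S.tt _ _ (twInd_isClassFunction _ _ _),
    Finset.sum_congr rfl fun x _ => e x, Finset.sum_add_distrib, Finset.sum_ite_eq',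
    if_pos (Finset.mem_univ _), S.card_U]
  field_simp
  ring

open Classical in
theorem twT_theta (l : ↥T →* ℂˣ) (j : Fin 2) :
    classInner (twInd t T (lin l)) (theta t ψ T A j) =
      6 * ((q : ℂ)⁻¹ * Q) + (if l = 1 then 2 else 0) := by
  rw [S.inner_const l (S.theta_class j) fun b hb h1 => S.theta_T j hb h1, S.theta_t, S.card_T]
  simp only [map_mul, map_sub, map_intCast, map_ofNat, map_one]
  linear_combination 3 * S.inv_M_mul

open Classical in
theorem twA_theta (l : ↥A →* ℂˣ) (j : Fin 2) :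
    classInner (twInd t A (lin l)) (theta t ψ T A j) =
      12 * ((q : ℂ)⁻¹ * Q) + (if l = 1 then -4 else 0) := by
  rw [S.inner_const l (S.theta_class j) fun b hb h1 => S.theta_A j hb h1, S.theta_t, S.card_A]
  simp only [map_mul, map_sub, map_neg, map_intCast, map_ofNat, map_one]
  linear_combination 3 * S.inv_a_mul

theorem twU_thetaT (P : PsiPair K U ψ) {l : ↥U →* ℂˣ} (hl : l ≠ 1) (m : ↥T →* ℂˣ) :
    classInner (twInd t U (lin l)) (thetaT t ψ m) = 2 * ((q : ℂ)⁻¹ * Q) := by
  rw [S.inner_const l (S.thetaT_class m) fun b hb h1 => S.thetaT_U P m hb h1, S.thetaT_t, S.card_U,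
    if_neg hl]
  simp only [map_mul, map_add, map_intCast, map_ofNat, map_one]
  ring

open Classical in
theorem twT_thetaT (l m : ↥T →* ℂˣ) :
    classInner (twInd t T (lin l)) (thetaT t ψ m) = 4 * ((q : ℂ)⁻¹ * Q) +
      2 * ((if l = m then 1 else 0) + (if l = m⁻¹ then 1 else 0)) := by
  rw [S.inner_pair l m (S.thetaT_class m) fun b hb h1 => S.thetaT_T m hb h1, S.thetaT_t, S.card_T]
  simp only [map_mul, map_add, map_intCast, map_ofNat, map_one]
  linear_combination 2 * S.inv_M_mul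

theorem twA_thetaT (l : ↥A →* ℂˣ) (m : ↥T →* ℂˣ) :
    classInner (twInd t A (lin l)) (thetaT t ψ m) = 8 * ((q : ℂ)⁻¹ * Q) := by
  rw [S.inner_const l (S.thetaT_class m) fun b hb h1 => S.thetaT_A m hb h1, S.thetaT_t, S.card_A]
  simp only [map_mul, map_add, map_intCast, map_ofNat, map_one, map_zero, ite_self, add_zero, sub_zero]
  linear_combination 2 * S.inv_a_mul

theorem twU_thetaA (P : PsiPair K U ψ) {l : ↥U →* ℂˣ} (hl : l ≠ 1) (m : ↥A →* ℂˣ) :
    classInner (twInd t U (lin l)) (thetaA t ψ m) = 4 * ((q : ℂ)⁻¹ * Q) := by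
  rw [S.inner_const l (S.thetaA_class m) fun b hb h1 => S.thetaA_U P m hb h1, S.thetaA_t, S.card_U,
    if_neg hl]
  simp only [map_mul, map_sub, map_neg, map_intCast, map_ofNat, map_one]
  ring

open Classical in
theorem twA_thetaA (l m : ↥A →* ℂˣ) :
    classInner (twInd t A (lin l)) (thetaA t ψ m) = 16 * ((q : ℂ)⁻¹ * Q) -
      4 * ((if l = m then 1 else 0) + (if l = m⁻¹ then 1 else 0)) := by
  rw [S.inner_pair l m (S.thetaA_class m) fun b hb h1 => S.thetaA_A m hb h1, S.thetaA_t, S.card_A]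
  simp only [map_mul, map_sub, map_neg, map_intCast, map_ofNat, map_one]
  linear_combination 4 * S.inv_a_mul

theorem twT_thetaA (l : ↥T →* ℂˣ) (m : ↥A →* ℂˣ) :
    classInner (twInd t T (lin l)) (thetaA t ψ m) = 8 * ((q : ℂ)⁻¹ * Q) := by
  rw [S.inner_const l (S.thetaA_class m) fun b hb h1 => S.thetaA_T m hb h1, S.thetaA_t, S.card_T]
  simp only [map_mul, map_sub, map_intCast, map_ofNat, map_one, map_zero, ite_self, add_zero, sub_zero]
  linear_combination 4 * S.inv_M_mul

theorem theta0_eq : theta0 t ψ T = twInd t T (lin 1) - sumU t ψ := by rw [lin_one]; rfl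

theorem theta_eq (j : Fin 2) : theta t ψ T A j =
    twInd t U (lin (ψ j)) + (2 : ℂ)⁻¹ • (twInd t T (lin 1) - twInd t A (lin 1)) := by
  rw [lin_one, lin_one]; rfl

theorem sumU_inner (f : G → ℂ) : classInner (sumU t ψ) f =
    classInner (twInd t U (lin (ψ 0))) f + classInner (twInd t U (lin (ψ 1))) f :=
  Char.classInner_add_left _ _ _

theorem inner_theta0_theta0 (P : PsiPair K U ψ) : classInner (theta0 t ψ T) (theta0 t ψ T) = 4 := by
  nth_rw 1 [S.theta0_eq]
  rw [Char.classInner_sub_left, S.sumU_inner, S.twT_theta0, if_pos rfl, S.twU_theta0 P (P.ne_one 0),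
    S.twU_theta0 P (P.ne_one 1)]
  ring

theorem inner_theta0_theta (P : PsiPair K U ψ) (j : Fin 2) :
    classInner (theta0 t ψ T) (theta t ψ T A j) = 2 := by
  rw [S.theta0_eq, Char.classInner_sub_left, S.sumU_inner, S.twT_theta, if_pos rfl, S.twU_theta,
    S.twU_theta, S.inner_psi_psi P, S.inner_psi_psi P]
  obtain rfl | rfl : j = 0 ∨ j = 1 := (by omega) <;> simp <;> ring

theorem inner_theta_theta0 (P : PsiPair K U ψ) (j : Fin 2) :
    classInner (theta t ψ T A j) (theta0 t ψ T) = 2 := by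
  rw [← Char.classInner_conj_symm, S.inner_theta0_theta P j, map_ofNat]

theorem inner_theta_theta (P : PsiPair K U ψ) (j k : Fin 2) :
    classInner (theta t ψ T A j) (theta t ψ T A k) = if j = k then 4 else 2 := by
  nth_rw 1 [S.theta_eq]
  rw [Char.classInner_add_left, Char.classInner_smul_left, Char.classInner_sub_left, S.twT_theta,
    S.twA_theta, S.twU_theta, S.inner_psi_psi P, if_pos rfl, if_pos rfl]
  split_ifs <;> ring

open Classical in
theorem inner_thetaT_thetaT (P : PsiPair K U ψ) (l m : ↥T →* ℂˣ) :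
    classInner (thetaT t ψ l) (thetaT t ψ m) =
      2 * ((if l = m then 1 else 0) + (if l = m⁻¹ then 1 else 0)) := by
  nth_rw 1 [thetaT]
  rw [Char.classInner_sub_left, S.sumU_inner, S.twT_thetaT, S.twU_thetaT P (P.ne_one 0),
    S.twU_thetaT P (P.ne_one 1)]
  ring

open Classical in
theorem inner_thetaA_thetaA (P : PsiPair K U ψ) (l m : ↥A →* ℂˣ) :
    classInner (thetaA t ψ l) (thetaA t ψ m) =
      4 * ((if l = m then 1 else 0) + (if l = m⁻¹ then 1 else 0)) := by
  nth_rw 1 [thetaA]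
  rw [Char.classInner_sub_left, Char.classInner_smul_left, S.sumU_inner, S.twA_thetaA,
    S.twU_thetaA P (P.ne_one 0), S.twU_thetaA P (P.ne_one 1)]
  ring

theorem inner_thetaT_thetaA (P : PsiPair K U ψ) (l : ↥T →* ℂˣ) (m : ↥A →* ℂˣ) :
    classInner (thetaT t ψ l) (thetaA t ψ m) = 0 := by
  rw [thetaT, Char.classInner_sub_left, S.sumU_inner, S.twT_thetaA,
    S.twU_thetaA P (P.ne_one 0), S.twU_thetaA P (P.ne_one 1)]
  ring

theorem inner_thetaA_thetaT (P : PsiPair K U ψ) (m : ↥A →* ℂˣ) (l : ↥T →* ℂˣ) :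
    classInner (thetaA t ψ m) (thetaT t ψ l) = 0 := by
  rw [← Char.classInner_conj_symm, S.inner_thetaT_thetaA P l m, map_zero]

theorem inner_thetaT_theta0 (P : PsiPair K U ψ) {l : ↥T →* ℂˣ} (hl : l ≠ 1) :
    classInner (thetaT t ψ l) (theta0 t ψ T) = 0 := by
  rw [thetaT, Char.classInner_sub_left, S.sumU_inner, S.twT_theta0, if_neg hl,
    S.twU_theta0 P (P.ne_one 0), S.twU_theta0 P (P.ne_one 1)]
  ring

theorem inner_theta0_thetaT (P : PsiPair K U ψ) {l : ↥T →* ℂˣ} (hl : l ≠ 1) :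
    classInner (theta0 t ψ T) (thetaT t ψ l) = 0 := by
  rw [← Char.classInner_conj_symm, S.inner_thetaT_theta0 P hl, map_zero]

theorem inner_thetaT_theta (P : PsiPair K U ψ) {l : ↥T →* ℂˣ} (hl : l ≠ 1) (j : Fin 2) :
    classInner (thetaT t ψ l) (theta t ψ T A j) = 0 := by
  rw [thetaT, Char.classInner_sub_left, S.sumU_inner, S.twT_theta, if_neg hl, S.twU_theta,
    S.twU_theta, S.inner_psi_psi P, S.inner_psi_psi P]
  obtain rfl | rfl : j = 0 ∨ j = 1 := (by omega) <;> simp <;> ring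

theorem inner_theta_thetaT (P : PsiPair K U ψ) {l : ↥T →* ℂˣ} (hl : l ≠ 1) (j : Fin 2) :
    classInner (theta t ψ T A j) (thetaT t ψ l) = 0 := by
  rw [← Char.classInner_conj_symm, S.inner_thetaT_theta P hl j, map_zero]

theorem inner_thetaA_theta0 (P : PsiPair K U ψ) (l : ↥A →* ℂˣ) :
    classInner (thetaA t ψ l) (theta0 t ψ T) = 0 := by
  rw [thetaA, Char.classInner_sub_left, Char.classInner_smul_left, S.sumU_inner, S.twA_theta0,
    S.twU_theta0 P (P.ne_one 0), S.twU_theta0 P (P.ne_one 1)]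
  ring

theorem inner_theta0_thetaA (P : PsiPair K U ψ) (l : ↥A →* ℂˣ) :
    classInner (theta0 t ψ T) (thetaA t ψ l) = 0 := by
  rw [← Char.classInner_conj_symm, S.inner_thetaA_theta0 P l, map_zero]

theorem inner_thetaA_theta (P : PsiPair K U ψ) {l : ↥A →* ℂˣ} (hl : l ≠ 1) (j : Fin 2) :
    classInner (thetaA t ψ l) (theta t ψ T A j) = 0 := by
  rw [thetaA, Char.classInner_sub_left, Char.classInner_smul_left, S.sumU_inner, S.twA_theta,
    if_neg hl, S.twU_theta, S.twU_theta, S.inner_psi_psi P, S.inner_psi_psi P]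
  obtain rfl | rfl : j = 0 ∨ j = 1 := (by omega) <;> simp <;> ring

theorem inner_theta_thetaA (P : PsiPair K U ψ) {l : ↥A →* ℂˣ} (hl : l ≠ 1) (j : Fin 2) :
    classInner (theta t ψ T A j) (thetaA t ψ l) = 0 := by
  rw [← Char.classInner_conj_symm, S.inner_thetaA_theta P hl j, map_zero]

/-! ### Products with the trivial character -/

open Classical in
theorem tw_inner_one {B : Subgroup G} (l : ↥B →* ℂˣ) :
    classInner (twInd t B (lin l)) (fun _ => 1) = if l = 1 then 1 else 0 := by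
  rw [S.inner_const l (f := fun _ => (1 : ℂ)) (fun _ _ => rfl) fun _ _ _ => rfl, sub_self, mul_zero,
    zero_add, map_one]

theorem inner_theta0_one (P : PsiPair K U ψ) : classInner (theta0 t ψ T) (fun _ => 1) = 1 := by
  rw [S.theta0_eq, Char.classInner_sub_left, S.sumU_inner, S.tw_inner_one, S.tw_inner_one,
    S.tw_inner_one, if_pos rfl, if_neg (P.ne_one 0), if_neg (P.ne_one 1)]
  ring

theorem inner_theta_one (P : PsiPair K U ψ) (j : Fin 2) :
    classInner (theta t ψ T A j) (fun _ => 1) = 0 := by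
  rw [S.theta_eq, Char.classInner_add_left, Char.classInner_smul_left, Char.classInner_sub_left,
    S.tw_inner_one, S.tw_inner_one, S.tw_inner_one, if_pos rfl, if_pos rfl, if_neg (P.ne_one j)]
  ring

theorem inner_thetaT_one (P : PsiPair K U ψ) {l : ↥T →* ℂˣ} (hl : l ≠ 1) :
    classInner (thetaT t ψ l) (fun _ => 1) = 0 := by
  rw [thetaT, Char.classInner_sub_left, S.sumU_inner, S.tw_inner_one, S.tw_inner_one, S.tw_inner_one,
    if_neg hl, if_neg (P.ne_one 0), if_neg (P.ne_one 1)]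
  ring

theorem inner_thetaA_one (P : PsiPair K U ψ) {l : ↥A →* ℂˣ} (hl : l ≠ 1) :
    classInner (thetaA t ψ l) (fun _ => 1) = 0 := by
  rw [thetaA, Char.classInner_sub_left, Char.classInner_smul_left, S.sumU_inner, S.tw_inner_one,
    S.tw_inner_one, S.tw_inner_one, if_neg hl, if_neg (P.ne_one 0), if_neg (P.ne_one 1)]
  ring

/-! ### The value at `t` -/

open Classical in
/-- The expansion of the function induced from `⟨t⟩`. -/
theorem bot_eq [Fintype (↥T →* ℂˣ)] [Fintype (↥A →* ℂˣ)] :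
    twInd t (⊥ : Subgroup G) (fun _ => 1) = theta0 t ψ T +
      (((Q : ℂ) - 1) / 2) • (theta t ψ T A 0 + theta t ψ T A 1) +
      (((Q : ℂ) + 1) / 2) • ∑ l ∈ Finset.univ.erase (1 : ↥T →* ℂˣ), thetaT t ψ l +
      (((Q : ℂ) - 1) / 2) • ∑ l ∈ Finset.univ.erase (1 : ↥A →* ℂˣ), thetaA t ψ l := by
  have hT : ((Finset.univ.erase (1 : ↥T →* ℂˣ)).card : ℂ) = (M : ℂ) - 1 := by
    rw [Finset.card_erase_of_mem (Finset.mem_univ _), Finset.card_univ, ← Nat.card_eq_fintype_card,
      ReeCover.card_dual S.T_comm, S.card_T, Nat.cast_sub S.M_pos, Nat.cast_one]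
  have hA : ((Finset.univ.erase (1 : ↥A →* ℂˣ)).card : ℂ) = (a : ℂ) - 1 := by
    rw [Finset.card_erase_of_mem (Finset.mem_univ _), Finset.card_univ, ← Nat.card_eq_fintype_card,
      ReeCover.card_dual S.A_comm, S.card_A, Nat.cast_sub S.a_pos, Nat.cast_one]
  have e1 : 2 * (M : ℂ) * Q = (q : ℂ) * ((Q : ℂ) - 1) := by exact_mod_cast S.two_M_mul
  have e2 : 4 * (a : ℂ) * Q = (q : ℂ) * ((Q : ℂ) + 1) := by exact_mod_cast S.four_a_mul
  have hQ : (Q : ℂ) ≠ 0 := Int.cast_ne_zero.2 fun e => by have := S.mod8; omega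
  have hST : ∑ l ∈ Finset.univ.erase (1 : ↥T →* ℂˣ), twInd t T (lin l) =
      twInd t (⊥ : Subgroup G) (fun _ => 1) - twInd t T (fun _ => 1) := by
    rw [← sum_twInd t S.T_comm, ← Finset.add_sum_erase _ _ (Finset.mem_univ (1 : ↥T →* ℂˣ)), lin_one,
      add_sub_cancel_left]
  have hSA : ∑ l ∈ Finset.univ.erase (1 : ↥A →* ℂˣ), twInd t A (lin l) =
      twInd t (⊥ : Subgroup G) (fun _ => 1) - twInd t A (fun _ => 1) := by
    rw [← sum_twInd t S.A_comm, ← Finset.add_sum_erase _ _ (Finset.mem_univ (1 : ↥A →* ℂˣ)), lin_one,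
      add_sub_cancel_left]
  simp only [thetaT, thetaA, Finset.sum_sub_distrib, Finset.sum_const, ← Nat.cast_smul_eq_nsmul ℂ,
    hT, hA, hST, hSA]
  funext g
  simp only [theta, theta0, sumU, Pi.add_apply, Pi.sub_apply, Pi.smul_apply, smul_eq_mul]
  refine mul_left_cancel₀ hQ ?_
  linear_combination ((twInd t U (lin (ψ 0)) g + twInd t U (lin (ψ 1)) g) / 4) *
    (((Q : ℂ) + 1) * e1 - ((Q : ℂ) - 1) * e2)

open Classical in
/-- The value at `t` from the products. -/
theorem apply_t_expansion [Fintype (↥T →* ℂˣ)] [Fintype (↥A →* ℂˣ)] {χ : G → ℂ}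
    (hχ : IsClassFunction G χ) :
    χ t = classInner χ (theta0 t ψ T) +
      (((Q : ℂ) - 1) / 2) * (classInner χ (theta t ψ T A 0) + classInner χ (theta t ψ T A 1)) +
      (((Q : ℂ) + 1) / 2) * ∑ l ∈ Finset.univ.erase (1 : ↥T →* ℂˣ), classInner χ (thetaT t ψ l) +
      (((Q : ℂ) - 1) / 2) * ∑ l ∈ Finset.univ.erase (1 : ↥A →* ℂˣ), classInner χ (thetaA t ψ l) := by
  rw [← inner_twBot S.tt hχ, S.bot_eq (ψ := ψ)]
  simp only [Char.classInner_add_right, Char.classInner_smul_right, Char.classInner_sum_right,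
    map_div₀, map_sub, map_add, map_intCast, map_one, map_ofNat]

/-! ### Complex conjugation, existence -/

/-- For `Q = q` complex conjugation interchanges `theta 0` and `theta 1`. -/
theorem conj_theta (P : PsiPair K U ψ) (hQ : Q = q) (g : G) :
    conj (theta t ψ T A 0 g) = theta t ψ T A 1 g := by
  have hU : twInd t U (fun x => conj (lin (ψ 0) x)) = twInd t U (lin (ψ 1)) := by
    have hne : (ψ 0)⁻¹ ≠ 1 := fun e => P.ne_one 0 (MonoidHom.ext fun x => by
      have := congrArg (fun f : ↥U →* ℂˣ => f x) e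
      simpa using this)
    obtain ⟨j, k, hk⟩ := S.cover P hne
    have hj : j = 1 := by
      by_contra hj
      obtain rfl : j = 0 := by omega
      have h2 : twK (k * k) (ψ 0) = ψ 0 := by
        rw [S.twK_mul, hk]
        refine MonoidHom.ext fun x => ?_
        have := congrArg (fun f : ↥U →* ℂˣ => (f x)⁻¹) hk
        simp only [MonoidHom.inv_apply, inv_inv] at this
        rw [← this]; rfl
      have hodd : Odd (Nat.card (normK K U)) := by
        have h := S.card_normK
        have hh := S.abs_Q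
        have h8 := S.mod8
        have h1 : (q - 1) / 2 * 2 = q - 1 := by omega
        have h2 : Nat.card (normK K U) = q * ((q - 1) / 2) := by
          rw [← h1, ← mul_assoc] at h; omega
        rw [h2]
        exact S.odd_q.mul (Nat.odd_iff.2 (by omega))
      have hkk : ((k * k : normK K U) : G) ∈ U := (S.twK_eq_self_iff (P.ne_one 0) _).1 h2
      have hkU : (k : G) ∈ U := by
        obtain ⟨n, hn⟩ := hodd
        have hpow : (k : G) ^ (2 * n + 1) = 1 := by
          rw [← hn, ← Subgroup.coe_pow, pow_card_eq_one', OneMemClass.coe_one]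
        have e : (k : G) = ((k * k : normK K U) : G) ^ (n + 1) := by
          rw [Subgroup.coe_mul, ← sq, ← pow_mul, show 2 * (n + 1) = 2 * n + 1 + 1 by ring, pow_succ,
            hpow, one_mul]
        rw [e]; exact pow_mem hkk _
      rw [(S.twK_eq_self_iff (P.ne_one 0) k).2 hkU] at hk
      apply P.ne_one 0
      refine MonoidHom.ext fun x => ?_
      have h3 : ψ 0 x ^ 2 = 1 := by
        have := congrArg (fun f : ↥U →* ℂˣ => f x) hk
        simp only [MonoidHom.inv_apply] at this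
        rw [pow_two]; nth_rw 2 [this]; exact mul_inv_cancel _
      have h4 : ψ 0 x ^ q = 1 := by rw [← map_pow, ← S.card_U, pow_card_eq_one', map_one]
      have := (pow_gcd_eq_one (a := ψ 0 x)).2 ⟨h3, h4⟩
      rwa [Nat.coprime_two_left.2 S.odd_q, pow_one] at this
    subst hj
    have h5 : (fun x => conj (lin (ψ 0) x)) = (lin (twK k (ψ 1)) : U → ℂ) := by
      funext x; rw [hk, conj_lin_apply]
    rw [h5]
    exact twInd_comp t (lin (ψ 1) : U → ℂ) (S.comm_K _ k.2.1).symm fun b =>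
      ⟨fun hb => conj_mem_U k hb, fun hb => by
        have := conj_mem_U k⁻¹ hb
        simpa [mul_assoc] using this⟩
  simp only [theta, Pi.add_apply, Pi.sub_apply, Pi.smul_apply, smul_eq_mul, map_add, map_mul, map_sub,
    map_inv₀, map_ofNat, twInd_conj_fun, map_one, hU]

/-- A pair exists. -/
theorem exists_psiPair : ∃ ψ : Fin 2 → (↥U →* ℂˣ), PsiPair K U ψ := by
  classical
  haveI : Finite (↥U →* ℂˣ) := Nat.finite_of_card_ne_zero (by
    rw [ReeCover.card_dual S.U_comm]; exact Nat.card_pos.ne')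
  letI : Fintype (↥U →* ℂˣ) := Fintype.ofFinite _
  letI : Fintype (normK K U) := Fintype.ofFinite _
  have hcard : Fintype.card (↥U →* ℂˣ) = q := by
    rw [← Nat.card_eq_fintype_card, ReeCover.card_dual S.U_comm, S.card_U]
  obtain ⟨l, hl⟩ := Fintype.exists_ne_of_one_lt_card
    (show 1 < Fintype.card (↥U →* ℂˣ) by have := S.le; omega) 1
  set I : Finset (↥U →* ℂˣ) := Finset.univ.image fun k : normK K U => twK k l with hI
  have hfib : ∀ m ∈ I, q ≤ (Finset.univ.filter fun k : normK K U => twK k l = m).card := by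
    intro m hm
    rw [hI, Finset.mem_image] at hm
    obtain ⟨k, -, hk⟩ := hm
    rw [← S.card_stab hl, Nat.card_eq_fintype_card, ← Finset.card_univ]
    refine Finset.card_le_card_of_injOn (fun s => k * s.1) (fun s _ => ?_)
      fun s _ s' _ h => Subtype.ext (mul_left_cancel h)
    simp only [Finset.mem_coe, Finset.mem_filter, Finset.mem_univ, true_and]
    rw [S.twK_mul, s.2, hk]
  have hle : I.card * q ≤ Nat.card (normK K U) := by
    rw [Nat.card_eq_fintype_card, ← Finset.card_univ,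
      Finset.card_eq_sum_card_fiberwise (f := fun k : normK K U => twK k l) (t := I)
        fun k _ => Finset.mem_image_of_mem _ (Finset.mem_univ k)]
    exact (le_of_eq (by rw [Finset.sum_const, smul_eq_mul])).trans (Finset.sum_le_sum hfib)
  obtain ⟨m, hm⟩ : ∃ m, m ∉ insert 1 I := by
    by_contra! hall
    have h1 : q ≤ I.card + 1 := by
      rw [← hcard, ← Finset.card_univ]
      exact (Finset.card_le_card fun x _ => hall x).trans (Finset.card_insert_le _ _)
    have h2 := S.card_normK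
    have h3 := S.le
    have h4 : 2 * I.card * q ≤ q * (q - 1) := by
      calc 2 * I.card * q = 2 * (I.card * q) := by ring
        _ ≤ 2 * Nat.card (normK K U) := Nat.mul_le_mul_left _ hle
        _ = _ := h2
    rw [mul_comm q] at h4
    have h5 := Nat.le_of_mul_le_mul_right h4 S.q_pos
    omega
  rw [Finset.mem_insert, not_or] at hm
  refine ⟨![l, m], fun j => by fin_cases j; exacts [hl, hm.1], fun k hk hkU => ?_⟩
  by_contra! hall
  apply hm.2
  have hkN : k⁻¹ ∈ normK K U := Subgroup.inv_mem _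
    (Subgroup.mem_inf.2 ⟨hk, Cfsg.Agent.Coprime.mem_normalizer_of_forall hkU⟩)
  rw [hI, Finset.mem_image]
  refine ⟨⟨k⁻¹, hkN⟩, Finset.mem_univ _, MonoidHom.ext fun x => ?_⟩
  rw [twK_apply]
  refine Eq.trans ?_ (hall x)
  exact congrArg l (Subtype.ext (by simp [conjU]))

/-- Complex conjugation permutes the two functions induced from `U`. -/
theorem twU_conj (P : PsiPair K U ψ) (j : Fin 2) :
    ∃ j' : Fin 2, twInd t U (fun x => conj (lin (ψ j) x)) = twInd t U (lin (ψ j')) := by
  have hne : (ψ j)⁻¹ ≠ 1 := fun e => P.ne_one j (MonoidHom.ext fun x => by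
    have := congrArg (fun f : ↥U →* ℂˣ => f x) e
    simpa using this)
  obtain ⟨j', k, hk⟩ := S.cover P hne
  refine ⟨j', ?_⟩
  have h5 : (fun x => conj (lin (ψ j) x)) = (lin (twK k (ψ j')) : U → ℂ) := by
    funext x; rw [hk, conj_lin_apply]
  rw [h5]
  exact twInd_comp t (lin (ψ j') : U → ℂ) (S.comm_K _ k.2.1).symm fun b =>
    ⟨fun hb => conj_mem_U k hb, fun hb => by
      have := conj_mem_U k⁻¹ hb
      simpa [mul_assoc] using this⟩

theorem sumU_conj (P : PsiPair K U ψ) (g : G) : conj (sumU t ψ g) = sumU t ψ g := by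
  obtain ⟨b, hb⟩ := S.twU_conj P 0
  obtain ⟨c, hc⟩ := S.twU_conj P 1
  have hbc : b ≠ c := by
    rintro rfl
    have e : twInd t U (lin (ψ 0)) = twInd t U (lin (ψ 1)) := funext fun x =>
      (starRingEnd ℂ).injective (by rw [twInd_conj_fun, twInd_conj_fun, hb, hc])
    have h1 := S.inner_psi_psi P 0 0
    have h2 := S.inner_psi_psi P 0 1
    rw [← e] at h2
    rw [h1, if_pos rfl, if_neg (by decide)] at h2
    exact two_ne_zero (α := ℂ) (by linear_combination h2)
  simp only [sumU, Pi.add_apply, map_add, twInd_conj_fun, hb, hc]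
  obtain rfl | rfl : b = 0 ∨ b = 1 := by omega
  · rw [show c = 1 by omega]
  · rw [show c = 0 by omega, add_comm]

/-- For `Q = -q` the functions induced from `U` are real. -/
theorem twU_real (P : PsiPair K U ψ) (hQ : Q = -(q : ℤ)) (j : Fin 2) :
    twInd t U (fun x => conj (lin (ψ j) x)) = twInd t U (lin (ψ j)) := by
  classical
  have hN := S.card_normK
  have h8 := S.mod8
  have h2 : 2 ∣ Nat.card (normK K U) := by
    obtain ⟨c, hc⟩ : 4 ∣ q - 1 := by omega
    rw [hc] at hN
    exact ⟨q * c, by linarith⟩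
  haveI := Fact.mk Nat.prime_two
  obtain ⟨k, hk⟩ := exists_prime_orderOf_dvd_card' 2 h2
  have hkk : k * k = 1 := by rw [← pow_two, ← hk, pow_orderOf_eq_one]
  have hkU : (k : G) ∉ U := fun hmem => by
    have h1 : orderOf (⟨k, hmem⟩ : U) = 2 :=
      ((Subgroup.orderOf_coe (⟨(k : G), hmem⟩ : U)).symm.trans (Subgroup.orderOf_coe k)).trans hk
    have h := orderOf_dvd_natCard (⟨k, hmem⟩ : U)
    rw [h1, S.card_U] at h
    have := S.odd_q
    rw [Nat.odd_iff] at this
    omega
  have hinv : ∀ x : U, conjU k x = x⁻¹ := fun x => by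
    have e2 : conjU k (conjU k x) = x := Subtype.ext (by
      have hkk' : (k : G) * k = 1 := congrArg Subtype.val hkk
      have hi : (k : G)⁻¹ = k := inv_eq_of_mul_eq_one_right hkk'
      show (k : G)⁻¹ * ((k : G)⁻¹ * x * k) * k = x
      rw [hi, show (k : G) * (k * x * k) * k = k * k * x * (k * k) by group, hkk', one_mul, mul_one])
    have hc : ∀ u v : U, u * v = v * u := fun u v => Subtype.ext (S.U_comm _ u.2 _ v.2)
    have hy : x * conjU k x = 1 := by
      set y := x * conjU k x with hy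
      by_contra hne
      refine hkU (S.U_cent y y.2 (fun e => hne (Subtype.ext e)) k k.2.1 ?_)
      have h3 : conjU k y = y := by rw [hy, map_mul, e2, hc]
      have h4 : (k : G)⁻¹ * y * k = y := congrArg Subtype.val h3
      show (k : G) * y = y * k
      calc (k : G) * y = k * ((k : G)⁻¹ * y * k) := by rw [h4]
        _ = y * k := by group
    exact eq_inv_of_mul_eq_one_right hy
  have h5 : (fun x => conj (lin (ψ j) x)) = (lin (twK k (ψ j)) : U → ℂ) := by
    funext x
    rw [conj_lin_apply, lin_apply, lin_apply, twK_apply, hinv, MonoidHom.inv_apply, map_inv]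
  rw [h5]
  exact twInd_comp t (lin (ψ j) : U → ℂ) (S.comm_K _ k.2.1).symm fun b =>
    ⟨fun hb => conj_mem_U k hb, fun hb => by
      have := conj_mem_U k⁻¹ hb
      simpa [mul_assoc] using this⟩

theorem conj_theta0 (P : PsiPair K U ψ) (g : G) :
    conj (theta0 t ψ T g) = theta0 t ψ T g := by
  simp only [theta0, Pi.sub_apply, map_sub, S.sumU_conj P, twInd_conj_fun, map_one]

/-- The interface used by the main computation. -/
theorem exists_thetaFacts : ∃ ψ : Fin 2 → (↥U →* ℂˣ), ThetaFacts t ψ T A q Q := by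
  classical
  obtain ⟨ψ, P⟩ := S.exists_psiPair
  refine ⟨ψ,
    { psi_ne := P.ne_one
      gen0 := S.theta0_isGen
      gen := S.theta_isGen
      genT := fun l _ => S.thetaT_isGen l
      genA := fun l _ => S.thetaA_isGen l
      odd0 := fun g hg => S.theta0_odd hg
      odd := fun j g hg => S.theta_odd j hg
      oddT := fun l g hg => S.thetaT_odd l hg
      oddA := fun l g hg => S.thetaA_odd l hg
      tor0 := fun x hx hx1 => S.theta0_A hx hx1
      tor := fun j x hx hx1 => S.theta_A j hx hx1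
      torT := fun l _ x hx hx1 => S.thetaT_A l hx hx1
      torA := fun l x hx1 => S.thetaA_A l x.2 hx1
      one0 := S.inner_theta0_one P
      one := S.inner_theta_one P
      oneT := fun l hl => S.inner_thetaT_one P hl
      oneA := fun l hl => S.inner_thetaA_one P hl
      inner00 := S.inner_theta0_theta0 P
      inner0 := S.inner_theta0_theta P
      inner := S.inner_theta_theta P
      inner0T := fun l hl => S.inner_theta0_thetaT P hl
      inner0A := fun l _ => S.inner_theta0_thetaA P l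
      innerT' := fun j l hl => S.inner_theta_thetaT P hl j
      innerA' := fun j l hl => S.inner_theta_thetaA P hl j
      innerTA := fun l _ m _ => S.inner_thetaT_thetaA P l m
      innerTT := fun l m _ _ => by rw [S.inner_thetaT_thetaT P]; split_ifs <;> norm_num
      innerAA := fun l m _ _ => by rw [S.inner_thetaA_thetaA P]; split_ifs <;> norm_num
      value := fun {_ _} χ hχ => ?_
      conj0 := S.conj_theta0 P
      conj_swap := fun hQ j g => ?_
      conj_fix := fun hQ j g => ?_ }⟩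
  · have hg := Char.isGeneralizedCharacter_of_isCharacter (Char.IsIrrCharacter.isCharacter hχ)
    have hreal : ∀ {f : G → ℂ}, IsGeneralizedCharacter G f → classInner χ f = classInner f χ :=
      fun {f} hf => by
        obtain ⟨m, hm⟩ := Char.IsGeneralizedCharacter.classInner_int hf hg
        rw [← Char.classInner_conj_symm, hm, map_intCast]
    rw [S.apply_t_expansion (ψ := ψ) (Char.IsGeneralizedCharacter.isClassFunction hg),
      hreal S.theta0_isGen, hreal (S.theta_isGen 0), hreal (S.theta_isGen 1)]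
    simp only [hreal (S.thetaT_isGen _), hreal (S.thetaA_isGen _)]
    congr 1
    · congr 1
      refine congrArg _ ?_
      rw [← Finset.add_sum_erase _ _ (Finset.mem_univ (1 : ↥T →* ℂˣ))]
      simp only [if_true, zero_add]
      exact Finset.sum_congr rfl fun l hl => (if_neg (Finset.ne_of_mem_erase hl)).symm
    · refine congrArg _ ?_
      rw [← Finset.add_sum_erase _ _ (Finset.mem_univ (1 : ↥A →* ℂˣ))]
      simp only [if_true, zero_add]
      exact Finset.sum_congr rfl fun l hl => (if_neg (Finset.ne_of_mem_erase hl)).symm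
  · obtain rfl | rfl : j = 0 ∨ j = 1 := by omega
    · exact S.conj_theta P hQ g
    · show _ = theta t ψ T A 0 g
      rw [← S.conj_theta P hQ g, Complex.conj_conj]
  · simp only [theta, Pi.add_apply, Pi.sub_apply, Pi.smul_apply, smul_eq_mul, map_add, map_mul,
      map_sub, map_inv₀, map_ofNat, twInd_conj_fun, map_one, S.twU_real P hQ]

end Sec

end Cfsg.Agent.AbelianSylow.Chars
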