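import Cfsg.Agent.EqLemmas
import Cfsg.Agent.Lib.AbelianSylow.Chars.Basic

/-!
# The torus `H = ⟨t, i⟩ × A` (owner: helper84)

* `Sec.bTorEquiv` : `H ≃ (Bool × Bool) × A`, `(α, β, x) ↦ t^α i^β x`
* `Sec.conj_four` : the action of `w` on `⟨t, i⟩`
* `Sec.rot`      : the characters `x ↦ l (w^j x w^{-j})`, `Sec.rot_distinct`
* `Sec.sum_dual` : orthogonality on `A`
* `Sec.pairCount_tor` : `4 a` pairs of involutions above an element of `H ∖ ⟨t, i⟩`
-/

set_option autoImplicit false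
set_option linter.unusedSectionVars false

namespace Cfsg.Agent.AbelianSylow.Chars

open Subgroup ReeInverted
open scoped ComplexConjugate

universe u

variable {G : Type u} [Group G]

/-- `t^α i^β`. -/
def fourElt (t i : G) (p : Bool × Bool) : G := (if p.1 then t else 1) * (if p.2 then i else 1)

/-- The sign `(-1)^β`. -/
def bsgn (b : Bool) : ℂ := if b then -1 else 1

/-- The action of `w` on the exponents. -/
def cycB (p : Bool × Bool) : Bool × Bool := (p.2, xor p.1 p.2)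

namespace Sec

variable {t i r w : G} {K U A T : Subgroup G} {q a M : ℕ} {Q : ℤ} (S : Sec t i r w K U A T q a M Q)
include S

theorem ii : i * i = 1 := by rw [← pow_two, ← S.order_i, pow_orderOf_eq_one]
theorem inv_t : t⁻¹ = t := inv_eq_of_mul_eq_one_right S.tt
theorem inv_i : i⁻¹ = i := inv_eq_of_mul_eq_one_right S.ii
theorem comm_tA {x : G} (hx : x ∈ A) : Commute t x := S.comm_K x (S.A_le hx)
theorem comm_tr : Commute t r := S.comm_K r S.r_mem

theorem six_le_a : 6 ≤ a := by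
  have := S.four_a; have := S.abs_Q; have := S.le; omega

theorem pow_a {x : G} (hx : x ∈ A) : x ^ a = 1 := by
  have : (⟨x, hx⟩ : ↥A) ^ Nat.card ↥A = 1 := pow_card_eq_one'
  rw [S.card_A] at this
  exact congrArg Subtype.val this

theorem eq_one_of_sq {x : G} (hx : x ∈ A) (h2 : x * x = 1) : x = 1 := by
  obtain ⟨j, hj⟩ := S.odd_a
  have := S.pow_a hx
  rwa [hj, pow_succ, pow_mul, pow_two, h2, one_pow, one_mul] at this

theorem fourElt_sq (p : Bool × Bool) : fourElt t i p * fourElt t i p = 1 := by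
  rcases p with ⟨_ | _, _ | _⟩ <;> simp only [fourElt, Bool.false_eq_true, if_false, if_true, one_mul,
    mul_one, S.tt, S.ii]
  rw [← pow_two, S.comm_ti.mul_pow, pow_two, pow_two, S.tt, S.ii, one_mul]

theorem fourElt_pow (p : Bool × Bool) : fourElt t i p ^ a = fourElt t i p := by
  obtain ⟨j, hj⟩ := S.odd_a
  rw [hj, pow_succ, pow_mul, pow_two, S.fourElt_sq, one_pow, one_mul]

theorem comm_four {x : G} (hx : x ∈ A) (p : Bool × Bool) : Commute (fourElt t i p) x := by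
  rcases p with ⟨_ | _, _ | _⟩ <;> simp only [fourElt, Bool.false_eq_true, if_false, if_true, one_mul,
    mul_one, Commute.one_left]
  · exact S.comm_iA x hx
  · exact S.comm_tA hx
  · exact (S.comm_tA hx).mul_left (S.comm_iA x hx)

theorem fourElt_mul (p p' : Bool × Bool) :
    fourElt t i p * fourElt t i p' = fourElt t i (xor p.1 p'.1, xor p.2 p'.2) := by
  have h1 := S.comm_ti.symm.eq
  rcases p with ⟨_ | _, _ | _⟩ <;> rcases p' with ⟨_ | _, _ | _⟩ <;>
    simp [fourElt, S.tt, S.ii, mul_assoc] <;> simp [← mul_assoc, S.tt, S.ii, h1] <;>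
    simp [mul_assoc, S.tt, S.ii]

theorem split_pow (p : Bool × Bool) {x : G} (hx : x ∈ A) :
    (fourElt t i p * x) ^ a = fourElt t i p ∧ (fourElt t i p * x) ^ (a + 1) = x := by
  have h1 : (fourElt t i p * x) ^ a = fourElt t i p := by
    rw [(S.comm_four hx p).mul_pow, S.fourElt_pow, S.pow_a hx, mul_one]
  exact ⟨h1, by rw [pow_succ, h1, ← mul_assoc, S.fourElt_sq, one_mul]⟩

theorem fourElt_mem (p : Bool × Bool) : fourElt t i p ∈ torH t i A := by
  refine mem_sup_left (mul_mem ?_ ?_) <;> split_ifs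
  · exact mem_sup_left (mem_zpowers t)
  · exact one_mem _
  · exact mem_sup_right (mem_zpowers i)
  · exact one_mem _

theorem A_le_torH : A ≤ torH t i A := le_sup_right

theorem mem_torH {g : G} : g ∈ torH t i A ↔ ∃ p, ∃ x ∈ A, g = fourElt t i p * x := by
  refine ⟨fun hg => ?_, fun ⟨p, x, hx, e⟩ => e ▸ mul_mem (S.fourElt_mem p) (S.A_le_torH hx)⟩
  let H0 : Subgroup G :=
    { carrier := {g | ∃ p, ∃ x ∈ A, g = fourElt t i p * x}
      one_mem' := ⟨(false, false), 1, one_mem _, by simp [fourElt]⟩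
      mul_mem' := by
        rintro _ _ ⟨p, x, hx, rfl⟩ ⟨p', x', hx', rfl⟩
        refine ⟨(xor p.1 p'.1, xor p.2 p'.2), x * x', mul_mem hx hx', ?_⟩
        rw [← S.fourElt_mul p p', mul_assoc, ← mul_assoc x, (S.comm_four hx p').symm.eq]
        simp [mul_assoc]
      inv_mem' := by
        rintro _ ⟨p, x, hx, rfl⟩
        refine ⟨p, x⁻¹, inv_mem hx, ?_⟩
        rw [mul_inv_rev, inv_eq_of_mul_eq_one_right (S.fourElt_sq p)]
        exact ((S.comm_four hx p).inv_right).symm.eq }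
  have hle : torH t i A ≤ H0 := sup_le (sup_le (zpowers_le.2 ⟨(true, false), 1, one_mem _, by simp [fourElt]⟩)
    (zpowers_le.2 ⟨(false, true), 1, one_mem _, by simp [fourElt]⟩))
    fun x hx => ⟨(false, false), x, hx, by simp [fourElt]⟩
  exact hle hg

theorem torH_comm {g g' : G} (hg : g ∈ torH t i A) (hg' : g' ∈ torH t i A) : Commute g g' := by
  obtain ⟨p, x, hx, rfl⟩ := S.mem_torH.1 hg
  obtain ⟨p', x', hx', rfl⟩ := S.mem_torH.1 hg'
  have h4 : Commute (fourElt t i p) (fourElt t i p') := by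
    show _ = _
    rw [S.fourElt_mul, S.fourElt_mul, Bool.xor_comm p.1, Bool.xor_comm p.2]
  exact (h4.mul_right (S.comm_four hx' p)).mul_left
    (((S.comm_four hx p').symm).mul_right (S.A_comm x hx x' hx'))

theorem fourElt_eq_one {p : Bool × Bool} (h : fourElt t i p = 1) : p = (false, false) := by
  rcases p with ⟨_ | _, _ | _⟩ <;> simp only [fourElt, Bool.false_eq_true, if_false, if_true, one_mul,
    mul_one] at h
  · rfl
  · exact absurd h S.i_ne_one
  · exact absurd h S.t_ne_one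
  · refine absurd ?_ S.t_not_mem
    rw [show t = i by rw [mul_eq_one_iff_eq_inv.1 h, S.inv_i]]
    exact S.i_mem

/-- `⟨t, i⟩ × A ≃ H`. -/
noncomputable def bTorEquiv : (Bool × Bool) × ↥A ≃ ↥(torH t i A) :=
  Equiv.ofBijective (fun p => ⟨fourElt t i p.1 * p.2, S.mem_torH.2 ⟨p.1, p.2, p.2.2, rfl⟩⟩) (by
    refine ⟨?_, ?_⟩
    · rintro ⟨p, x⟩ ⟨p', x'⟩ e
      have e' : fourElt t i p * (x : G) = fourElt t i p' * x' := congrArg Subtype.val e
      obtain rfl : x = x' := Subtype.ext (by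
        rw [← (S.split_pow p x.2).2, e', (S.split_pow p' x'.2).2])
      have h := S.fourElt_eq_one (p := (xor p.1 p'.1, xor p.2 p'.2)) (by
        rw [← S.fourElt_mul, mul_right_cancel e', S.fourElt_sq])
      rcases p with ⟨_ | _, _ | _⟩ <;> rcases p' with ⟨_ | _, _ | _⟩ <;> simp at h ⊢
    · rintro ⟨g, hg⟩
      obtain ⟨p, x, hx, rfl⟩ := S.mem_torH.1 hg
      exact ⟨(p, ⟨x, hx⟩), rfl⟩)

theorem bTorEquiv_apply (p : (Bool × Bool) × ↥A) : (S.bTorEquiv p : G) = fourElt t i p.1 * p.2 := rfl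

theorem four_a_ne : (4 : ℂ) * a ≠ 0 := by
  have := S.six_le_a
  exact mul_ne_zero (by norm_num) (Nat.cast_ne_zero.2 (by omega))

theorem w_conj_four (p : Bool × Bool) : w * fourElt t i p * w⁻¹ = fourElt t i (cycB p) := by
  have h2 : w * (t * i) * w⁻¹ = t := by
    calc w * (t * i) * w⁻¹ = (w * t * w⁻¹) * (w * i * w⁻¹) := by group
      _ = t := by rw [S.w_t, S.w_i, ← mul_assoc, S.comm_ti.symm.eq, mul_assoc, S.ii, mul_one]
  rcases p with ⟨_ | _, _ | _⟩ <;> simp [fourElt, cycB, S.w_t, S.w_i, h2]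

theorem conj_four (j : ℕ) (p : Bool × Bool) :
    w ^ j * fourElt t i p * (w ^ j)⁻¹ = fourElt t i (cycB^[j] p) := by
  induction j with
  | zero => simp
  | succ j ih =>
    rw [pow_succ', Function.iterate_succ_apply', ← S.w_conj_four, ← ih]; group

theorem r_conj_four (p : Bool × Bool) : r * fourElt t i p * r⁻¹ = fourElt t i p := by
  have : Commute r (fourElt t i p) := by
    rcases p with ⟨_ | _, _ | _⟩ <;> simp only [fourElt, Bool.false_eq_true, if_false, if_true, one_mul,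
      mul_one, Commute.one_right]
    · exact S.r_i
    · exact S.comm_tr.symm
    · exact S.comm_tr.symm.mul_right S.r_i
  rw [this.eq, mul_inv_cancel_right]

theorem pow_w_A (j : ℕ) {x : G} (hx : x ∈ A) : w ^ j * x * (w ^ j)⁻¹ ∈ A := by
  induction j with
  | zero => simpa
  | succ j ih =>
    rw [pow_succ', show w * w ^ j * x * (w * w ^ j)⁻¹ = w * (w ^ j * x * (w ^ j)⁻¹) * w⁻¹ by group]
    exact S.w_A _ ih

theorem inv_pow_w (j : ℕ) : (w ^ j)⁻¹ = w ^ (2 * j) := inv_eq_of_mul_eq_one_right (by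
  rw [← pow_add, show j + 2 * j = 3 * j by ring, pow_mul, S.w_cube, one_pow])

/-- The twisted character. -/
noncomputable def rot (j : ℕ) (l : ↥A →* ℂˣ) : ↥A →* ℂˣ :=
  l.comp
    { toFun := fun x => ⟨w ^ j * x * (w ^ j)⁻¹, S.pow_w_A j x.2⟩
      map_one' := Subtype.ext (by simp)
      map_mul' := fun x y => Subtype.ext (by simp [mul_assoc]) }

theorem rot_apply (j : ℕ) (l : ↥A →* ℂˣ) (x : ↥A) :
    S.rot j l x = l ⟨w ^ j * x * (w ^ j)⁻¹, S.pow_w_A j x.2⟩ := rfl

theorem rot_zero (l : ↥A →* ℂˣ) : S.rot 0 l = l :=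
  MonoidHom.ext fun x => by rw [S.rot_apply]; congr 1; exact Subtype.ext (by simp)

theorem rot_rot (j k : ℕ) (l : ↥A →* ℂˣ) : S.rot j (S.rot k l) = S.rot (k + j) l :=
  MonoidHom.ext fun x => by
    simp only [S.rot_apply]; congr 1; refine Subtype.ext ?_
    show w ^ k * (w ^ j * (x : G) * (w ^ j)⁻¹) * (w ^ k)⁻¹ = w ^ (k + j) * (x : G) * (w ^ (k + j))⁻¹
    rw [pow_add]; group

theorem rot_three (l : ↥A →* ℂˣ) : S.rot 3 l = l :=
  MonoidHom.ext fun x => by rw [S.rot_apply]; congr 1; exact Subtype.ext (by simp [S.w_cube])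

theorem rot_inv (j : ℕ) (l : ↥A →* ℂˣ) : S.rot j l⁻¹ = (S.rot j l)⁻¹ := rfl

theorem rot_one (j : ℕ) : S.rot j (1 : ↥A →* ℂˣ) = 1 := rfl

theorem rot_inj (j : ℕ) {l l' : ↥A →* ℂˣ} (h : S.rot j l = S.rot j l') : l = l' := by
  have h' := congrArg (S.rot (2 * j)) h
  have hm : ∀ m : ↥A →* ℂˣ, S.rot (3 * j) m = m := fun m => by
    refine MonoidHom.ext fun x => ?_
    rw [S.rot_apply]; congr 1
    exact Subtype.ext (by simp [pow_mul, S.w_cube])
  rwa [S.rot_rot, S.rot_rot, show j + 2 * j = 3 * j by ring, hm l, hm l'] at h'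

/-- Only the trivial character is fixed by `w`. -/
theorem rot_fixed [Finite G] {l : ↥A →* ℂˣ} (h : S.rot 1 l = l) : l = 1 := by
  let f : ↥A → ↥A := fun x => ⟨w * x * w⁻¹ * (x : G)⁻¹, mul_mem (S.w_A _ x.2) (inv_mem x.2)⟩
  have hinj : Function.Injective f := by
    intro x y e
    have e' : w * (x : G) * w⁻¹ * (x : G)⁻¹ = w * (y : G) * w⁻¹ * (y : G)⁻¹ := congrArg Subtype.val e
    have hm : ((y : G)⁻¹ * x) ∈ A := mul_mem (inv_mem y.2) x.2
    have hc : w * ((y : G)⁻¹ * x) * w⁻¹ = (y : G)⁻¹ * x := by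
      have hcm : Commute ((y : G)⁻¹) (w * (x : G) * w⁻¹) := S.A_comm _ (inv_mem y.2) _ (S.w_A _ x.2)
      calc w * ((y : G)⁻¹ * x) * w⁻¹ = (w * (y : G) * w⁻¹)⁻¹ * ((w * (x : G) * w⁻¹ * (x : G)⁻¹) * x) := by
            group
        _ = _ := by rw [e']; group
    exact Subtype.ext (inv_mul_eq_one.1 (S.fpf _ hm (mul_inv_eq_iff_eq_mul.1 hc))).symm
  refine MonoidHom.ext fun z => ?_
  obtain ⟨x, rfl⟩ := Finite.surjective_of_injective hinj z
  have e : f x = (⟨w ^ 1 * x * (w ^ 1)⁻¹, S.pow_w_A 1 x.2⟩ : ↥A) * x⁻¹ :=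
    Subtype.ext (by simp [f])
  rw [e, map_mul, ← S.rot_apply, h, map_inv, mul_inv_cancel, MonoidHom.one_apply]

theorem eq_one_of_eq_inv {l : ↥A →* ℂˣ} (h : l = l⁻¹) : l = 1 := by
  refine MonoidHom.ext fun x => ?_
  obtain ⟨j, hj⟩ := S.odd_a
  have h2 : l x * l x = 1 := by
    nth_rewrite 1 [h]
    rw [MonoidHom.inv_apply, inv_mul_cancel]
  have ha : l x ^ a = 1 := by
    rw [← map_pow, ← map_one l]
    congr 1
    exact Subtype.ext (S.pow_a x.2)
  rwa [hj, pow_succ, pow_mul, pow_two, h2, one_pow, one_mul] at ha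

/-- The six characters `rot j l ^ ±1` are different. -/
theorem rot_distinct [Finite G] {l : ↥A →* ℂˣ} (hl : l ≠ 1) {j k : ℕ} (hj : j < 3) (hk : k < 3)
    (h : S.rot j l = S.rot k l ∨ S.rot j l = (S.rot k l)⁻¹) : j = k ∧ S.rot j l = S.rot k l := by
  have hii : ∀ m : ↥A →* ℂˣ, m⁻¹⁻¹ = m := fun m => MonoidHom.ext fun x => by simp
  have hsymm : ∀ m m' : ↥A →* ℂˣ, m = m'⁻¹ → m' = m⁻¹ := fun m m' e => by rw [e, hii]
  have step : ∀ m : ↥A →* ℂˣ, m ≠ 1 → S.rot 1 m ≠ m ∧ S.rot 1 m ≠ m⁻¹ := fun m hm =>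
    ⟨fun e => hm (S.rot_fixed e), fun e => hm (S.rot_fixed (by
      have e2 : S.rot 2 m = m := by
        rw [show 2 = 1 + 1 from rfl, ← S.rot_rot, e, S.rot_inv, e, hii]
      have e3 := S.rot_three m
      rwa [show 3 = 2 + 1 from rfl, ← S.rot_rot, e2] at e3))⟩
  have hne : ∀ n, S.rot n l ≠ 1 := fun n e => hl (S.rot_inj n (e.trans (S.rot_one n).symm))
  have key : ∀ n, n < 3 → S.rot (n + 1) l ≠ S.rot n l ∧ S.rot (n + 1) l ≠ (S.rot n l)⁻¹ := fun n _ => by
    rw [← S.rot_rot]; exact step _ (hne n)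
  have h3 : S.rot 3 l = S.rot 0 l := by rw [S.rot_three, S.rot_zero]
  obtain ⟨k01, k01'⟩ := key 0 (by omega)
  obtain ⟨k12, k12'⟩ := key 1 (by omega)
  obtain ⟨k20, k20'⟩ := key 2 (by omega)
  rw [show 2 + 1 = 3 from rfl, h3] at k20 k20'
  interval_cases j <;> interval_cases k <;> simp only [Nat.reduceAdd, true_and] at * <;>
    rcases h with h | h <;>
    first
      | rfl
      | exact absurd h (by assumption)
      | exact absurd h.symm (by assumption)
      | exact absurd (hsymm _ _ h) (by assumption)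

/-- Orthogonality on `A`. -/
theorem sum_dual [Fintype ↥A] (l : ↥A →* ℂˣ) [Decidable (l = 1)] :
    ∑ x : ↥A, lin l x = if l = 1 then (a : ℂ) else 0 := by
  split_ifs with h
  · subst h
    simp [lin, ← S.card_A, Nat.card_eq_fintype_card]
  · obtain ⟨x, hx⟩ : ∃ x, l x ≠ 1 := by
      by_contra hno
      push Not at hno
      exact h (MonoidHom.ext hno)
    exact sum_lin_eq_zero (lin l) (x := x) fun e => hx (Units.ext e)

theorem cent_four_mul (p : Bool × Bool) {x : G} (hx : x ∈ A) (hx1 : x ≠ 1) {g : G}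
    (hg : Commute g (fourElt t i p * x)) : g ∈ torH t i A := by
  refine S.cent_A x hx hx1 g ?_
  have := hg.pow_right (a + 1)
  rwa [(S.split_pow p hx).2] at this

/-- The inversions of the elements of `H ∖ ⟨t, i⟩`. -/
theorem pairCount_tor [Finite G] (p : Bool × Bool) {x : G} (hx : x ∈ A) (hx1 : x ≠ 1) :
    pairCount t (fourElt t i p * x) = (4 * a : ℕ) := by
  have hr : ∀ h ∈ torH t i A, r * h * (r * h) = 1 := by
    intro h hh
    obtain ⟨p', z, hz, rfl⟩ := S.mem_torH.1 hh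
    have h1 : r * (fourElt t i p' * z) * r⁻¹ = fourElt t i p' * z⁻¹ := by
      rw [show r * (fourElt t i p' * z) * r⁻¹ = (r * fourElt t i p' * r⁻¹) * (r * z * r⁻¹) by group,
        S.r_conj_four p', S.r_inv z hz]
    have h2 : r⁻¹ = r := inv_eq_of_mul_eq_one_right S.r_sq
    calc r * (fourElt t i p' * z) * (r * (fourElt t i p' * z))
        = r * (fourElt t i p' * z) * r⁻¹ * (fourElt t i p' * z) := by rw [h2]; group
      _ = fourElt t i p' * (z⁻¹ * fourElt t i p') * z := by rw [h1]; group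
      _ = 1 := by
        rw [← ((S.comm_four hz p').inv_right).eq, ← mul_assoc, S.fourElt_sq, one_mul, inv_mul_cancel]
  have hne : ∀ h ∈ torH t i A, r * h ≠ 1 := fun h hh e =>
    S.r_not (eq_inv_of_mul_eq_one_left e ▸ inv_mem hh)
  have hconj : ∀ g : G, g ≠ 1 → g * g = 1 → IsConj t g := fun g h1 h2 =>
    S.one_class g (orderOf_eq_prime (by rw [pow_two]; exact h2) h1)
  have hsq : ∀ g : G, IsConj t g → g * g = 1 := fun g hg => by
    obtain ⟨c, rfl⟩ := _root_.isConj_iff.1 hg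
    calc c * t * c⁻¹ * (c * t * c⁻¹) = c * (t * t) * c⁻¹ := by group
      _ = 1 := by rw [S.tt, mul_one, mul_inv_cancel]
  set v := fourElt t i p * x with hv
  have hvH : v ∈ torH t i A := S.mem_torH.2 ⟨p, x, hx, hv⟩
  rw [pairCount, ClassCount.fibreCount, ← S.card_torH]
  congr 1
  symm
  let f : ↥(torH t i A) → {g : G // IsConj t g ∧ IsConj t (g⁻¹ * v)} := fun h =>
    ⟨r * h, hconj _ (hne _ h.2) (hr _ h.2), by
      rw [inv_eq_of_mul_eq_one_right (hr _ h.2), mul_assoc]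
      exact hconj _ (hne _ (mul_mem h.2 hvH)) (hr _ (mul_mem h.2 hvH))⟩
  refine Nat.card_congr (Equiv.ofBijective f ⟨fun h h' e =>
    Subtype.ext (mul_left_cancel (congrArg Subtype.val e :)), ?_⟩)
  rintro ⟨g, hg, hg'⟩
  have hg2 := hsq g hg
  have hg2' := hsq _ hg'
  rw [inv_eq_of_mul_eq_one_right hg2] at hg2'
  have h1 : g * v * g⁻¹ = v⁻¹ := by
    rw [inv_eq_of_mul_eq_one_right hg2]
    refine eq_inv_of_mul_eq_one_left ?_
    simpa [mul_assoc] using hg2'
  have h2 : g * x * g⁻¹ = x⁻¹ := by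
    have := congrArg (· ^ (a + 1)) h1
    simpa only [conj_pow, inv_pow, hv, (S.split_pow p hx).2] using this
  have hmem : r * g ∈ torH t i A := S.cent_A x hx hx1 _ (mul_inv_eq_iff_eq_mul.1 (by
    calc r * g * x * (r * g)⁻¹ = r * (g * x * g⁻¹) * r⁻¹ := by group
      _ = x := by rw [h2, ← conj_inv, S.r_inv x hx, inv_inv]))
  exact ⟨⟨r * g, hmem⟩, Subtype.ext (by
    show r * (r * g) = g
    rw [← mul_assoc, S.r_sq, one_mul])⟩

end Sec

end Cfsg.Agent.AbelianSylow.Chars
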