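import Cfsg.Agent.EqLemmas
import Cfsg.Agent.Lib.AbelianSylow.Chars.TorBase
import Cfsg.Agent.Lib.Char.Virtual

/-!
# The functions `fMinus` (owner: helper84)

* `Sec.fMinus_isGen`, `Sec.fMinus_one`, `Sec.fMinus_invol`
* `Sec.fMinus_inner`       : `⟨f l, f m⟩ = 2 + [m = l] + [m = l⁻¹]`
* `Sec.fMinus_inner_eq`    : the product with a class function, as a sum over `A`
* `Sec.fMinus_inner_one`, `Sec.fMinus_inner_pairCount` : both `0`
* `Sec.fMinus_inner_section` : functions of the `t`-section given on `t A#` by a function `φ`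
* `Sec.fMinus_inner_const`, `Sec.fMinus_inner_lin`
-/

set_option autoImplicit false
set_option linter.unusedSectionVars false

namespace Cfsg.Agent.AbelianSylow.Chars

open Subgroup ReeInverted
open scoped ComplexConjugate

universe u

variable {G : Type u} [Group G] {t i r w : G} {K U A T : Subgroup G} {q a M : ℕ} {Q : ℤ}
  (S : Sec t i r w K U A T q a M Q)
include S

namespace Sec

theorem t_ne_i : t ≠ i := fun e => S.t_not_mem (e ▸ S.i_mem)

theorem vsgn_four (p : Bool × Bool) : vsgn t (fourElt t i p) = bsgn p.2 := by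
  have h1 : ¬ (i = 1 ∨ i = t) := fun h => h.elim S.i_ne_one fun e => S.t_ne_i e.symm
  have h2 : ¬ (t * i = 1 ∨ t * i = t) := fun h => h.elim
    (fun e => S.t_ne_i (eq_inv_of_mul_eq_one_left e |>.trans S.inv_i))
    fun e => S.i_ne_one (by simpa using e)
  rcases p with ⟨_ | _, _ | _⟩ <;> simp [fourElt, vsgn, bsgn, h1]
  exact if_neg h2

theorem dual_inv_inv (m : ↥A →* ℂˣ) : m⁻¹⁻¹ = m := MonoidHom.ext fun x => by simp

theorem dual_inv_ne {m : ↥A →* ℂˣ} (hm : m ≠ 1) : m⁻¹ ≠ 1 := fun e =>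
  hm (MonoidHom.ext fun x => by simpa using DFunLike.congr_fun e x)

theorem dual_mul_eq_one {l m : ↥A →* ℂˣ} : l * m = 1 ↔ l = m⁻¹ :=
  ⟨fun e => MonoidHom.ext fun x => by
    have := DFunLike.congr_fun e x
    simpa [MonoidHom.mul_apply, mul_eq_one_iff_eq_inv] using this,
   fun e => MonoidHom.ext fun x => by simp [e]⟩

theorem fTor_apply (l : ↥A →* ℂˣ) (p : (Bool × Bool) × ↥A) :
    fTor t i a l (S.bTorEquiv p) = bsgn p.1.2 * (1 - lin l p.2) := by
  obtain ⟨h1, h2⟩ := S.split_pow p.1 p.2.2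
  simp only [fTor, S.bTorEquiv_apply, h1, h2, S.vsgn_four, Char.extendByZero_coe]

theorem bsgn_xor (b b' : Bool) : bsgn (xor b b') = bsgn b * bsgn b' := by
  cases b <;> cases b' <;> simp [bsgn]

theorem fTor_isGen [Finite G] (l : ↥A →* ℂˣ) : IsGeneralizedCharacter ↥(torH t i A) (fTor t i a l) := by
  have hl : ∀ m : ↥A →* ℂˣ, IsCharacter ↥(torH t i A)
      (fun g => bsgn (S.bTorEquiv.symm g).1.2 * lin m (S.bTorEquiv.symm g).2) := by
    intro m
    let e : ↥(torH t i A) →* ℂ :=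
      { toFun := fun g => bsgn (S.bTorEquiv.symm g).1.2 * lin m (S.bTorEquiv.symm g).2
        map_one' := by
          have : S.bTorEquiv.symm (1 : ↥(torH t i A)) = ((false, false), 1) := by
            rw [Equiv.symm_apply_eq]; exact Subtype.ext (by simp [S.bTorEquiv_apply, fourElt])
          rw [this]; simp [bsgn]
        map_mul' := fun g g' => by
          obtain ⟨⟨p, x⟩, rfl⟩ := S.bTorEquiv.surjective g
          obtain ⟨⟨p', x'⟩, rfl⟩ := S.bTorEquiv.surjective g'
          have : S.bTorEquiv (p, x) * S.bTorEquiv (p', x') =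
              S.bTorEquiv ((xor p.1 p'.1, xor p.2 p'.2), x * x') := Subtype.ext (by
            simp only [Subgroup.coe_mul, S.bTorEquiv_apply]
            rw [← S.fourElt_mul, mul_assoc, ← mul_assoc (x : G), (S.comm_four x.2 p').symm.eq]
            simp [mul_assoc])
          rw [this, Equiv.symm_apply_apply, Equiv.symm_apply_apply, Equiv.symm_apply_apply, map_mul,
            S.bsgn_xor]
          ring }
    exact Char.isCharacter_of_hom e
  refine ⟨_, _, hl 1, hl l, funext fun g => ?_⟩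
  obtain ⟨⟨p, x⟩, rfl⟩ := S.bTorEquiv.surjective g
  simp only [Pi.sub_apply, S.fTor_apply, Equiv.symm_apply_apply]
  have : lin (1 : ↥A →* ℂˣ) x = 1 := rfl
  rw [this]; ring

theorem fourElt_conj_mem (p : Bool × Bool) {x : G} (hx : x ∈ A) (hx1 : x ≠ 1) {c : G}
    (hc : c⁻¹ * (fourElt t i p * x) * c ∈ torH t i A) :
    ∃ j < 3, ∃ h ∈ torH t i A, c⁻¹ = w ^ j * h ∨ c⁻¹ = w ^ j * (r * h) := by
  set v := fourElt t i p * x with hv
  obtain ⟨p', z, hz, e⟩ := S.mem_torH.1 hc
  have hz1 : z ≠ 1 := fun e1 => hx1 (by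
    have h2 : c⁻¹ * x * c = z := by
      have := congrArg (· ^ (a + 1)) e
      simp only [(S.split_pow p' hz).2] at this
      rw [← this, show c⁻¹ * v * c = c⁻¹ * v * c⁻¹⁻¹ by rw [inv_inv], conj_pow, hv, (S.split_pow p hx).2,
        inv_inv]
    rw [e1] at h2
    exact conj_eq_one_iff.1 (show c⁻¹ * x * (c⁻¹)⁻¹ = 1 by rw [inv_inv]; exact h2))
  have hin : ∀ u ∈ torH t i A, c⁻¹ * u * c ∈ torH t i A := fun u hu => by
    refine S.cent_four_mul p' hz hz1 ?_
    rw [← e]
    show c⁻¹ * u * c * (c⁻¹ * v * c) = c⁻¹ * v * c * (c⁻¹ * u * c)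
    calc c⁻¹ * u * c * (c⁻¹ * v * c) = c⁻¹ * (u * v) * c := by group
      _ = c⁻¹ * (v * u) * c := by rw [(S.torH_comm hu (S.mem_torH.2 ⟨p, x, hx, hv⟩)).eq]
      _ = _ := by group
  have h1 := hin t (mem_sup_left (mem_sup_left (mem_zpowers t)))
  have h2 := hin i (mem_sup_left (mem_sup_right (mem_zpowers i)))
  exact S.fusion c⁻¹ (by rwa [inv_inv]) (by rwa [inv_inv])

theorem w_pow_injective {j k : ℕ} (hj : j < 3) (hk : k < 3) {h : G} (hh : h ∈ torH t i A)
    (e : (w ^ j)⁻¹ * w ^ k = h ∨ (w ^ j)⁻¹ * w ^ k = r * h) : j = k := by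
  have hc : Commute ((w ^ j)⁻¹ * w ^ k) t := by
    have hht : Commute h t := S.torH_comm hh (mem_sup_left (mem_sup_left (mem_zpowers t)))
    rcases e with e | e <;> rw [e]
    · exact hht
    · exact S.comm_tr.symm.mul_left hht
  have e' : w ^ k * t * (w ^ k)⁻¹ = w ^ j * t * (w ^ j)⁻¹ := by
    have := hc.eq
    calc w ^ k * t * (w ^ k)⁻¹ = w ^ j * (((w ^ j)⁻¹ * w ^ k) * t) * (w ^ k)⁻¹ := by group
      _ = w ^ j * (t * ((w ^ j)⁻¹ * w ^ k)) * (w ^ k)⁻¹ := by rw [this]
      _ = _ := by group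
  rw [show t = fourElt t i (true, false) by simp [fourElt], S.conj_four, S.conj_four] at e'
  interval_cases j <;> interval_cases k <;> first | rfl | exfalso
  all_goals
    simp only [Function.iterate_succ, Function.comp, Function.iterate_zero, id, cycB, Bool.xor_false,
      Bool.false_xor, Bool.true_xor, Bool.xor_true, Bool.not_true, Bool.not_false] at e'
    simp [fourElt, S.t_ne_i, Ne.symm S.t_ne_i, S.i_ne_one, S.t_ne_one] at e'

variable [Fintype G]

/-- The values of `fMinus` on `H ∖ ⟨t, i⟩`. -/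
theorem fMinus_apply (l : ↥A →* ℂˣ) (p : Bool × Bool) (x : ↥A) (hx1 : (x : G) ≠ 1) :
    fMinus t i a l (fourElt t i p * x) = ∑ j : Fin 3, bsgn (cycB^[(j : ℕ)] p).2 *
      ((1 - lin (S.rot j l) x) + (1 - lin (S.rot j l) x⁻¹)) := by
  classical
  have := Fintype.ofFinite ↥(torH t i A)
  set g := fourElt t i p * (x : G) with hg
  have hgH : g ∈ torH t i A := S.mem_torH.2 ⟨p, x, x.2, hg⟩
  have hr2 : r⁻¹ = r := inv_eq_of_mul_eq_one_right S.r_sq
  let f : Fin 3 × Bool × ↥(torH t i A) ↪ G :=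
    ⟨fun o => (w ^ (o.1 : ℕ) * ((if o.2.1 then r else 1) * (o.2.2 : G)))⁻¹, by
      rintro ⟨j, b, v⟩ ⟨j', b', v'⟩ e
      have e' : w ^ (j : ℕ) * ((if b then r else 1) * (v : G)) =
          w ^ (j' : ℕ) * ((if b' then r else 1) * (v' : G)) := inv_injective e
      have hw : (w ^ (j : ℕ))⁻¹ * w ^ (j' : ℕ) =
          (if b then r else 1) * ((v : G) * (v' : G)⁻¹) * (if b' then r else 1) := by
        calc (w ^ (j : ℕ))⁻¹ * w ^ (j' : ℕ) =
            (w ^ (j : ℕ))⁻¹ * (w ^ (j' : ℕ) * ((if b' then r else 1) * (v' : G))) * (v' : G)⁻¹ *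
              (if b' then r else 1)⁻¹ := by group
          _ = _ := by rw [← e']; cases b' <;> simp [hr2, mul_assoc]
      have hv := mul_mem v.2 (inv_mem v'.2)
      obtain ⟨p', z, hz, ez⟩ := S.mem_torH.1 hv
      have hconj : r * ((v : G) * (v' : G)⁻¹) * r ∈ torH t i A := by
        nth_rewrite 2 [← hr2]
        rw [ez, show r * (fourElt t i p' * z) * r⁻¹ = (r * fourElt t i p' * r⁻¹) * (r * z * r⁻¹) by group,
          S.r_conj_four, S.r_inv z hz]
        exact mul_mem (S.fourElt_mem _) (S.A_le_torH (inv_mem hz))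
      have hjj : (j : ℕ) = j' := by
        cases b <;> cases b' <;> simp only [Bool.false_eq_true, if_false, if_true, one_mul, mul_one] at hw
        · exact S.w_pow_injective j.2 j'.2 hv (Or.inl hw)
        · refine S.w_pow_injective j.2 j'.2 hconj (Or.inr ?_)
          rw [hw, ← mul_assoc r (r * _) r, ← mul_assoc r r, S.r_sq, one_mul]
        · exact S.w_pow_injective j.2 j'.2 hv (Or.inr hw)
        · exact S.w_pow_injective j.2 j'.2 hconj (Or.inl hw)
      obtain rfl : j = j' := Fin.ext hjj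
      have e2 := mul_left_cancel e'
      cases b <;> cases b' <;> simp only [Bool.false_eq_true, if_false, if_true, one_mul] at e2
      · rw [Subtype.ext e2]
      · exact absurd (eq_mul_inv_of_mul_eq e2.symm ▸ mul_mem v.2 (inv_mem v'.2)) S.r_not
      · exact absurd (eq_mul_inv_of_mul_eq e2 ▸ mul_mem v'.2 (inv_mem v.2)) S.r_not
      · rw [Subtype.ext (mul_left_cancel e2)]⟩
  simp only [fMinus, indFun]
  rw [← Finset.sum_subset (Finset.subset_univ (Finset.univ.map f))]
  · have hsum : ∀ o : Fin 3 × Bool × ↥(torH t i A),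
        extendByZero (torH t i A) (fTor t i a l) ((f o)⁻¹ * g * f o) =
          bsgn (cycB^[(o.1 : ℕ)] p).2 * (1 - lin (S.rot o.1 l) (if o.2.1 then x⁻¹ else x)) := by
      rintro ⟨j, b, v⟩
      have hv : (v : G) * g * (v : G)⁻¹ = g := by rw [(S.torH_comm v.2 hgH).eq, mul_inv_cancel_right]
      have e : (f (j, b, v))⁻¹ * g * f (j, b, v) =
          (S.bTorEquiv (cycB^[(j : ℕ)] p,
            ⟨_, S.pow_w_A j (if b then x⁻¹ else x).2⟩) : G) := by
        show ((w ^ (j : ℕ) * ((if b then r else 1) * (v : G)))⁻¹)⁻¹ * g *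
          (w ^ (j : ℕ) * ((if b then r else 1) * (v : G)))⁻¹ = _
        calc ((w ^ (j : ℕ) * ((if b then r else 1) * (v : G)))⁻¹)⁻¹ * g *
              (w ^ (j : ℕ) * ((if b then r else 1) * (v : G)))⁻¹
            = w ^ (j : ℕ) * ((if b then r else 1) * ((v : G) * g * (v : G)⁻¹) *
                (if b then r else 1)⁻¹) * (w ^ (j : ℕ))⁻¹ := by group
          _ = w ^ (j : ℕ) * (fourElt t i p * ((if b then x⁻¹ else x : ↥A) : G)) * (w ^ (j : ℕ))⁻¹ := by
            rw [hv, hg]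
            cases b
            · simp
            · simp only [if_true]
              rw [show r * (fourElt t i p * (x : G)) * r⁻¹ =
                (r * fourElt t i p * r⁻¹) * (r * (x : G) * r⁻¹) by group, S.r_conj_four,
                S.r_inv _ x.2, Subgroup.coe_inv]
          _ = _ := by
            rw [S.bTorEquiv_apply, ← S.conj_four]; group
      rw [e, Char.extendByZero_coe, S.fTor_apply]
      rfl
    rw [Finset.sum_map, Finset.sum_congr rfl fun o _ => hsum o]
    simp only [Fintype.sum_prod_type, Fintype.sum_bool, Finset.sum_const, Finset.card_univ,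
      nsmul_eq_mul, Bool.false_eq_true, if_false, if_true]
    rw [← Nat.card_eq_fintype_card, S.card_torH, Finset.mul_sum]
    refine Finset.sum_congr rfl fun j _ => ?_
    have ha : (a : ℂ) ≠ 0 := Nat.cast_ne_zero.2 S.odd_a.pos.ne'
    push_cast
    field_simp
    ring
  · intro c _ hc
    by_contra hne
    apply hc
    have hm : c⁻¹ * g * c ∈ torH t i A := by
      by_contra hm
      exact hne (Char.extendByZero_not_mem _ _ hm)
    obtain ⟨j, hj, v, hv, e | e⟩ := S.fourElt_conj_mem p x.2 hx1 hm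
    · refine Finset.mem_map.2 ⟨(⟨j, hj⟩, false, ⟨v, hv⟩), Finset.mem_univ _, ?_⟩
      show (w ^ j * ((if false = true then r else 1) * v))⁻¹ = c
      rw [show ((if false = true then r else 1) : G) * v = v by simp, ← e, inv_inv]
    · refine Finset.mem_map.2 ⟨(⟨j, hj⟩, true, ⟨v, hv⟩), Finset.mem_univ _, ?_⟩
      show (w ^ j * ((if true = true then r else 1) * v))⁻¹ = c
      rw [if_pos rfl, ← e, inv_inv]

theorem fMinus_isGen (l : ↥A →* ℂˣ) : IsGeneralizedCharacter G (fMinus t i a l) :=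
  Char.IsGeneralizedCharacter.indFun (S.fTor_isGen l)

theorem fMinus_class (l : ↥A →* ℂˣ) : IsClassFunction G (fMinus t i a l) :=
  Char.indFun_isClassFunction _ _

theorem fMinus_invol (l : ↥A →* ℂˣ) {g : G} (hg : g * g = 1) : fMinus t i a l g = 0 := by
  simp only [fMinus, indFun]
  rw [Finset.sum_eq_zero fun c _ => ?_, mul_zero]
  by_cases hm : c⁻¹ * g * c ∈ torH t i A
  · rw [Char.extendByZero_mem _ _ hm]
    obtain ⟨p, x, hx, e⟩ := S.mem_torH.1 hm
    have hx1 : x = 1 := S.eq_one_of_sq hx (by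
      have h2 : (fourElt t i p * x) * (fourElt t i p * x) = 1 := by
        rw [← e]
        calc c⁻¹ * g * c * (c⁻¹ * g * c) = c⁻¹ * (g * g) * c := by group
          _ = 1 := by rw [hg, mul_one, inv_mul_cancel]
      rwa [← pow_two, (S.comm_four hx p).mul_pow, pow_two, pow_two, S.fourElt_sq, one_mul] at h2)
    have e2 : (⟨_, hm⟩ : ↥(torH t i A)) = S.bTorEquiv (p, 1) := Subtype.ext (by
      simp [S.bTorEquiv_apply, e, hx1])
    rw [e2, S.fTor_apply]
    simp
  · exact Char.extendByZero_not_mem _ _ hm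

theorem fMinus_one (l : ↥A →* ℂˣ) : fMinus t i a l 1 = 0 := S.fMinus_invol l (one_mul 1)

theorem fMinus_t (l : ↥A →* ℂˣ) : fMinus t i a l t = 0 := S.fMinus_invol l S.tt

/-- The product with a class function. -/
theorem fMinus_inner_eq (l : ↥A →* ℂˣ) {F : G → ℂ} (hF : IsClassFunction G F) [Fintype ↥A] :
    classInner (fMinus t i a l) F = ((4 : ℂ) * a)⁻¹ * ∑ x : ↥A, (1 - lin l x) *
      conj (F x + F (t * x) - F (i * x) - F (t * i * x)) := by
  classical
  have := Fintype.ofFinite ↥(torH t i A)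
  rw [fMinus, Char.frobenius_reciprocity _ _ hF, classInner, S.card_torH]
  push_cast
  congr 1
  rw [← S.bTorEquiv.sum_comp, Fintype.sum_prod_type, Finset.sum_comm]
  refine Finset.sum_congr rfl fun x _ => ?_
  simp only [Fintype.sum_prod_type, Fintype.sum_bool, S.fTor_apply, S.bTorEquiv_apply, fourElt, bsgn,
    Bool.false_eq_true, if_false, if_true, one_mul, mul_one, map_add, map_sub]
  ring

theorem sum_one_sub [Fintype ↥A] {l : ↥A →* ℂˣ} (hl : l ≠ 1) :
    ∑ x : ↥A, (1 - lin l x) = (a : ℂ) := by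
  classical
  rw [Finset.sum_sub_distrib, S.sum_dual l, if_neg hl, sub_zero, Finset.sum_const, Finset.card_univ,
    nsmul_eq_mul, mul_one, ← Nat.card_eq_fintype_card, S.card_A]

theorem sum_one_sub_lin [Fintype ↥A] [DecidableEq (↥A →* ℂˣ)] {l m : ↥A →* ℂˣ} (hm : m ≠ 1) :
    ∑ x : ↥A, (1 - lin l x) * lin m x = if l = m⁻¹ then -(a : ℂ) else 0 := by
  classical
  have : ∀ x : ↥A, (1 - lin l x) * lin m x = lin m x - lin (l * m) x := fun x => by
    simp [lin, sub_mul]
  rw [Finset.sum_congr rfl fun x _ => this x, Finset.sum_sub_distrib, S.sum_dual m, if_neg hm,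
    S.sum_dual (l * m)]
  by_cases h : l = m⁻¹
  · rw [if_pos (S.dual_mul_eq_one.2 h), if_pos h, zero_sub]
  · rw [if_neg h, if_neg fun e => h (S.dual_mul_eq_one.1 e), sub_zero]

theorem conj_lin' (m : ↥A →* ℂˣ) (x : ↥A) : conj (lin m x) = lin m x⁻¹ := conj_lin (lin m) x

theorem lin_inv (m : ↥A →* ℂˣ) (x : ↥A) : lin m⁻¹ x = lin m x⁻¹ := by
  simp [lin]

/-- The norm and the mutual products. -/
theorem fMinus_inner [DecidableEq (↥A →* ℂˣ)] {l m : ↥A →* ℂˣ} (hl : l ≠ 1) (hm : m ≠ 1) :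
    classInner (fMinus t i a l) (fMinus t i a m) =
      2 + (if l = m then 1 else 0) + (if l = m⁻¹ then 1 else 0) := by
  classical
  have := Fintype.ofFinite ↥A
  rw [S.fMinus_inner_eq l (S.fMinus_class m)]
  have key : ∀ x : ↥A, (1 - lin l x) * conj (fMinus t i a m x + fMinus t i a m (t * x) -
      fMinus t i a m (i * x) - fMinus t i a m (t * i * x)) =
      4 * (2 * (1 - lin l x) - ((1 - lin l x) * lin m x + (1 - lin l x) * lin m⁻¹ x)) := by
    intro x
    by_cases hx : (x : G) = 1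
    · have : x = 1 := Subtype.ext hx
      subst this
      simp
    have e0 := S.fMinus_apply m (false, false) x hx
    have e1 := S.fMinus_apply m (true, false) x hx
    have e2 := S.fMinus_apply m (false, true) x hx
    have e3 := S.fMinus_apply m (true, true) x hx
    simp only [fourElt, Bool.false_eq_true, if_false, if_true, one_mul, mul_one] at e0 e1 e2 e3
    rw [e0, e1, e2, e3, Fin.sum_univ_three, Fin.sum_univ_three, Fin.sum_univ_three, Fin.sum_univ_three]
    simp only [Fin.val_zero, Fin.val_one, Fin.val_two, Function.iterate_zero, id_eq, Function.iterate_one,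
      show ∀ b, cycB^[2] b = cycB (cycB b) from fun _ => rfl, cycB, Bool.xor_false, Bool.false_xor,
      Bool.xor_true, Bool.not_true, Bool.not_false, bsgn, Bool.false_eq_true, if_false, if_true,
      S.rot_zero, map_add, map_sub, map_mul, map_neg, map_one, S.conj_lin', inv_inv, S.lin_inv]
    ring
  rw [Finset.sum_congr rfl fun x _ => key x, ← Finset.mul_sum, Finset.sum_sub_distrib, ← Finset.mul_sum,
    Finset.sum_add_distrib, S.sum_one_sub hl, S.sum_one_sub_lin hm, S.sum_one_sub_lin (S.dual_inv_ne hm),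
    S.dual_inv_inv]
  have ha : (a : ℂ) ≠ 0 := Nat.cast_ne_zero.2 S.odd_a.pos.ne'
  split_ifs <;> field_simp <;> ring

theorem fMinus_inner_one (l : ↥A →* ℂˣ) : classInner (fMinus t i a l) (1 : G → ℂ) = 0 := by
  have := Fintype.ofFinite ↥A
  rw [S.fMinus_inner_eq l (fun _ _ => rfl)]
  simp

theorem fMinus_inner_pairCount (l : ↥A →* ℂˣ) : classInner (fMinus t i a l) (pairCount t) = 0 := by
  have := Fintype.ofFinite ↥A
  rw [S.fMinus_inner_eq l (fun g c => by simp only [pairCount, ClassCount.fibreCount_conj])]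
  refine mul_eq_zero_of_right _ (Finset.sum_eq_zero fun x _ => ?_)
  by_cases hx : (x : G) = 1
  · obtain rfl : x = 1 := Subtype.ext hx
    simp
  · have e := fun p => S.pairCount_tor p x.2 hx
    have e0 := e (false, false)
    have e1 := e (true, false)
    have e2 := e (false, true)
    have e3 := e (true, true)
    simp only [fourElt, Bool.false_eq_true, if_false, if_true, one_mul, mul_one] at e0 e1 e2 e3
    rw [e0, e1, e2, e3]
    simp

/-- Class functions that vanish on `A` and are given on `t A#` by `φ`. -/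
theorem fMinus_inner_section (l : ↥A →* ℂˣ) {F : G → ℂ} (hF : IsClassFunction G F) [Fintype ↥A]
    (h0 : ∀ x ∈ A, F x = 0) (φ : ↥A → ℂ) (hφ : ∀ x : ↥A, (x : G) ≠ 1 → F (t * x) = φ x) :
    classInner (fMinus t i a l) F = ((4 : ℂ) * a)⁻¹ * ∑ x : ↥A, (1 - lin l x) *
      conj (φ x - φ ⟨w ^ 2 * x * (w ^ 2)⁻¹, S.pow_w_A 2 x.2⟩ -
        φ ⟨w ^ 1 * x * (w ^ 1)⁻¹, S.pow_w_A 1 x.2⟩) := by
  rw [S.fMinus_inner_eq l hF]
  congr 1
  refine Finset.sum_congr rfl fun x _ => ?_
  by_cases hx : (x : G) = 1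
  · obtain rfl : x = 1 := Subtype.ext hx
    simp
  have hne : ∀ j, w ^ j * (x : G) * (w ^ j)⁻¹ ≠ 1 := fun j e => hx (conj_eq_one_iff.1 e)
  have conjF : ∀ (j : ℕ) (p : Bool × Bool), cycB^[j] p = (true, false) →
      F (fourElt t i p * x) = φ ⟨w ^ j * x * (w ^ j)⁻¹, S.pow_w_A j x.2⟩ := by
    intro j p hp
    rw [← hφ ⟨w ^ j * x * (w ^ j)⁻¹, S.pow_w_A j x.2⟩ (hne j), ← hF (fourElt t i p * x) (w ^ j)]
    congr 1
    calc w ^ j * (fourElt t i p * (x : G)) * (w ^ j)⁻¹
        = (w ^ j * fourElt t i p * (w ^ j)⁻¹) * (w ^ j * (x : G) * (w ^ j)⁻¹) := by group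
      _ = _ := by rw [S.conj_four, hp]; simp [fourElt]
  have e2 := conjF 2 (false, true) rfl
  have e1 := conjF 1 (true, true) rfl
  simp only [fourElt, Bool.false_eq_true, if_false, if_true, one_mul] at e1 e2
  rw [h0 _ x.2, hφ x hx, e2, e1]
  simp

theorem fMinus_inner_const {l : ↥A →* ℂˣ} (hl : l ≠ 1) {F : G → ℂ} (hF : IsClassFunction G F)
    (h0 : ∀ x ∈ A, F x = 0) (c : ℝ) (hφ : ∀ x : ↥A, (x : G) ≠ 1 → F (t * x) = (c : ℂ)) :
    classInner (fMinus t i a l) F = -(c : ℂ) / 4 := by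
  have := Fintype.ofFinite ↥A
  rw [S.fMinus_inner_section l hF h0 (fun _ => (c : ℂ)) hφ]
  simp only [map_sub, Complex.conj_ofReal, ← Finset.sum_mul, S.sum_one_sub hl]
  have ha : (a : ℂ) ≠ 0 := Nat.cast_ne_zero.2 S.odd_a.pos.ne'
  field_simp
  ring

theorem fMinus_inner_lin [DecidableEq (↥A →* ℂˣ)] (l : ↥A →* ℂˣ) {m : ↥A →* ℂˣ}
    (hm : m ≠ 1) {F : G → ℂ} (hF : IsClassFunction G F) (h0 : ∀ x ∈ A, F x = 0)
    (hφ : ∀ x : ↥A, (x : G) ≠ 1 → F (t * x) = -4 * (lin m x + lin m x⁻¹)) :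
    classInner (fMinus t i a l) F =
      ((if l = m then 1 else 0) + (if l = m⁻¹ then 1 else 0)) -
        ((if l = S.rot 2 m then 1 else 0) + (if l = (S.rot 2 m)⁻¹ then 1 else 0)) -
        ((if l = S.rot 1 m then 1 else 0) + (if l = (S.rot 1 m)⁻¹ then 1 else 0)) := by
  classical
  have := Fintype.ofFinite ↥A
  rw [S.fMinus_inner_section l hF h0 (fun x => -4 * (lin m x + lin m x⁻¹)) hφ]
  have hrot : ∀ (j : ℕ) (x : ↥A),
      lin m (⟨w ^ j * x * (w ^ j)⁻¹, S.pow_w_A j x.2⟩ : ↥A) = lin (S.rot j m) x := fun j x => rfl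
  have hrot' : ∀ (j : ℕ) (x : ↥A),
      lin m (⟨w ^ j * x * (w ^ j)⁻¹, S.pow_w_A j x.2⟩ : ↥A)⁻¹ = lin (S.rot j m) x⁻¹ := fun j x => by
    rw [← hrot]; congr 1; exact Subtype.ext (by simp [mul_assoc])
  have key : ∀ x : ↥A, (1 - lin l x) * conj
      (-4 * (lin m x + lin m x⁻¹) - -4 * (lin (S.rot 2 m) x + lin (S.rot 2 m) x⁻¹) -
        -4 * (lin (S.rot 1 m) x + lin (S.rot 1 m) x⁻¹)) =
      -4 * (((1 - lin l x) * lin m x + (1 - lin l x) * lin m⁻¹ x) -
        ((1 - lin l x) * lin (S.rot 2 m) x + (1 - lin l x) * lin (S.rot 2 m)⁻¹ x) -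
        ((1 - lin l x) * lin (S.rot 1 m) x + (1 - lin l x) * lin (S.rot 1 m)⁻¹ x)) := fun x => by
    simp only [map_add, map_sub, map_mul, map_neg, map_ofNat, S.conj_lin', inv_inv, S.lin_inv]
    ring
  simp only [hrot, hrot']
  have hr : ∀ j, S.rot j m ≠ 1 := fun j e => hm (S.rot_inj j (e.trans (S.rot_one j).symm))
  rw [Finset.sum_congr rfl fun x _ => key x, ← Finset.mul_sum]
  simp only [Finset.sum_sub_distrib, Finset.sum_add_distrib, S.sum_one_sub_lin hm,
    S.sum_one_sub_lin (S.dual_inv_ne hm), S.sum_one_sub_lin (hr 2), S.sum_one_sub_lin (S.dual_inv_ne (hr 2)),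
    S.sum_one_sub_lin (hr 1), S.sum_one_sub_lin (S.dual_inv_ne (hr 1)), S.dual_inv_inv]
  have ha : (a : ℂ) ≠ 0 := Nat.cast_ne_zero.2 S.odd_a.pos.ne'
  split_ifs <;> field_simp <;> ring

end Sec

end Cfsg.Agent.AbelianSylow.Chars
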