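import Cfsg.Agent.EqLemmas
import Cfsg.Agent.Lib.AbelianSylow.Chars.TorInd
import Cfsg.Agent.Lib.AbelianSylow.Chars.Coeff
import Cfsg.Agent.Lib.AbelianSylow.Chars.Pairs
import Cfsg.Agent.Lib.AbelianSylow.Chars.Sys
import Cfsg.Agent.Lib.AbelianSylow.Chars.Theta

/-!
# The system of vectors of a group (owner: helper84)

* `Sec.nonempty_sys'`, `Sec.nonempty_sys` : the vectors of coefficients of `theta0`, `theta`, `thetaT`, `thetaA`, `fMinus`
  form a `Sys`
-/

set_option autoImplicit false
set_option linter.unusedSectionVars false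

namespace Cfsg.Agent.AbelianSylow.Chars

open Matrix Subgroup ReeInverted
open scoped ComplexConjugate

universe u

variable {G : Type u} [Group G] [Fintype G]

theorem sum_ite_subtype {α : Type*} [Fintype α] [DecidableEq α] (a0 : α) [Fintype {x // x ≠ a0}] (f : α → ℂ) :
    (∑ x, if x = a0 then 0 else f x) = ∑ x : {x // x ≠ a0}, f x.1 := by
  rw [← Finset.sum_subtype (Finset.univ.filter (· ≠ a0)) (fun x => by simp) f, Finset.sum_filter]
  exact Finset.sum_congr rfl fun x _ => by by_cases h : x = a0 <;> simp [h]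

theorem dual_inv_eq_one {B : Subgroup G} {l : ↥B →* ℂˣ} (h : l⁻¹ = 1) : l = 1 :=
  MonoidHom.ext fun x => inv_eq_one.1 (congrArg (fun f : ↥B →* ℂˣ => f x) h)

namespace Sec

variable {t i r w : G} {K U A T : Subgroup G} {q a M : ℕ} {Q : ℤ} (S : Sec t i r w K U A T q a M Q)
include S

theorem eq_inv_T {l : ↥T →* ℂˣ} (h : l = l⁻¹) : l = 1 := by
  refine MonoidHom.ext fun x => ?_
  obtain ⟨j, hj⟩ : Odd M := Nat.odd_iff.2 (by have := S.two_M; have := S.mod8; omega)
  have h2 : l x * l x = 1 := by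
    nth_rewrite 1 [h]
    rw [MonoidHom.inv_apply, inv_mul_cancel]
  have ha : l x ^ M = 1 := by
    rw [← map_pow, ← map_one l]
    congr 1
    exact Subtype.ext (S.T_pow x.2)
  rwa [hj, pow_succ, pow_mul, pow_two, h2, one_pow, one_mul] at ha

theorem cent_dvd_card : q * (q ^ 2 - 1) ∣ Nat.card G := S.card_cent ▸ Subgroup.card_subgroup_dvd_card _

theorem odd_order_one : Odd (orderOf (1 : G)) := by rw [orderOf_one]; exact odd_one

theorem odd_order_A {x : G} (hx : x ∈ A) : Odd (orderOf x) :=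
  Odd.of_dvd_nat S.odd_a (orderOf_dvd_of_pow_eq_one (S.A_pow hx))

theorem nonempty_sys' [Fintype (IrrCharacter G)] [DecidableEq (IrrCharacter G)]
    [Fintype {l : ↥T →* ℂˣ // l ≠ 1}] [Fintype {l : ↥A →* ℂˣ // l ≠ 1}] {ψ : Fin 2 → (↥U →* ℂˣ)}
    (H : ThetaFacts t ψ T A q Q) :
    ∃ s : Sys (IrrCharacter G) {l : ↥T →* ℂˣ // l ≠ 1} {l : ↥A →* ℂˣ // l ≠ 1} Q q a (Nat.card G),
      s.deg = degv G ∧ s.val = valv t ∧ s.one = cvec (1 : G → ℂ) ∧ s.c0 = cvec (theta0 t ψ T) ∧
        ∀ j, s.c j = cvec (theta t ψ T A j) := by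
  classical
  haveI : Finite (↥T →* ℂˣ) := Nat.finite_of_card_ne_zero (by
    rw [ReeCover.card_dual S.T_comm]; exact Nat.card_pos.ne')
  haveI : Finite (↥A →* ℂˣ) := Nat.finite_of_card_ne_zero (by
    rw [ReeCover.card_dual S.A_comm]; exact Nat.card_pos.ne')
  letI : Fintype (↥T →* ℂˣ) := Fintype.ofFinite _
  letI : Fintype (↥A →* ℂˣ) := Fintype.ofFinite _
  have h1 := Char.isGeneralizedCharacter_of_isCharacter
    (Char.IsIrrCharacter.isCharacter (Char.isIrrCharacter_one (G := G)))
  have gF := fun l : {l : ↥A →* ℂˣ // l ≠ 1} => S.fMinus_isGen l.1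
  have g0 := H.gen0
  have g := H.gen
  have gT := fun l : {l : ↥T →* ℂˣ // l ≠ 1} => H.genT l.1 l.2
  have gA := fun l : {l : ↥A →* ℂˣ // l ≠ 1} => H.genA l.1 l.2
  -- inner products
  have dot : ∀ {f f' : G → ℂ}, IsGeneralizedCharacter G f → IsGeneralizedCharacter G f' → ∀ {n : ℤ},
      classInner f f' = (n : ℂ) → cvec f ⬝ᵥ cvec f' = n := fun hf hf' n h => by
    exact_mod_cast (show ((cvec _ ⬝ᵥ cvec _ : ℤ) : ℂ) = (n : ℂ) from (cvec_inner hf hf').symm.trans h)
  set χ1 : IrrCharacter G := ⟨1, Char.isIrrCharacter_one⟩ with hχ1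
  have one_eq : cvec (1 : G → ℂ) = Pi.single χ1 1 := cvec_irr χ1
  have one_one : cvec (1 : G → ℂ) ⬝ᵥ cvec (1 : G → ℂ) = 1 := by rw [one_eq]; simp
  have deg_one : degv G ⬝ᵥ cvec (1 : G → ℂ) = 1 := by
    rw [one_eq, dotProduct_single, mul_one]
    exact_mod_cast (show (1 : ℂ) = (degv G χ1 : ℂ) from apply_one_degv χ1).symm
  have st_one : star (cvec (1 : G → ℂ)) = cvec (1 : G → ℂ) := cvec_conj h1 h1 fun _ => by simp
  have cls : ∀ {f : G → ℂ}, IsGeneralizedCharacter G f → IsClassFunction G f := fun hf =>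
    Char.IsGeneralizedCharacter.isClassFunction hf
  -- the rotations
  have rne : ∀ (j : ℕ) (l : {l : ↥A →* ℂˣ // l ≠ 1}), S.rot j l.1 ≠ 1 := fun j l e =>
    l.2 (S.rot_inj j (e.trans (S.rot_one j).symm))
  let rot : Fin 3 → {l : ↥A →* ℂˣ // l ≠ 1} → {l : ↥A →* ℂˣ // l ≠ 1} := fun j l => ⟨S.rot j l.1, rne j l⟩
  have hinv : ∀ l : ↥A →* ℂˣ, l⁻¹⁻¹ = l := fun l => MonoidHom.ext fun x => by simp
  have hinvT : ∀ l : ↥T →* ℂˣ, l⁻¹⁻¹ = l := fun l => MonoidHom.ext fun x => by simp
  have cA_F : ∀ (l : {l : ↥A →* ℂˣ // l ≠ 1}) (m : {l : ↥A →* ℂˣ // l ≠ 1}),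
      cvec (fMinus t i a l.1) ⬝ᵥ cvec (thetaA t ψ m.1) =
        ((if l.1 = m.1 then 1 else 0) + (if l.1 = m.1⁻¹ then 1 else 0)) -
        ((if l.1 = S.rot 2 m.1 then 1 else 0) + (if l.1 = (S.rot 2 m.1)⁻¹ then 1 else 0)) -
        ((if l.1 = S.rot 1 m.1 then 1 else 0) + (if l.1 = (S.rot 1 m.1)⁻¹ then 1 else 0)) := fun l m =>
    dot (gF l) (gA m) (by
      rw [S.fMinus_inner_lin l.1 m.2 (cls (gA m)) (fun x hx => H.oddA m.1 x (S.odd_order_A hx))
        (fun x hx => H.torA m.1 x hx)]
      simp only [Int.cast_sub, Int.cast_add, Int.cast_ite, Int.cast_one, Int.cast_zero])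
  refine ⟨{ deg := degv G
            val := valv t
            nu := nuv G
            st := star
            one := cvec (1 : G → ℂ)
            c0 := cvec (theta0 t ψ T)
            c := fun j => cvec (theta t ψ T A j)
            cT := fun l => cvec (thetaT t ψ l.1)
            cA := fun l => cvec (thetaA t ψ l.1)
            F := fun l => cvec (fMinus t i a l.1)
            rot := rot
            q_le := S.le
            abs_Q := S.abs_Q
            mod8 := S.mod8
            four_a := S.four_a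
            g_pos := Nat.card_pos
            cent_dvd := S.cent_dvd_card
            nonempty := ?_
            deg_pos := degv_pos
            rot_zero := fun l => Subtype.ext (S.rot_zero l.1)
            one_one := one_one
            deg_one := deg_one
            val_one := ?_
            nu_one := ((nuv_real one_one st_one).2 (by rw [deg_one]; exact odd_one)).1 (by rw [deg_one]; norm_num)
            one_c0 := dot g0 h1 (by rw [H.one0, Int.cast_one])
            one_c := fun j => dot (g j) h1 (by rw [H.one j, Int.cast_zero])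
            one_T := fun l => dot (gT l) h1 (by rw [H.oneT l.1 l.2, Int.cast_zero])
            one_A := fun l => dot (gA l) h1 (by rw [H.oneA l.1 l.2, Int.cast_zero])
            one_F := fun l => dot (gF l) h1 (by rw [S.fMinus_inner_one l.1, Int.cast_zero])
            deg_c0 := cvec_deg g0 (H.odd0 1 S.odd_order_one)
            deg_c := fun j => cvec_deg (g j) (H.odd j 1 S.odd_order_one)
            deg_T := fun l => cvec_deg (gT l) (H.oddT l.1 1 S.odd_order_one)
            deg_A := fun l => cvec_deg (gA l) (H.oddA l.1 1 S.odd_order_one)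
            deg_F := fun l => cvec_deg (gF l) (S.fMinus_one l.1)
            c0_c0 := dot g0 g0 (by rw [H.inner00]; norm_num)
            c0_c := fun j => dot g0 (g j) (by rw [H.inner0 j]; norm_num)
            c_c := fun j k => dot (g j) (g k) (by rw [H.inner j k]; split_ifs <;> norm_num)
            c0_T := fun l => dot g0 (gT l) (by rw [H.inner0T l.1 l.2, Int.cast_zero])
            c0_A := fun l => dot g0 (gA l) (by rw [H.inner0A l.1 l.2, Int.cast_zero])
            c_T := fun j l => dot (g j) (gT l) (by rw [H.innerT' j l.1 l.2, Int.cast_zero])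
            c_A := fun j l => dot (g j) (gA l) (by rw [H.innerA' j l.1 l.2, Int.cast_zero])
            T_A := fun l m => dot (gT l) (gA m) (by rw [H.innerTA l.1 l.2 m.1 m.2, Int.cast_zero])
            T_T := fun l => dot (gT l) (gT l) (by
              rw [H.innerTT l.1 l.1 l.2 l.2, if_pos rfl, if_neg fun e => l.2 (S.eq_inv_T e)]; norm_num)
            T_T' := ?_
            T_sum := ?_
            A_A := fun l => dot (gA l) (gA l) (by
              rw [H.innerAA l.1 l.1 l.2 l.2, if_pos rfl, if_neg fun e => l.2 (S.eq_one_of_eq_inv e)]; norm_num)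
            A_sum := ?_
            F_F := ?_
            F_rot := ?_
            F_c0 := ?_
            F_c := ?_
            F_T := ?_
            F_A := ?_
            F_A_sum := ?_
            value := ?_
            eight := fun e he => S.dvd_unit_eight he
            torus := fun e he h => S.dvd_unit_torus he S.fMinus_isGen fun l hl => h ⟨l, hl⟩
            mom_T := ?_
            mom_F := ?_
            mom_A := ?_
            mom_c0 := ?_
            mom_c := ?_
            nu_c0 := S.nuv_cvec g0 H.odd0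
            nu_c := fun j => S.nuv_cvec (g j) (H.odd j)
            st_dot := star_dot
            st_st := star_star
            st_c0 := cvec_conj g0 g0 H.conj0
            st_swap := fun hQ j => ?_
            st_fix := fun hQ j => cvec_conj (g j) (g j) (H.conj_fix hQ j)
            st_one := st_one
            nu_real := fun e he hs => nuv_real he hs
            nu_not_real := fun e he hs => nuv_not_real he hs }, rfl, rfl, rfl, rfl, fun _ => rfl⟩
  · -- nonempty
    by_contra hno
    rw [not_nonempty_iff] at hno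
    have h : ∀ l : ↥A →* ℂˣ, l = 1 := fun l => by_contra fun hl => hno.false ⟨l, hl⟩
    have hc : Nat.card (↥A →* ℂˣ) = 1 := Nat.card_eq_one_iff_unique.2 ⟨⟨fun l m => (h l).trans (h m).symm⟩, ⟨1⟩⟩
    rw [ReeCover.card_dual S.A_comm, S.card_A] at hc
    have := S.six_le_a
    omega
  · -- val_one
    rw [one_eq, dotProduct_single, mul_one]
    have := (S.valv_spec χ1).1
    exact_mod_cast this.symm.trans (show (χ1 : G → ℂ) t = ((1 : ℤ) : ℂ) by simp [hχ1])
  · -- T_T'
    intro l m
    have h := H.innerTT l.1 m.1 l.2 m.2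
    by_cases e : l.1 = m.1
    · right
      refine dot (gT l) (gT m) ?_
      rw [h, if_pos e, if_neg fun e' => m.2 (S.eq_inv_T (e.symm.trans e'))]; norm_num
    · by_cases e' : l.1 = m.1⁻¹
      · exact Or.inr (dot (gT l) (gT m) (by rw [h, if_neg e, if_pos e']; norm_num))
      · exact Or.inl (dot (gT l) (gT m) (by rw [h, if_neg e, if_neg e']; norm_num))
  · -- T_sum
    intro l
    have h : ∀ m : {l : ↥T →* ℂˣ // l ≠ 1}, cvec (thetaT t ψ l.1) ⬝ᵥ cvec (thetaT t ψ m.1) =
        (if l = m then 2 else 0) + (if (⟨l.1⁻¹, fun e => l.2 (dual_inv_eq_one e)⟩ :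
          {l : ↥T →* ℂˣ // l ≠ 1}) = m then 2 else 0) := fun m => dot (gT l) (gT m) (by
      rw [H.innerTT l.1 m.1 l.2 m.2]
      simp only [Subtype.ext_iff, show (l.1 = m.1⁻¹) = (l.1⁻¹ = m.1) from propext
        ⟨fun e => by rw [e, hinvT], fun e => by rw [← e, hinvT]⟩]
      split_ifs <;> norm_num)
    simp only [h, Finset.sum_add_distrib, Finset.sum_ite_eq, Finset.mem_univ, if_true]
    norm_num
  · -- A_sum
    intro l
    have h : ∀ m : {l : ↥A →* ℂˣ // l ≠ 1}, cvec (thetaA t ψ l.1) ⬝ᵥ cvec (thetaA t ψ m.1) =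
        (if l = m then 4 else 0) + (if (⟨l.1⁻¹, fun e => l.2 (dual_inv_eq_one e)⟩ :
          {l : ↥A →* ℂˣ // l ≠ 1}) = m then 4 else 0) := fun m => dot (gA l) (gA m) (by
      rw [H.innerAA l.1 m.1 l.2 m.2]
      simp only [Subtype.ext_iff, show (l.1 = m.1⁻¹) = (l.1⁻¹ = m.1) from propext
        ⟨fun e => by rw [e, hinv], fun e => by rw [← e, hinv]⟩]
      split_ifs <;> norm_num)
    simp only [h, Finset.sum_add_distrib, Finset.sum_ite_eq, Finset.mem_univ, if_true]
    norm_num
  · -- F_F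
    intro l m
    by_cases e : l.1 = m.1
    · right
      refine dot (gF l) (gF m) ?_
      rw [S.fMinus_inner l.2 m.2, if_pos e, if_neg fun e' => m.2 (S.eq_one_of_eq_inv (e.symm.trans e'))]
      norm_num
    · by_cases e' : l.1 = m.1⁻¹
      · exact Or.inr (dot (gF l) (gF m) (by rw [S.fMinus_inner l.2 m.2, if_neg e, if_pos e']; norm_num))
      · exact Or.inl (dot (gF l) (gF m) (by rw [S.fMinus_inner l.2 m.2, if_neg e, if_neg e']; norm_num))
  · -- F_rot
    intro l j k
    refine dot (gF (rot j l)) (gF (rot k l)) ?_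
    rw [S.fMinus_inner (rne j l) (rne k l), if_neg (c := (rot j l).1 = (rot k l).1⁻¹) fun e => ?_]
    · by_cases h : j = k
      · subst h; rw [if_pos rfl, if_pos rfl]; norm_num
      · rw [if_neg h, if_neg fun e => h (Fin.ext (S.rot_distinct l.2 j.2 k.2 (Or.inl e)).1)]; norm_num
    · obtain ⟨-, e2⟩ := S.rot_distinct l.2 j.2 k.2 (Or.inr e)
      exact rne j l (S.eq_one_of_eq_inv (e.trans (congrArg _ e2.symm)))
  · -- F_c0
    intro l
    refine dot g0 (gF l) ?_
    rw [← Char.classInner_conj_symm, S.fMinus_inner_const l.2 (cls g0)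
      (fun x hx => H.odd0 x (S.odd_order_A hx)) 0 (fun x hx => by rw [H.tor0 x x.2 hx, Complex.ofReal_zero])]
    simp
  · -- F_c
    intro l j
    refine dot (g j) (gF l) ?_
    rw [← Char.classInner_conj_symm, S.fMinus_inner_const l.2 (cls (g j))
      (fun x hx => H.odd j x (S.odd_order_A hx)) (-4) (fun x hx => by rw [H.tor j x x.2 hx]; norm_num)]
    simp
  · -- F_T
    intro l m
    refine dot (gT m) (gF l) ?_
    rw [← Char.classInner_conj_symm, S.fMinus_inner_const l.2 (cls (gT m))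
      (fun x hx => H.oddT m.1 x (S.odd_order_A hx)) 0
      (fun x hx => by rw [H.torT m.1 m.2 x x.2 hx, Complex.ofReal_zero])]
    simp
  · -- F_A
    intro l j
    rw [cA_F (rot j l) l]
    have hne : ∀ {j k : ℕ}, j < 3 → k < 3 → S.rot j l.1 ≠ (S.rot k l.1)⁻¹ := fun {j k} hj hk e => by
      obtain ⟨-, e2⟩ := S.rot_distinct l.2 hj hk (Or.inr e)
      exact rne j l (S.eq_one_of_eq_inv (e.trans (congrArg _ e2.symm)))
    have heq : ∀ {j k : ℕ}, j < 3 → k < 3 → (S.rot j l.1 = S.rot k l.1 ↔ j = k) := fun hj hk =>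
      ⟨fun e => (S.rot_distinct l.2 hj hk (Or.inl e)).1, fun e => by rw [e]⟩
    simp only [rot]
    have hj := j.2
    have e0 : S.rot (j : ℕ) l.1 = l.1 ↔ (j : ℕ) = 0 := by
      have h := heq hj (show 0 < 3 by norm_num)
      rwa [S.rot_zero] at h
    have n0 : S.rot (j : ℕ) l.1 ≠ l.1⁻¹ := by
      have h := hne hj (show 0 < 3 by norm_num)
      rwa [S.rot_zero] at h
    simp only [e0, heq hj (show 1 < 3 by norm_num), heq hj (show 2 < 3 by norm_num), if_neg n0,
      if_neg (hne hj (show 1 < 3 by norm_num)), if_neg (hne hj (show 2 < 3 by norm_num)), add_zero]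
    fin_cases j <;> simp
  · -- F_A_sum
    intro l
    simp only [cA_F, Finset.sum_sub_distrib, Finset.sum_add_distrib]
    have hsum : ∀ σ : {l : ↥A →* ℂˣ // l ≠ 1} → {l : ↥A →* ℂˣ // l ≠ 1}, Function.Injective σ →
        (∑ m, if l.1 = (σ m).1 then (1 : ℤ) else 0) = 1 := fun σ hσ => by
      obtain ⟨m0, rfl⟩ := Finite.surjective_of_injective hσ l
      rw [Finset.sum_eq_single m0 (fun m _ hm => if_neg fun e => hm (hσ (Subtype.ext e)).symm)
        (fun h => absurd (Finset.mem_univ _) h), if_pos rfl]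
    have inj : ∀ j, Function.Injective fun m : {l : ↥A →* ℂˣ // l ≠ 1} =>
        (⟨S.rot j m.1, rne j m⟩ : {l : ↥A →* ℂˣ // l ≠ 1}) := fun j m m' e =>
      Subtype.ext (S.rot_inj j (congrArg Subtype.val e))
    let inv' : {l : ↥A →* ℂˣ // l ≠ 1} → {l : ↥A →* ℂˣ // l ≠ 1} := fun m =>
      ⟨m.1⁻¹, fun e => m.2 (dual_inv_eq_one e)⟩
    have iinj : Function.Injective inv' := fun m m' e => by
      have := congrArg (fun z : {l : ↥A →* ℂˣ // l ≠ 1} => z.1⁻¹) e
      exact Subtype.ext (by simpa only [inv', hinv] using this)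
    rw [show (∑ m : {l : ↥A →* ℂˣ // l ≠ 1}, if l.1 = m.1 then (1 : ℤ) else 0) = 1 from hsum id fun _ _ e => e,
      show (∑ m : {l : ↥A →* ℂˣ // l ≠ 1}, if l.1 = m.1⁻¹ then (1 : ℤ) else 0) = 1 from hsum inv' iinj,
      show (∑ m : {l : ↥A →* ℂˣ // l ≠ 1}, if l.1 = S.rot 2 m.1 then (1 : ℤ) else 0) = 1 from hsum _ (inj 2),
      show (∑ m : {l : ↥A →* ℂˣ // l ≠ 1}, if l.1 = (S.rot 2 m.1)⁻¹ then (1 : ℤ) else 0) = 1 from
        hsum _ (iinj.comp (inj 2)),
      show (∑ m : {l : ↥A →* ℂˣ // l ≠ 1}, if l.1 = S.rot 1 m.1 then (1 : ℤ) else 0) = 1 from hsum _ (inj 1),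
      show (∑ m : {l : ↥A →* ℂˣ // l ≠ 1}, if l.1 = (S.rot 1 m.1)⁻¹ then (1 : ℤ) else 0) = 1 from
        hsum _ (iinj.comp (inj 1))]
    norm_num
  · -- value
    intro χ
    have h := H.value (χ : G → ℂ) χ.2
    simp only [sum_ite_subtype, (S.valv_spec χ).1, cvec_spec g0, cvec_spec (g _), cvec_spec (gT _),
      cvec_spec (gA _)] at h
    have h2 : ((2 * valv t χ : ℤ) : ℂ) = ((2 * cvec (theta0 t ψ T) χ +
        (Q - 1) * (cvec (theta t ψ T A 0) χ + cvec (theta t ψ T A 1) χ) +
        (Q + 1) * ∑ m : {l : ↥T →* ℂˣ // l ≠ 1}, cvec (thetaT t ψ m.1) χ +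
        (Q - 1) * ∑ m : {l : ↥A →* ℂˣ // l ≠ 1}, cvec (thetaA t ψ m.1) χ : ℤ) : ℂ) := by
      push_cast
      linear_combination 2 * h
    exact_mod_cast h2
  · -- mom_T
    intro l
    have h := S.mom_eq (gT l)
    rw [S.classInner_thetaT_pairCount H.psi_ne l.2, mul_zero] at h
    apply Rat.cast_injective (α := ℂ)
    simp only [mom] at h
    rw [h, Rat.cast_zero]
  · -- mom_F
    intro l
    have h := S.mom_eq (gF l)
    rw [S.fMinus_inner_pairCount l.1, mul_zero] at h
    apply Rat.cast_injective (α := ℂ)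
    simp only [mom] at h
    rw [h, Rat.cast_zero]
  · -- mom_A
    intro l
    have h := S.mom_eq (gA l)
    rw [S.classInner_thetaA_pairCount H.psi_ne l.2] at h
    apply Rat.cast_injective (α := ℂ)
    simp only [mom] at h
    rw [h]; push_cast; rfl
  · -- mom_c0
    have h := S.mom_eq g0
    rw [S.classInner_theta0_pairCount H.psi_ne] at h
    apply Rat.cast_injective (α := ℂ)
    simp only [mom] at h
    rw [h]; push_cast
    congr 1
    have hQ : (Q : ℂ) ≠ 0 := by
      have := S.abs_Q; have := S.le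
      exact_mod_cast (show Q ≠ 0 by omega)
    rw [eq_div_iff hQ]
    have h2 : ((2 * (M : ℤ) * Q : ℤ) : ℂ) = (((q : ℤ) * (Q - 1) : ℤ) : ℂ) := by
      have := S.two_M; have := S.abs_Q; have := S.le
      congr 1
      rcases (show Q = (q : ℤ) ∨ Q = -(q : ℤ) by omega) with e | e
      · rw [show 2 * (M : ℤ) = Q - 1 by omega]; rw [e]; ring
      · rw [show 2 * (M : ℤ) = -(Q - 1) by omega]; rw [e]; ring
    push_cast at h2
    linear_combination h2
  · -- mom_c
    intro j
    have h := S.mom_eq (g j)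
    rw [S.classInner_theta_pairCount H.psi_ne j] at h
    apply Rat.cast_injective (α := ℂ)
    simp only [mom] at h
    rw [h]; push_cast; rfl
  · -- st_swap
    refine cvec_conj (g (1 - j)) (g j) fun x => ?_
    rw [H.conj_swap hQ (1 - j) x, show 1 - (1 - j) = j by fin_cases j <;> rfl]

open scoped Classical in
theorem nonempty_sys [Fintype (IrrCharacter G)] [Fintype {l : ↥T →* ℂˣ // l ≠ 1}]
    [Fintype {l : ↥A →* ℂˣ // l ≠ 1}] {ψ : Fin 2 → (↥U →* ℂˣ)} (H : ThetaFacts t ψ T A q Q) :
    ∃ s : Sys (IrrCharacter G) {l : ↥T →* ℂˣ // l ≠ 1} {l : ↥A →* ℂˣ // l ≠ 1} Q q a (Nat.card G),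
      s.deg = degv G ∧ s.val = valv t :=
  (S.nonempty_sys' H).imp fun _ h => ⟨h.1, h.2.1⟩

end Sec

end Cfsg.Agent.AbelianSylow.Chars
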