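import Cfsg.Agent.EqLemmas
import Cfsg.Agent.Lib.AbelianSylow.Chars.SysInst
import Cfsg.Agent.Lib.AbelianSylow.Chars.SysA
import Cfsg.Agent.Lib.AbelianSylow.Chars.SysB
import Cfsg.Agent.Lib.AbelianSylow.Chars.SysC
import Cfsg.Agent.Lib.AbelianSylow.Chars.SecExists
import Cfsg.Agent.Lib.AbelianSylow.Three.ThreeMod

/-!
# The result of the character computation (owner: helper84)

* `Sys.exists_caseA` : only case (ii) is left
* `Sec.order` : `|G| = q³ (q³ + 1) (q - 1)` for `Q = q`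
* `Sec.neg_false` : `Q = -q` is impossible
* `threeTarget`, `orderTarget` : parts (b) and (c) of `Targets.lean`
-/

set_option autoImplicit false
set_option linter.unusedSectionVars false

namespace Cfsg.Agent.AbelianSylow.Chars

open Subgroup

universe u v

namespace Sys

variable {X : Type u} [Fintype X] [DecidableEq X] {TD AD : Type v} [Fintype TD] [Fintype AD]
variable {Q : ℤ} {q a g : ℕ}

theorem exists_caseA (s : Sys X TD AD Q q a g) :
    ∃ W D ea eb ec, s.Core W D ∧ CaseA s W D ea eb ec := by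
  obtain ⟨W, D, C⟩ := s.exists_core
  rcases exists_rows C with ⟨ea, eb, ec, H⟩ | ⟨e, u, u', w, w', H⟩ | ⟨e, u, u', w, H⟩
  · exact ⟨W, D, ea, eb, ec, C, H⟩
  · exact (caseB_false C H).elim
  · exact (caseC_false C H).elim

end Sys

namespace Sec

variable {G : Type u} [Group G] [Fintype G] {t i r w : G} {K U A T : Subgroup G} {q a M : ℕ} {Q : ℤ}
  (S : Sec t i r w K U A T q a M Q)
include S

open scoped Classical in
theorem exists_sys [Fintype (IrrCharacter G)] [Fintype {l : ↥T →* ℂˣ // l ≠ 1}]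
    [Fintype {l : ↥A →* ℂˣ // l ≠ 1}] :
    ∃ s : Sys (IrrCharacter G) {l : ↥T →* ℂˣ // l ≠ 1} {l : ↥A →* ℂˣ // l ≠ 1} Q q a (Nat.card G),
      s.deg = degv G ∧ s.val = valv t :=
  S.exists_thetaFacts.elim fun _ H => S.nonempty_sys H

/-- The order. -/
theorem order (hQ : Q = (q : ℤ)) : Nat.card G = q ^ 3 * (q ^ 3 + 1) * (q - 1) := by
  classical
  letI := Fintype.ofFinite (IrrCharacter G)
  haveI : Finite (↥T →* ℂˣ) := Nat.finite_of_card_ne_zero (by
    rw [ReeCover.card_dual S.T_comm]; exact Nat.card_pos.ne')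
  haveI : Finite (↥A →* ℂˣ) := Nat.finite_of_card_ne_zero (by
    rw [ReeCover.card_dual S.A_comm]; exact Nat.card_pos.ne')
  letI := Fintype.ofFinite {l : ↥T →* ℂˣ // l ≠ 1}
  letI := Fintype.ofFinite {l : ↥A →* ℂˣ // l ≠ 1}
  obtain ⟨s, -, -⟩ := S.exists_sys
  obtain ⟨W, D, ea, eb, ec, C, H⟩ := s.exists_caseA
  have h := (Sys.caseA_order C H).1
  have h1 : 1 ≤ q := by have := S.le; omega
  rw [hQ] at h
  have h' : ((Nat.card G : ℕ) : ℤ) = ((q ^ 3 * (q ^ 3 + 1) * (q - 1) : ℕ) : ℤ) := by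
    rw [h]; push_cast [Nat.cast_sub h1]; ring
  exact_mod_cast h'

/-- `q ≡ 5 (mod 8)` does not occur. -/
theorem neg_false (hQ : Q = -(q : ℤ)) : False := by
  classical
  letI := Fintype.ofFinite (IrrCharacter G)
  haveI : Finite (↥T →* ℂˣ) := Nat.finite_of_card_ne_zero (by
    rw [ReeCover.card_dual S.T_comm]; exact Nat.card_pos.ne')
  haveI : Finite (↥A →* ℂˣ) := Nat.finite_of_card_ne_zero (by
    rw [ReeCover.card_dual S.A_comm]; exact Nat.card_pos.ne')
  letI := Fintype.ofFinite {l : ↥T →* ℂˣ // l ≠ 1}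
  letI := Fintype.ofFinite {l : ↥A →* ℂˣ // l ≠ 1}
  obtain ⟨s, -, -⟩ := S.exists_sys
  obtain ⟨W, D, ea, eb, ec, C, H⟩ := s.exists_caseA
  exact Sys.caseA_neg C H hQ

end Sec

/-- Part (b): the field. -/
theorem threeTarget : ThreeTarget.{u} :=
  Three.threeTarget_of_five fun G _ _ t F _ _ hJ h24 h29 => by
    letI := Fintype.ofFinite G
    have h8 := hJ.mod8
    obtain ⟨i, r, w, K, U, A, T, a, M, Q, S, hQ, hQ'⟩ := exists_sec' hJ (by omega)
    rcases h8 with h | h
    · omega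
    · exact S.neg_false (hQ' h)

/-- Part (c): the order. -/
theorem orderTarget : OrderTarget.{u} := by
  intro G _ _ t F _ _ hJ m hm hF
  letI := Fintype.ofFinite G
  have h27 : 27 ≤ Fintype.card F := by
    rw [hF]
    exact le_trans (by norm_num) (Nat.pow_le_pow_right (show 0 < 3 by norm_num) (show 3 ≤ 2 * m + 1 by omega))
  have h8 : Fintype.card F % 8 = 3 := by
    rw [hF, pow_succ, pow_mul, Nat.mul_mod, Nat.pow_mod]
    norm_num
  obtain ⟨i, r, w, K, U, A, T, a, M, Q, S, hQ, hQ'⟩ := exists_sec' hJ (by omega)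
  have h := S.order (hQ h8)
  rwa [hF] at h

end Cfsg.Agent.AbelianSylow.Chars
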