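import Cfsg.Agent.EqLemmas
import Cfsg.Agent.Lib.AbelianSylow.Chars.Main
import Cfsg.Agent.Lib.AbelianSylow.Cent.FieldInverters

/-!
# The rows for `Q = q` (owner: helper84)

* `Sec.exists_fieldRows` : all of `Field.FieldRows` up to `C_zero`, with the facts that identify `C`; `C` (the characters of the `thetaT`)
  has at most `(q - 3) / 2` members
-/

set_option autoImplicit false
set_option linter.unusedSectionVars false

namespace Cfsg.Agent.AbelianSylow.Chars

open Matrix Subgroup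

universe u v

namespace Sys

variable {X : Type u} [Fintype X] [DecidableEq X] {TD AD : Type v} [Fintype TD] [Fintype AD]
variable {Q : ℤ} {q a g : ℕ} (s : Sys X TD AD Q q a g)

include s in
theorem deg_of_unit {e : X → ℤ} (he : e ⬝ᵥ e = 1) {x : X} (hx : e x ≠ 0) :
    s.deg x = ((s.deg ⬝ᵥ e).natAbs : ℤ) := by
  obtain ⟨y, σ, hσ, rfl⟩ := Vec.unit_eq he
  obtain rfl : x = y := by
    by_contra h
    exact hx (Pi.single_eq_of_ne h _)
  rw [dotProduct_single]
  have := s.deg_pos x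
  rcases hσ with rfl | rfl <;> omega

/-- The characters of the `cT`. -/
noncomputable def suppT : Finset X := Finset.univ.filter fun x => ∃ l, s.cT l x ≠ 0

theorem card_suppT : s.suppT.card ≤ Fintype.card TD := by
  classical
  have h1 : ∀ l, ∑ x, s.cT l x * s.cT l x = 2 := s.T_T
  have h2 : ∀ x ∈ s.suppT, (2 : ℤ) ≤ ∑ l, s.cT l x * s.cT l x := by
    intro x hx
    obtain ⟨l, hl⟩ := (Finset.mem_filter.1 hx).2
    obtain ⟨l', hne, hl'⟩ : ∃ l', l' ≠ l ∧ s.cT l ⬝ᵥ s.cT l' = 2 := by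
      by_contra hno
      push Not at hno
      have h := s.T_sum l
      rw [Finset.sum_eq_single l (fun m _ hm => (s.T_T' l m).resolve_right (hno m hm))
        (fun h => absurd (Finset.mem_univ _) h), s.T_T] at h
      omega
    have heq : s.cT l = s.cT l' := eq_of_norm (s.T_T l) (s.T_T l') hl'
    have hsub : ({l, l'} : Finset TD) ⊆ Finset.univ := Finset.subset_univ _
    refine le_trans ?_ (Finset.sum_le_sum_of_subset_of_nonneg hsub fun m _ _ => mul_self_nonneg _)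
    rw [Finset.sum_pair hne.symm, ← heq]
    have : 0 < s.cT l x * s.cT l x := mul_self_pos.2 hl
    omega
  have h3 : 2 * (s.suppT.card : ℤ) ≤ 2 * (Fintype.card TD : ℤ) :=
    calc 2 * (s.suppT.card : ℤ) = ∑ _x ∈ s.suppT, (2 : ℤ) := by simp [mul_comm]
      _ ≤ ∑ x ∈ s.suppT, ∑ l, s.cT l x * s.cT l x := Finset.sum_le_sum h2
      _ ≤ ∑ x, ∑ l, s.cT l x * s.cT l x := Finset.sum_le_sum_of_subset_of_nonneg (Finset.subset_univ _)
          fun x _ _ => Finset.sum_nonneg fun l _ => mul_self_nonneg _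
      _ = 2 * (Fintype.card TD : ℤ) := by rw [Finset.sum_comm]; simp [h1, mul_comm]
  omega

variable {s} {W : X → ℤ} {D : ℤ} {ea eb ec : X → ℤ}

/-- A character that does not vanish at `t`. -/
theorem caseA_cases (C : s.Core W D) {x : X} (hx : s.val x ≠ 0) :
    (s.c0 x ≠ 0 ∨ s.c 0 x ≠ 0 ∨ s.c 1 x ≠ 0) ∨ s.deg x = (D.natAbs : ℤ) ∨ x ∈ s.suppT := by
  classical
  by_cases h0 : s.c0 x ≠ 0 ∨ s.c 0 x ≠ 0 ∨ s.c 1 x ≠ 0
  · exact Or.inl h0
  by_cases hA : ∃ l, s.cA l x ≠ 0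
  · obtain ⟨l, hl⟩ := hA
    obtain ⟨Y, P, O⟩ := C.orbit l
    rw [O.δ_eq] at hl
    simp only [Pi.add_apply, Pi.sub_apply] at hl
    refine Or.inr (Or.inl ?_)
    by_cases hP : P x ≠ 0
    · rw [s.deg_of_unit O.norm_P hP, O.deg_P]
    obtain ⟨j, hj⟩ : ∃ j, Y j x ≠ 0 := by
      by_contra hY
      push Not at hY hP
      exact hl (by rw [hY, hY, hY, hP]; rfl)
    rw [s.deg_of_unit (O.norm_Y j) hj, O.deg_Y]
  refine Or.inr (Or.inr (Finset.mem_filter.2 ⟨Finset.mem_univ _, by_contra fun hT => hx ?_⟩))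
  push Not at h0 hA hT
  have h := s.value x
  rw [h0.1, h0.2.1, h0.2.2, Finset.sum_eq_zero fun m _ => hT m, Finset.sum_eq_zero fun m _ => hA m] at h
  simpa using h

end Sys

namespace Sec

variable {G : Type u} [Group G] [Fintype G] {t i r w : G} {K U A T : Subgroup G} {q a M : ℕ} {Q : ℤ}
  (S : Sec t i r w K U A T q a M Q)
include S

theorem card_dual_ne [Fintype {l : ↥T →* ℂˣ // l ≠ 1}] :
    2 * Fintype.card {l : ↥T →* ℂˣ // l ≠ 1} + 2 = (Q - 1).natAbs := by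
  classical
  haveI : Finite (↥T →* ℂˣ) := Nat.finite_of_card_ne_zero (by
    rw [ReeCover.card_dual S.T_comm]; exact Nat.card_pos.ne')
  letI : Fintype (↥T →* ℂˣ) := Fintype.ofFinite _
  have h : Fintype.card {l : ↥T →* ℂˣ // l ≠ 1} + 1 = M := by
    rw [← S.card_T, ← ReeCover.card_dual S.T_comm, Nat.card_eq_fintype_card,
      Fintype.card_subtype_compl, Fintype.card_subtype_eq]
    have : 0 < Fintype.card (↥T →* ℂˣ) := Fintype.card_pos
    omega
  have := S.two_M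
  omega

/-- **The rows.** -/
theorem exists_fieldRows [Fintype (IrrCharacter G)] (hQ : Q = (q : ℤ)) {m : ℤ} (hm : (q : ℤ) = 3 * m ^ 2) :
    ∃ (χ : Fin 8 → IrrCharacter G) (ε : Fin 8 → ℤ) (Y C : Finset (IrrCharacter G)),
      2 * C.card + 3 ≤ q ∧
      (∀ φ ∈ Y, (charDegree (φ : G → ℂ) : ℤ) = ((q : ℤ) - 1) * ((q : ℤ) ^ 2 - q + 1)) ∧
      (∀ j, (ε j = 1 ∨ ε j = -1) ∧ (ε j : ℂ) * (χ j : G → ℂ) 1 = (Field.rowDeg q m j : ℂ)) ∧
      (∀ φ : IrrCharacter G, (φ : G → ℂ) t ≠ 0 → (∃ j, χ j = φ) ∨ φ ∈ Y ∨ φ ∈ C) ∧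
      ((∀ φ ∈ C, ∀ g : G, g ≠ 1 → (orderOf g).Coprime (q * (q ^ 2 - 1)) → (φ : G → ℂ) g = 0) →
        Field.FieldRows t q m χ ε Y C) := by
  classical
  haveI : Finite (↥T →* ℂˣ) := Nat.finite_of_card_ne_zero (by
    rw [ReeCover.card_dual S.T_comm]; exact Nat.card_pos.ne')
  haveI : Finite (↥A →* ℂˣ) := Nat.finite_of_card_ne_zero (by
    rw [ReeCover.card_dual S.A_comm]; exact Nat.card_pos.ne')
  letI := Fintype.ofFinite {l : ↥T →* ℂˣ // l ≠ 1}
  letI := Fintype.ofFinite {l : ↥A →* ℂˣ // l ≠ 1}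
  subst hQ
  obtain ⟨ψ, F⟩ := S.exists_thetaFacts
  obtain ⟨s, hsdeg, hsval, hsone, hsc0, hsc⟩ := S.nonempty_sys' F
  obtain ⟨W, D, ea, eb, ec, CC, H⟩ := s.exists_caseA
  obtain ⟨hg, hda, hdb, hdc⟩ := Sys.caseA_order CC H
  have hDv : D = ((q : ℤ) - 1) * ((q : ℤ) ^ 2 - q + 1) := by
    have := H.deg_D
    rw [hda, hdb] at this
    linarith [this]
  -- order the other constituents
  have pick : ∀ j, ∃ u v : IrrCharacter G → ℤ, u ⬝ᵥ u = 1 ∧ v ⬝ᵥ v = 1 ∧ u ⬝ᵥ v = 0 ∧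
      s.c j = eb + ec + u + v ∧ (2 * (s.val ⬝ᵥ u) = (q : ℤ) - 1 ∧ 2 * (s.val ⬝ᵥ v) = (q : ℤ) - 1) ∧
      s.deg ⬝ᵥ u = -((((q : ℤ) - 1) / 2) * m * ((q : ℤ) + 1 + 3 * m)) ∧
      s.deg ⬝ᵥ v = (((q : ℤ) - 1) / 2) * m * ((q : ℤ) + 1 - 3 * m) := by
    intro j
    obtain ⟨u, v, nu, nv, ouv, hc, hval, hs, hsq⟩ := Sys.caseA_square CC H j
    obtain ⟨h, hh⟩ : ∃ h : ℤ, (q : ℤ) = 2 * h + 1 := ⟨((q : ℤ) - 1) / 2, by have := S.mod8; omega⟩
    rw [show ((q : ℤ) - 1) / 2 = h by omega]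
    have hsq' : (s.deg ⬝ᵥ u - s.deg ⬝ᵥ v) ^ 2 = (2 * h * m * ((q : ℤ) + 1)) ^ 2 := by
      have h3 : (3 : ℤ) * (s.deg ⬝ᵥ u - s.deg ⬝ᵥ v) ^ 2 = 3 * (2 * h * m * ((q : ℤ) + 1)) ^ 2 := by
        have e : (q : ℤ) * ((q : ℤ) - 1) ^ 2 * ((q : ℤ) + 1) ^ 2 =
            3 * m ^ 2 * (2 * h) ^ 2 * ((q : ℤ) + 1) ^ 2 := by
          rw [show (q : ℤ) - 1 = 2 * h by omega]
          linear_combination (2 * h) ^ 2 * ((q : ℤ) + 1) ^ 2 * hm
        rw [hsq, e]; ring
      linarith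
    have hsum : s.deg ⬝ᵥ u + s.deg ⬝ᵥ v = -(6 * h * m ^ 2) := by
      rw [hs, show (q : ℤ) - 1 = 2 * h by omega, hm]; ring
    rcases eq_or_eq_neg_of_sq_eq_sq _ _ hsq' with e | e
    · exact ⟨v, u, nv, nu, by rw [dotProduct_comm]; exact ouv, by rw [hc]; abel, hval.symm,
        by linarith, by linarith⟩
    · exact ⟨u, v, nu, nv, ouv, hc, hval, by linarith, by linarith⟩
  obtain ⟨u0, v0, nu0, nv0, ouv0, hc0, hv0, du0, dv0⟩ := pick 0
  obtain ⟨u1, v1, nu1, nv1, ouv1, hc1, hv1, du1, dv1⟩ := pick 1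
  obtain ⟨E, hE⟩ : ∃ E : Fin 8 → IrrCharacter G → ℤ, E = ![s.one, ea, eb, ec, u0, v0, u1, v1] := ⟨_, rfl⟩
  have nE : ∀ j, E j ⬝ᵥ E j = 1 := by
    subst hE; intro j
    fin_cases j
    exacts [s.one_one, H.na, H.nb, H.nc, nu0, nv0, nu1, nv1]
  choose χ ε hε hEχ using fun j => Vec.unit_eq (nE j)
  -- degrees and values
  have hdeg : ∀ j, s.deg ⬝ᵥ E j = Field.rowDeg q m j := by
    subst hE; intro j
    fin_cases j
    exacts [s.deg_one, by simpa [Field.rowDeg] using hda, by simpa [Field.rowDeg] using hdb,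
      by simpa [Field.rowDeg] using hdc, du0, dv0, du1, dv1]
  have hvalE : ∀ j, s.val ⬝ᵥ E j = Field.rowVal q j := by
    subst hE; intro j
    have := hv0.1; have := hv0.2; have := hv1.1; have := hv1.2
    fin_cases j
    exacts [s.val_one, H.val_a, by simpa [Field.rowVal] using H.val_b, by simpa [Field.rowVal] using H.val_c,
      show s.val ⬝ᵥ u0 = ((q : ℤ) - 1) / 2 by omega, show s.val ⬝ᵥ v0 = ((q : ℤ) - 1) / 2 by omega,
      show s.val ⬝ᵥ u1 = ((q : ℤ) - 1) / 2 by omega, show s.val ⬝ᵥ v1 = ((q : ℤ) - 1) / 2 by omega]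
  -- orthogonality
  have hodd : ∀ (f : G → ℂ), IsGeneralizedCharacter G f → (∀ g : G, Odd (orderOf g) → f g = 0) →
      ∀ n : Fin 4 → Fin 8, cvec f = E (n 0) + E (n 1) + E (n 2) + E (n 3) → ∀ g : G, Odd (orderOf g) →
      (ε (n 0) : ℂ) * (χ (n 0) : G → ℂ) g + (ε (n 1) : ℂ) * (χ (n 1) : G → ℂ) g +
        (ε (n 2) : ℂ) * (χ (n 2) : G → ℂ) g + (ε (n 3) : ℂ) * (χ (n 3) : G → ℂ) g = 0 := by
    intro f hf hf0 n hn g hg
    have h := congrFun (cvec_expand hf) g
    rw [hf0 g hg, hn] at h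
    simp only [hEχ, Finset.sum_apply, Pi.smul_apply, Pi.add_apply, Pi.single_apply, smul_eq_mul,
      Int.cast_add, add_mul, Finset.sum_add_distrib, Int.cast_ite, Int.cast_zero, ite_mul, zero_mul,
      Finset.sum_ite_eq', Finset.mem_univ, if_true] at h
    exact h.symm
  have hdegχ : ∀ j, (ε j : ℂ) * (χ j : G → ℂ) 1 = (Field.rowDeg q m j : ℂ) := by
    intro j
    have h := hdeg j
    rw [hEχ, dotProduct_single, hsdeg] at h
    rw [apply_one_degv, ← h]
    push_cast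
    ring
  have hcomp : ∀ φ : IrrCharacter G, (φ : G → ℂ) t ≠ 0 →
      (∃ j, χ j = φ) ∨ φ ∈ Finset.univ.filter (fun φ => s.deg φ = (D.natAbs : ℤ)) ∨ φ ∈ s.suppT := by
    intro φ hφ
    have hv : s.val φ ≠ 0 := fun e => hφ (by rw [(S.valv_spec φ).1, ← hsval, e, Int.cast_zero])
    rcases Sys.caseA_cases CC hv with h | h | h
    · left
      by_contra hno
      push Not at hno
      have z : ∀ j, E j φ = 0 := fun j => by rw [hEχ, Pi.single_eq_of_ne (Ne.symm (hno j))]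
      subst hE
      have z0 : s.one φ = 0 := z 0
      have z1 : ea φ = 0 := z 1
      have z2 : eb φ = 0 := z 2
      have z3 : ec φ = 0 := z 3
      have z4 : u0 φ = 0 := z 4
      have z5 : v0 φ = 0 := z 5
      have z6 : u1 φ = 0 := z 6
      have z7 : v1 φ = 0 := z 7
      rcases h with h | h | h
      · exact h (by rw [H.c0_eq]; simp [z0, z1, z2, z3])
      · exact h (by rw [hc0]; simp [z2, z3, z4, z5])
      · exact h (by rw [hc1]; simp [z2, z3, z6, z7])
    · exact Or.inr (Or.inl (Finset.mem_filter.2 ⟨Finset.mem_univ _, h⟩))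
    · exact Or.inr (Or.inr h)
  refine ⟨χ, ε, Finset.univ.filter (fun φ => s.deg φ = (D.natAbs : ℤ)), s.suppT, ?_, ?_,
    fun j => ⟨hε j, hdegχ j⟩, hcomp, fun hC => ?_⟩
  · have := s.card_suppT; have := S.card_dual_ne; have := S.le
    omega
  · intro φ hφ
    have h := (Finset.mem_filter.1 hφ).2
    rw [hsdeg] at h
    have h0 : 0 ≤ ((q : ℤ) - 1) * ((q : ℤ) ^ 2 - q + 1) := by
      have := S.le
      exact mul_nonneg (by omega) (by nlinarith)
    rw [show (charDegree (φ : G → ℂ) : ℤ) = degv G φ from rfl, h, hDv, Int.natAbs_of_nonneg h0]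
  refine
    { order_t := S.order_t
      one_class := S.one_class
      card_cent := S.card_cent
      card := hg
      odd_q := S.odd_q
      le := by have := S.le; have := S.mod8; omega
      q_eq := hm
      sign := hε
      inj := ?_
      deg := hdegχ
      val := fun j => ?_
      col0 := fun g hg => hodd _ F.gen0 F.odd0 ![0, 1, 2, 3] ?_ g hg
      col1 := fun g hg => hodd _ (F.gen 0) (F.odd 0) ![2, 3, 4, 5] ?_ g hg
      col2 := fun g hg => hodd _ (F.gen 1) (F.odd 1) ![2, 3, 6, 7] ?_ g hg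
      trivial := fun g => ?_
      Y_deg := ?_
      C_zero := hC
      complete := hcomp }
  · -- inj
    have key : ∀ j k, j ≠ k → E j ⬝ᵥ E k = 0 := by
      have hfree : ∀ j : Fin 2, ∀ u v : IrrCharacter G → ℤ, u ⬝ᵥ u = 1 → v ⬝ᵥ v = 1 → u ⬝ᵥ v = 0 →
          s.c j = eb + ec + u + v → (∀ z, z ⬝ᵥ z = 1 → (z = s.one ∨ z = ea ∨ z = eb ∨ z = ec) →
            z ⬝ᵥ u = 0 ∧ z ⬝ᵥ v = 0) := by
        intro j u v nu nv ouv hc z nz hz
        refine Vec.dot_pair nu nv ouv nz ?_ |>.imp (fun h => by rw [dotProduct_comm]; exact h)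
          (fun h => by rw [dotProduct_comm]; exact h)
        have e : u + v = s.c j - eb - ec := by rw [hc]; abel
        rw [e, sub_dotProduct, sub_dotProduct]
        have ho : ∀ y, y ⬝ᵥ y = 1 → s.c j ⬝ᵥ y ≠ 0 → s.one ⬝ᵥ y = 0 := fun y hy hr => by
          rcases Vec.dot_unit s.one_one hy with h' | ⟨-, rfl⟩ | ⟨-, rfl⟩
          · exact h'
          all_goals simp [s.one_c] at hr
        rcases hz with rfl | rfl | rfl | rfl
        · rw [s.one_c, dotProduct_comm, ho eb H.nb (by rw [H.row_b]; norm_num), dotProduct_comm,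
            ho ec H.nc (by rw [H.row_c]; norm_num)]
          rfl
        · rw [H.row_a, dotProduct_comm eb, H.oab, dotProduct_comm ec, H.oac]; rfl
        · rw [H.row_b, H.nb, dotProduct_comm ec, H.obc]; rfl
        · rw [H.row_c, H.obc, H.nc]; rfl
      have h1 := hfree 0 u0 v0 nu0 nv0 ouv0 hc0
      have h2 := hfree 1 u1 v1 nu1 nv1 ouv1 hc1
      obtain ⟨a0, a0'⟩ := h1 _ s.one_one (Or.inl rfl)
      obtain ⟨a1, a1'⟩ := h1 _ H.na (Or.inr (Or.inl rfl))
      obtain ⟨a2, a2'⟩ := h1 _ H.nb (Or.inr (Or.inr (Or.inl rfl)))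
      obtain ⟨a3, a3'⟩ := h1 _ H.nc (Or.inr (Or.inr (Or.inr rfl)))
      obtain ⟨b0, b0'⟩ := h2 _ s.one_one (Or.inl rfl)
      obtain ⟨b1, b1'⟩ := h2 _ H.na (Or.inr (Or.inl rfl))
      obtain ⟨b2, b2'⟩ := h2 _ H.nb (Or.inr (Or.inr (Or.inl rfl)))
      obtain ⟨b3, b3'⟩ := h2 _ H.nc (Or.inr (Or.inr (Or.inr rfl)))
      have hcross : (u1 + v1) ⬝ᵥ u0 = 0 ∧ (u1 + v1) ⬝ᵥ v0 = 0 := by
        have hr : ∀ z, z ⬝ᵥ z = 1 → eb ⬝ᵥ z = 0 → ec ⬝ᵥ z = 0 → (u1 + v1) ⬝ᵥ z = s.c 1 ⬝ᵥ z := fun z _ h h' => by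
          rw [hc1]; simp only [add_dotProduct, h, h', zero_add]
        have h10 : s.c 1 ⬝ᵥ u0 + s.c 1 ⬝ᵥ v0 = 0 := by
          have h := s.c_c 1 0
          conv_lhs at h => arg 2; rw [hc0]
          rw [dotProduct_add, dotProduct_add, dotProduct_add, H.row_b, H.row_c, if_neg (by decide)] at h
          omega
        obtain ⟨u, v, nu, nv, -, hcs, -, -, ⟨hu, hv⟩, -, -, -⟩ := Sys.caseA_split CC H 0
        have huv : u + v = u0 + v0 := by
          have e : eb + ec + u + v = eb + ec + u0 + v0 := hcs.symm.trans hc0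
          rw [add_assoc _ u v, add_assoc _ u0 v0] at e
          exact add_left_cancel e
        have hmem : ∀ z, z ⬝ᵥ z = 1 → (u0 + v0) ⬝ᵥ z = 1 → z = u ∨ z = v := fun z nz hz => by
          rw [← huv, add_dotProduct] at hz
          rcases Vec.dot_unit nu nz with h | ⟨-, h⟩ | ⟨h, -⟩
          · rcases Vec.dot_unit nv nz with h' | ⟨-, h'⟩ | ⟨h', -⟩
            · omega
            · exact Or.inr h'
            · omega
          · exact Or.inl h
          · rcases Vec.dot_unit nv nz with h' | ⟨h', -⟩ | ⟨h', -⟩ <;> omega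
        refine ⟨?_, ?_⟩
        · rw [hr u0 nu0 a2 a3]
          rcases hmem u0 nu0 (by rw [add_dotProduct, nu0, dotProduct_comm, ouv0]; rfl) with rfl | rfl
          · exact hu
          · exact hv
        · rw [hr v0 nv0 a2' a3']
          rcases hmem v0 nv0 (by rw [add_dotProduct, nv0, ouv0]; rfl) with rfl | rfl
          · exact hu
          · exact hv
      obtain ⟨c00, c01⟩ := Vec.dot_pair nu1 nv1 ouv1 nu0 hcross.1
      obtain ⟨c10, c11⟩ := Vec.dot_pair nu1 nv1 ouv1 nv0 hcross.2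
      obtain ⟨o1, o1'⟩ : s.one ⬝ᵥ eb = 0 ∧ s.one ⬝ᵥ ec = 0 := by
        refine ⟨?_, ?_⟩
        · rcases Vec.dot_unit s.one_one H.nb with h' | ⟨-, h'⟩ | ⟨-, h'⟩
          · exact h'
          all_goals have := H.row_b 0; rw [h'] at this; simp [s.one_c] at this
        · rcases Vec.dot_unit s.one_one H.nc with h' | ⟨-, h'⟩ | ⟨-, h'⟩
          · exact h'
          all_goals have := H.row_c 0; rw [h'] at this; simp [s.one_c] at this
      have o1a : s.one ⬝ᵥ ea = 0 := by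
        have h := CC.one_W
        rw [H.W_eq, dotProduct_sub, o1] at h
        omega
      subst hE
      intro j k hjk
      fin_cases j <;> fin_cases k <;>
        first
          | exact absurd rfl hjk
          | (simp only [Fin.reduceFinMk, Matrix.cons_val, Matrix.cons_val_zero, Matrix.cons_val_one];
             first
               | assumption
               | exact H.oab | exact H.oac | exact H.obc
               | (rw [dotProduct_comm]; first | assumption | exact H.oab | exact H.oac | exact H.obc))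
    intro j k hjk
    by_contra hne
    have h := key j k hne
    rw [hEχ j, hEχ k, single_dotProduct, hjk, Pi.single_eq_same] at h
    rcases hε j with e | e <;> rcases hε k with e' | e' <;> rw [e, e'] at h <;> norm_num at h
  · -- val
    have h := hvalE j
    rw [hEχ, dotProduct_single, hsval] at h
    rw [(S.valv_spec (χ j)).1, ← h]
    push_cast
    ring
  · rw [← hsc0, H.c0_eq, hE]; rfl
  · rw [← hsc 0, hc0, hE]; rfl
  · rw [← hsc 1, hc1, hE]; rfl
  · -- trivial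
    have h1 := Char.isGeneralizedCharacter_of_isCharacter
      (Char.IsIrrCharacter.isCharacter (Char.isIrrCharacter_one (G := G)))
    have h := congrFun (cvec_expand h1) g
    rw [← hsone, show s.one = E 0 by rw [hE]; rfl, hEχ] at h
    simp only [Finset.sum_apply, Pi.smul_apply, Pi.single_apply, smul_eq_mul, Int.cast_ite,
      Int.cast_zero, ite_mul, zero_mul, Finset.sum_ite_eq', Finset.mem_univ, if_true, Pi.one_apply] at h
    exact h.symm
  · -- Y_deg
    intro φ hφ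
    have h := (Finset.mem_filter.1 hφ).2
    rw [hsdeg] at h
    rw [show (charDegree (φ : G → ℂ) : ℤ) = degv G φ from rfl, h, Int.dvd_natAbs, hDv]
    exact dvd_mul_left _ _

end Sec

end Cfsg.Agent.AbelianSylow.Chars
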