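import Cfsg.Agent.EqLemmas
import Mathlib

/-!
# The degree equation of Ward's theorem (owner: helper87)

With `S = q + i (q² - 1)` the degree of the Steinberg character and `D` that of the exceptional ones:

* `Ward.index_cases` : `q D i² = (q - 1) S (1 + i (q - 1))` forces `i = 1` or `i = q`
* `Ward.order_eq` : for `i = q` this gives `q³ (q + 1) D = q³ (q³ + 1) (q - 1)`
-/

set_option autoImplicit false

namespace Cfsg.Agent.AbelianSylow.Ward

/-- A square divisor of `q - 1` congruent to `1` modulo `q` is `1`. -/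
theorem eq_one_of_sq_dvd {q k : ℤ} (hq : 3 ≤ q) (hd : k * k ∣ q - 1) (hm : q ∣ k - 1) : k = 1 := by
  have hle : k * k ≤ q - 1 := Int.le_of_dvd (by omega) hd
  obtain ⟨c, hc⟩ := hm
  have h1 : k = 1 + q * c := by omega
  subst h1
  rcases lt_trichotomy c 0 with h | h | h
  · have : q * c ≤ -q := by nlinarith
    nlinarith
  · simp [h]
  · have : q ≤ q * c := by nlinarith
    nlinarith

/-- The degree equation has only the solutions `i = 1` and `i = q`. -/
theorem index_cases {p n : ℕ} (hp : p.Prime) (hn : 1 ≤ n) {q i D : ℤ} (hq : q = (p : ℤ) ^ n)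
    (hq3 : 3 ≤ q) (hi : i ≠ 0)
    (h : q * D * i ^ 2 = (q - 1) * (q + i * (q ^ 2 - 1)) * (1 + i * (q - 1))) : i = 1 ∨ i = q := by
  have hP : Prime (p : ℤ) := Nat.prime_iff_prime_int.1 hp
  have hdvd : q ∣ i * (1 - i) := ⟨D * i ^ 2 - (-1 + 2 * i ^ 2 + (1 - 3 * i) * q +
      (2 * i - 2 * i ^ 2) * q ^ 2 + i ^ 2 * q ^ 3), by linear_combination -h⟩
  by_cases hpi : (p : ℤ) ∣ i
  · -- `i = q k`
    have hcop : IsCoprime q (1 - i) := by
      rw [hq]
      refine IsCoprime.pow_left (hP.coprime_iff_not_dvd.2 fun e => hP.not_dvd_one ?_)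
      have := dvd_add e hpi
      simpa using this
    obtain ⟨k, rfl⟩ := hcop.dvd_of_dvd_mul_right hdvd
    have hq0 : q ≠ 0 := by omega
    have h2 : q ^ 2 * D * k ^ 2 = (q - 1) * (1 + k * (q ^ 2 - 1)) * (1 + q * k * (q - 1)) := by
      refine mul_left_cancel₀ hq0 ?_
      linear_combination h
    have hc1 : IsCoprime (k * k) (1 + k * (q ^ 2 - 1)) :=
      have e : IsCoprime k (1 + k * (q ^ 2 - 1)) := ⟨-(q ^ 2 - 1), 1, by ring⟩
      e.mul_left e
    have hc2 : IsCoprime (k * k) (1 + q * k * (q - 1)) :=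
      have e : IsCoprime k (1 + q * k * (q - 1)) := ⟨-(q * (q - 1)), 1, by ring⟩
      e.mul_left e
    have hk : k * k ∣ q - 1 :=
      hc1.dvd_of_dvd_mul_right (hc2.dvd_of_dvd_mul_right ⟨q ^ 2 * D, by linear_combination -h2⟩)
    have hm : q ∣ k - 1 := by
      have hq2 : IsCoprime q (q - 1) := ⟨1, -1, by ring⟩
      have hq4 : IsCoprime q (1 + q * k * (q - 1)) := ⟨-(k * (q - 1)), 1, by ring⟩
      have h3 : q ∣ (q - 1) * (1 + k * (q ^ 2 - 1)) * (1 + q * k * (q - 1)) :=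
        ⟨q * D * k ^ 2, by linear_combination -h2⟩
      obtain ⟨c, hc⟩ := hq2.dvd_of_dvd_mul_left (hq4.dvd_of_dvd_mul_right h3)
      exact ⟨k * q - c, by linear_combination -hc⟩
    exact Or.inr (by rw [eq_one_of_sq_dvd hq3 hk hm, mul_one])
  · -- `i` is prime to `q`
    have hcop : IsCoprime q i := hq ▸ IsCoprime.pow_left (hP.coprime_iff_not_dvd.2 hpi)
    obtain ⟨c, hc⟩ := hcop.dvd_of_dvd_mul_left hdvd
    have hc1 : IsCoprime (i * i) (q + i * (q ^ 2 - 1)) := by
      have e : IsCoprime i (q + i * (q ^ 2 - 1)) := hcop.symm.add_mul_left_right (q ^ 2 - 1)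
      exact e.mul_left e
    have hc2 : IsCoprime (i * i) (1 + i * (q - 1)) :=
      have e : IsCoprime i (1 + i * (q - 1)) := ⟨-(q - 1), 1, by ring⟩
      e.mul_left e
    have hk : i * i ∣ q - 1 :=
      hc1.dvd_of_dvd_mul_right (hc2.dvd_of_dvd_mul_right ⟨q * D, by linear_combination -h⟩)
    exact Or.inl (eq_one_of_sq_dvd hq3 hk ⟨-c, by linear_combination -hc⟩)

/-- The order for `i = q`. -/
theorem order_eq {q D : ℤ} (hq : q ≠ 0)
    (h : q * D * q ^ 2 = (q - 1) * (q + q * (q ^ 2 - 1)) * (1 + q * (q - 1))) :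
    q ^ 3 * (q + 1) * D = q ^ 3 * (q ^ 3 + 1) * (q - 1) := by
  have : D = (q - 1) * (1 + q * (q - 1)) := mul_left_cancel₀ (pow_ne_zero 3 hq) (by linear_combination h)
  rw [this]; ring

end Cfsg.Agent.AbelianSylow.Ward
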