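import Cfsg.Agent.EqLemmas

/-!
# Ward's order formula: the arithmetic

`order_eq_of_invol` : `q = p ^ n`, the order `g = q³ (q + 1) D` from the nonsplit torus, the moment equation
`g (S - q)² = (q - 1) c² S (S + 1)` of one function `1 + A - E` (`S` the degree of `A`) and the congruence
`I ≡ 3` of the number of involutions modulo a divisor `d` of `q + 1` not dividing `4` give
`g = q³ (q³ + 1) (q - 1)`. No congruence on `S` and no condition on `D` is needed.
-/

set_option autoImplicit false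

namespace Cfsg.Agent.AbelianSylow.Ward

/-- If `x²` divides `u² e (e + k x)` for the cofactor `e` of `gcd x v` then `x ∣ u v`. -/
theorem dvd_mul_of_sq_dvd {x v u k : ℤ} (hx : x ≠ 0) (hd : x ^ 2 ∣ u ^ 2 * (v * (v + k * x))) :
    x ∣ u * v := by
  obtain ⟨x', v', hco, hx', hv'⟩ := Int.exists_gcd_one (Int.gcd_pos_of_ne_zero_left v hx)
  set e : ℤ := (Int.gcd x v : ℤ) with he
  have he0 : e ≠ 0 := fun h0 => hx (by rw [hx', h0, mul_zero])
  have h1 : e ^ 2 * x' ^ 2 ∣ e ^ 2 * (u ^ 2 * (v' * (v' + k * x'))) := by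
    rw [show e ^ 2 * x' ^ 2 = x ^ 2 by rw [hx']; ring,
      show e ^ 2 * (u ^ 2 * (v' * (v' + k * x'))) = u ^ 2 * (v * (v + k * x)) by rw [hx', hv']; ring]
    exact hd
  have h2 := (mul_dvd_mul_iff_left (pow_ne_zero 2 he0)).1 h1
  have hc : IsCoprime x' v' := Int.isCoprime_iff_gcd_eq_one.2 hco
  have h3 : x' ^ 2 ∣ u ^ 2 :=
    ((hc.mul_right (hc.add_mul_right_right k)).pow_left).dvd_of_dvd_mul_right h2
  have h4 : x' ∣ u := (Int.pow_dvd_pow_iff two_ne_zero).1 h3
  obtain ⟨w, hw⟩ := h4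
  exact ⟨w * v', by rw [hw, hv', hx']; ring⟩

/-- The order. -/
theorem order_eq_of_invol {p n : ℕ} (hp : p.Prime) (q : ℤ) (hq : q = (p : ℤ) ^ n) (h27 : 27 ≤ q)
    {g D S I d : ℤ} (hg : g = q ^ 3 * (q + 1) * D)
    (hmom : g * (S - q) ^ 2 = (q - 1) * (q * (q ^ 2 - 1)) ^ 2 * (S * (S + 1)))
    (hS : S ≠ 0) (hS1 : S + 1 ≠ 0) (hI : g = q * (q ^ 2 - 1) * I)
    (hdq : d ∣ q + 1) (hd5 : 5 ≤ d) (hdI : d ∣ I - 3) :
    g = q ^ 3 * (q ^ 3 + 1) * (q - 1) := by
  have hq0 : q ≠ 0 := by omega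
  have hqm : q - 1 ≠ 0 := by omega
  have hqp : q + 1 ≠ 0 := by omega
  have hq2 : q ^ 2 - 1 ≠ 0 := by nlinarith
  have c1 : IsCoprime q (q - 1) := ⟨1, -1, by ring⟩
  have c2 : IsCoprime q (q + 1) := ⟨-1, 1, by ring⟩
  have c3 : IsCoprime q (q ^ 2 - 1) := by
    rw [show q ^ 2 - 1 = (q - 1) * (q + 1) by ring]; exact c1.mul_right c2
  obtain ⟨m, rfl⟩ : q - 1 ∣ D := by
    have e : q ^ 2 * D = (q - 1) * I := by
      refine mul_left_cancel₀ (mul_ne_zero hq0 hqp) ?_
      linear_combination hI - hg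
    exact (c1.symm.pow_right).dvd_of_dvd_mul_left ⟨I, e⟩
  have hIm : I = q ^ 2 * m := by
    refine mul_left_cancel₀ (mul_ne_zero hq0 hq2) ?_
    linear_combination hg - hI
  have key : q * m * (S - q) ^ 2 = (q - 1) * (q ^ 2 - 1) * (S * (S + 1)) := by
    refine mul_left_cancel₀ (mul_ne_zero (mul_ne_zero (pow_ne_zero 2 hq0) hqp) hqm) ?_
    rw [hg] at hmom
    linear_combination hmom
  have hX0 : S - q ≠ 0 := fun e => by
    rw [e] at key
    exact mul_ne_zero (mul_ne_zero hqm hq2) (mul_ne_zero hS hS1) (by linear_combination -key)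
  have hpp : Prime (p : ℤ) := Nat.prime_iff_prime_int.1 hp
  have hqd : q ∣ S * (S + 1) :=
    (c1.mul_right c3).dvd_of_dvd_mul_left ⟨m * (S - q) ^ 2, by linear_combination -key⟩
  have cSS : IsCoprime S (S + 1) := ⟨-1, 1, by ring⟩
  by_cases hps : (p : ℤ) ∣ S
  · -- the Ree case
    have hqS : q ∣ S := by
      have hn : ¬ (p : ℤ) ∣ S + 1 := fun h2 => hpp.not_isUnit (cSS.isUnit_of_dvd' hps h2)
      have cq : IsCoprime q (S + 1) := hq ▸ ((Prime.coprime_iff_not_dvd hpp).2 hn).pow_left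
      exact cq.dvd_of_dvd_mul_right hqd
    obtain ⟨W, rfl⟩ := hqS
    have key2 : q ^ 2 * m * (W - 1) ^ 2 = (q - 1) * (q ^ 2 - 1) * W * (q * W + 1) := by
      refine mul_left_cancel₀ hq0 ?_
      linear_combination key
    obtain ⟨r, rfl⟩ : q ^ 2 ∣ W := by
      have h1 : q ^ 2 ∣ (q - 1) * (q ^ 2 - 1) * W * (q * W + 1) :=
        ⟨m * (W - 1) ^ 2, by linear_combination -key2⟩
      have cq : IsCoprime q (q * W + 1) := ⟨-W, 1, by ring⟩
      exact (c1.mul_right c3).pow_left.dvd_of_dvd_mul_left (cq.pow_left.dvd_of_dvd_mul_right h1)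
    set v : ℤ := q ^ 2 * r - 1 with hv
    have hv0 : v ≠ 0 := fun e => hX0 (by linear_combination -q * hv + q * e)
    have hdv : v ∣ q ^ 2 - 1 := by
      rw [show q ^ 2 - 1 = (q - 1) * (q + 1) by ring]
      refine dvd_mul_of_sq_dvd (k := q) hv0 ?_
      have c : IsCoprime (v ^ 2) (q ^ 2 * r) := IsCoprime.pow_left ⟨-1, 1, by rw [hv]; ring⟩
      refine c.dvd_of_dvd_mul_right ⟨q ^ 2 * m, ?_⟩
      rw [hv]; linear_combination -key2
    have hr : r = 1 := by
      have hl1 : |v| ≤ q ^ 2 - 1 := Int.le_of_dvd (by nlinarith) ((abs_dvd _ _).2 hdv)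
      have h729 : 729 ≤ q ^ 2 := by nlinarith
      rw [abs_le, hv] at hl1
      have hr1 : r ≤ 1 := by
        by_contra hc
        nlinarith [mul_le_mul_of_nonneg_left (show 2 ≤ r by omega) (sq_nonneg q)]
      have hr0 : 0 ≤ r := by
        by_contra hc
        nlinarith [mul_le_mul_of_nonneg_left (show r ≤ -1 by omega) (sq_nonneg q)]
      rcases (show r = 0 ∨ r = 1 by omega) with e | e
      · exact absurd (by rw [e]; ring) hS
      · exact e
    have hm : m = q ^ 2 - q + 1 := by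
      rw [hv, hr] at key2
      refine mul_left_cancel₀ (mul_ne_zero (pow_ne_zero 2 hq0) (pow_ne_zero 2 hq2)) ?_
      linear_combination key2
    rw [hg, hm]; ring
  · -- the other case is impossible
    exfalso
    have cqS : IsCoprime q S := hq ▸ ((Prime.coprime_iff_not_dvd hpp).2 hps).pow_left
    obtain ⟨t, ht⟩ : q ∣ S + 1 := cqS.dvd_of_dvd_mul_left hqd
    set X : ℤ := S - q with hX
    have hdX : X ∣ q ^ 2 - 1 := by
      rw [show q ^ 2 - 1 = (q - 1) * (q + 1) by ring]
      refine dvd_mul_of_sq_dvd (k := 1) hX0 ?_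
      have c : IsCoprime (X ^ 2) S := by
        refine IsCoprime.pow_left ?_
        have : IsCoprime X q := by
          refine IsCoprime.symm ?_
          rw [hX, show S - q = S + q * (-1) by ring]
          exact cqS.add_mul_left_right _
        rw [show S = q + X * 1 by rw [hX]; ring]
        exact this.add_mul_left_right _
      refine c.dvd_of_dvd_mul_right ⟨q * m, ?_⟩
      linear_combination -key + ((q - 1) ^ 2 * (q + 1) * S) * hX
    obtain ⟨Y, hY⟩ := hdX
    -- `X = -1 + k q`, `Y = 1 + l q`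
    set k : ℤ := t - 1 with hk
    have hXk : X = -1 + k * q := by rw [hX, hk]; linear_combination ht
    obtain ⟨l, hl⟩ : q ∣ Y - 1 := ⟨k * Y - q, by linear_combination hY + Y * hXk⟩
    have hkl : k - l = q * (1 - k * l) := by
      refine mul_left_cancel₀ hq0 ?_
      linear_combination -hY - (1 + q * l) * hXk - X * hl
    have hcase : k = q ∨ k = 1 ∨ k = -1 ∨ k = 0 := by
      rcases eq_or_ne k 0 with e | ek
      · exact Or.inr (Or.inr (Or.inr e))
      rcases eq_or_ne l 0 with e | el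
      · exact Or.inl (by rw [e] at hkl; linarith)
      suffices h : k * l = 1 by
        rcases Int.eq_one_or_neg_one_of_mul_eq_one h with e | e
        · exact Or.inr (Or.inl e)
        · exact Or.inr (Or.inr (Or.inl e))
      by_contra hne
      have h1 : |k - l| = q * |1 - k * l| := by
        rw [hkl, abs_mul, abs_of_nonneg (show 0 ≤ q by omega)]
      have h2 : |k - l| ≤ |k| + |l| := abs_sub _ _
      have h3 : 1 ≤ |k| := abs_pos.2 ek
      have h4 : 1 ≤ |l| := abs_pos.2 el
      have h5 : |k| * |l| ≤ |1 - k * l| + 1 := by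
        have := abs_sub 1 (1 - k * l)
        rw [show (1:ℤ) - (1 - k * l) = k * l by ring, abs_mul, abs_one] at this
        linarith
      have h6 : 1 ≤ |1 - k * l| := abs_pos.2 (sub_ne_zero.2 (Ne.symm hne))
      nlinarith [mul_nonneg (show 0 ≤ |k| - 1 by omega) (show 0 ≤ |l| - 1 by omega)]
    -- in each case `d ∣ I` or `d ∣ I + 1`
    have hfin : ∀ c : ℤ, d ∣ I + c → d ∣ c + 3 := fun c hc => by
      rw [show c + 3 = (I + c) - (I - 3) by ring]; exact dvd_sub hc hdI
    have hsmall : ¬ d ∣ 3 := fun h => absurd (Int.le_of_dvd (by norm_num) h) (by omega)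
    have hSk : S = q + (-1 + k * q) := by rw [← hXk, hX]; ring
    rcases hcase with e | e | e | e
    · rw [e] at hXk hSk
      have hm : m = S := by
        rw [hX] at key
        refine mul_left_cancel₀ (mul_ne_zero hq0 (pow_ne_zero 2 hq2)) ?_
        rw [hSk] at key ⊢
        linear_combination key
      have : ¬ d ∣ 4 := fun h => absurd (Int.le_of_dvd (by norm_num) h) (by omega)
      refine this (hfin 1 ((dvd_trans hdq ⟨q ^ 3 - q + 1, ?_⟩)))
      rw [hIm, hm, hSk]; ring
    · rw [e] at hXk hSk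
      have hm : m = 2 * (q + 1) * (2 * q - 1) := by
        rw [hX] at key
        refine mul_left_cancel₀ (mul_ne_zero hq0 (pow_ne_zero 2 hqm)) ?_
        rw [hSk] at key
        linear_combination key
      refine hsmall (hfin 0 (dvd_trans hdq ⟨2 * q ^ 2 * (2 * q - 1), ?_⟩))
      rw [hIm, hm]; ring
    · exact hS1 (by rw [hSk, e]; ring)
    · rw [e] at hXk hSk
      have hm : m = (q - 1) ^ 3 * (q + 1) := by
        rw [hX] at key
        refine mul_left_cancel₀ hq0 ?_
        rw [hSk] at key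
        linear_combination key
      refine hsmall (hfin 0 (dvd_trans hdq ⟨q ^ 2 * (q - 1) ^ 3, ?_⟩))
      rw [hIm, hm]; ring

end Cfsg.Agent.AbelianSylow.Ward
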