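import Cfsg.Agent.EqLemmas
import Cfsg.Agent.Lib.AbelianSylow.Chars.Sec

/-!
# Interface of the functions of the `t`-section (owner: helper84; to be proved in `Theta.lean`)

`Main.lean` uses the functions `theta0`, `theta`, `thetaT`, `thetaA` only through `ThetaFacts`.
-/

set_option autoImplicit false

namespace Cfsg.Agent.AbelianSylow.Chars

open Subgroup
open scoped ComplexConjugate

universe u

variable {G : Type u} [Group G] [Fintype G]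

open scoped Classical in
/-- Everything that is used about the functions of the `t`-section (section 1 of `PROOF.md`). -/
structure ThetaFacts (t : G) {U : Subgroup G} (ψ : Fin 2 → (↥U →* ℂˣ)) (T A : Subgroup G) (q : ℕ) (Q : ℤ) :
    Prop where
  psi_ne : ∀ j, ψ j ≠ 1
  gen0 : IsGeneralizedCharacter G (theta0 t ψ T)
  gen : ∀ j, IsGeneralizedCharacter G (theta t ψ T A j)
  genT : ∀ l : ↥T →* ℂˣ, l ≠ 1 → IsGeneralizedCharacter G (thetaT t ψ l)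
  genA : ∀ l : ↥A →* ℂˣ, l ≠ 1 → IsGeneralizedCharacter G (thetaA t ψ l)
  odd0 : ∀ g : G, Odd (orderOf g) → theta0 t ψ T g = 0
  odd : ∀ j, ∀ g : G, Odd (orderOf g) → theta t ψ T A j g = 0
  oddT : ∀ l : ↥T →* ℂˣ, ∀ g : G, Odd (orderOf g) → thetaT t ψ l g = 0
  oddA : ∀ l : ↥A →* ℂˣ, ∀ g : G, Odd (orderOf g) → thetaA t ψ l g = 0
  tor0 : ∀ x ∈ A, x ≠ 1 → theta0 t ψ T (t * x) = 0
  tor : ∀ j, ∀ x ∈ A, x ≠ 1 → theta t ψ T A j (t * x) = -4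
  torT : ∀ l : ↥T →* ℂˣ, l ≠ 1 → ∀ x ∈ A, x ≠ 1 → thetaT t ψ l (t * x) = 0
  torA : ∀ l : ↥A →* ℂˣ, ∀ x : ↥A, (x : G) ≠ 1 →
    thetaA t ψ l (t * x) = -4 * (lin l x + lin l x⁻¹)
  one0 : classInner (theta0 t ψ T) 1 = 1
  one : ∀ j, classInner (theta t ψ T A j) 1 = 0
  oneT : ∀ l : ↥T →* ℂˣ, l ≠ 1 → classInner (thetaT t ψ l) 1 = 0
  oneA : ∀ l : ↥A →* ℂˣ, l ≠ 1 → classInner (thetaA t ψ l) 1 = 0
  inner00 : classInner (theta0 t ψ T) (theta0 t ψ T) = 4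
  inner0 : ∀ j, classInner (theta0 t ψ T) (theta t ψ T A j) = 2
  inner : ∀ j k, classInner (theta t ψ T A j) (theta t ψ T A k) = if j = k then 4 else 2
  inner0T : ∀ l : ↥T →* ℂˣ, l ≠ 1 → classInner (theta0 t ψ T) (thetaT t ψ l) = 0
  inner0A : ∀ l : ↥A →* ℂˣ, l ≠ 1 → classInner (theta0 t ψ T) (thetaA t ψ l) = 0
  innerT' : ∀ j, ∀ l : ↥T →* ℂˣ, l ≠ 1 → classInner (theta t ψ T A j) (thetaT t ψ l) = 0
  innerA' : ∀ j, ∀ l : ↥A →* ℂˣ, l ≠ 1 → classInner (theta t ψ T A j) (thetaA t ψ l) = 0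
  innerTA : ∀ l : ↥T →* ℂˣ, l ≠ 1 → ∀ m : ↥A →* ℂˣ, m ≠ 1 →
    classInner (thetaT t ψ l) (thetaA t ψ m) = 0
  innerTT : ∀ l m : ↥T →* ℂˣ, l ≠ 1 → m ≠ 1 → classInner (thetaT t ψ l) (thetaT t ψ m) =
    (if l = m then 2 else 0) + (if l = m⁻¹ then 2 else 0)
  innerAA : ∀ l m : ↥A →* ℂˣ, l ≠ 1 → m ≠ 1 → classInner (thetaA t ψ l) (thetaA t ψ m) =
    (if l = m then 4 else 0) + (if l = m⁻¹ then 4 else 0)
  /-- The value of an irreducible character at `t`. -/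
  value : ∀ [Fintype (↥T →* ℂˣ)] [Fintype (↥A →* ℂˣ)] (χ : G → ℂ), IsIrrCharacter G χ →
    χ t = classInner (theta0 t ψ T) χ +
      ((Q : ℂ) - 1) / 2 * (classInner (theta t ψ T A 0) χ + classInner (theta t ψ T A 1) χ) +
      ((Q : ℂ) + 1) / 2 * (∑ l : ↥T →* ℂˣ, if l = 1 then 0 else classInner (thetaT t ψ l) χ) +
      ((Q : ℂ) - 1) / 2 * (∑ l : ↥A →* ℂˣ, if l = 1 then 0 else classInner (thetaA t ψ l) χ)
  conj0 : ∀ g : G, conj (theta0 t ψ T g) = theta0 t ψ T g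
  conj_swap : Q = (q : ℤ) → ∀ j, ∀ g : G, conj (theta t ψ T A j g) = theta t ψ T A (1 - j) g
  conj_fix : Q = -(q : ℤ) → ∀ j, ∀ g : G, conj (theta t ψ T A j g) = theta t ψ T A j g

end Cfsg.Agent.AbelianSylow.Chars
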